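import Mathlib
import Cfsg.Prelude.Def_ClassicalGeometry
import Cfsg.Agent.ClassicalGeometry.SympAutSemi
import Cfsg.Agent.H813.SaxSpK
import Cfsg.Agent.ClassicalGeometry.AutPSpCount
import Cfsg.Agent.H348.Der.Class
import Cfsg.Agent.H458.SpAut
import Cfsg.Agent.H374.SpFour
import Cfsg.Agent.H884.ElRows_m3
import Cfsg.Agent.AutOrth.Main
import Cfsg.Agent.H377.OddThree_m3
import Cfsg.Agent.H72.Task106
import Cfsg.Agent.Lib.FieldAutCard
import Cfsg.Agent.H503.El.O83Main
import Cfsg.Agent.Lib.MatDec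
import Cfsg.Agent.Lib.PGroupFixedVector
import Cfsg.Agent.H251.GeoUMain
import Cfsg.Agent.H251.Small.U5
import Cfsg.Agent.OddOrderLocal.CyclicSub
import Cfsg.Agent.CpAut.SmallP.PslFour
import Cfsg.Agent.H180.MElBig
import Cfsg.Agent.S0380
import Cfsg.Agent.S2601
import Cfsg.Agent.H102.E7V.Psl34
import Cfsg.Agent.BpSpor.HeThree
import Cfsg.Agent.H392.UG.Base
import Cfsg.Agent.LieClassical.SUBasic
import Cfsg.Agent.H264.FKS.ResCore
import Cfsg.Agent.H659.HerAlt
import Cfsg.Agent.H824.ProdLem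
import Cfsg.Agent.H436.TTPsl2
import Cfsg.Agent.H421.PglSp
import Cfsg.Agent.S0815
import Cfsg.Agent.H341.ThreeList_m3
import Cfsg.Agent.FastGrp
import Cfsg.Agent.Prune
set_option linter.all false

section
prune_inst 0x7f00000000000000000000000000000000000000000000000000000000000000000000000000000000000000000000000000000000000000000000000000000000000000000000000000000000000000003fffffffffffffffffffffffffffaeffbdffffffff

section
prune_inst 0xffa9f8bbb811dfffff7e75a6b8cdfc1a901fffa6dff94b7fe061df0bdf030009c5f38d09e010fe0ed6401410a87843f97eeeffe26bd87ffffd1ff45ffbee5fe5f7bd08519488240f382ffe83f0678e7f000000000000000000000000000000000200000000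

-- part: H580/Der/Ntc
section
prune_inst 0x140444032c000000000050450003c129c0000000003080080a000400001e422804206000a000400000020000000002000000080404000000e00000000000120800040003200010c640017800080000000000000000000000000000000010000000000000
set_option linter.all false
open scoped Cfsg.Agent.FastGrp

-- part: H580/Der/Eig
section
/-!
# Semilinear conjugation of powers of an irreducible element (helper580, for S3502, S3500)

`pow_of_semi` : if `A` acts irreducibly on `F^ι` and a semilinear permutation conjugates `A ^ i` to `ε A ^ j`, then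
`ε A ^ j = (A ^ i) ^ (p ^ k)` for some `k`.
-/

set_option autoImplicit false

namespace Cfsg.Agent.H580.Der.Eig

open Polynomial Matrix

section field

variable {F K : Type*} [Field F] [Field K] [Finite K] [Algebra F K]

/-- the roots of the twisted minimal polynomial. -/
theorem exists_pow_of_root {p : ℕ} [Fact p.Prime] [CharP F p] (σ : F ≃+* F) {y z : K}
    (h : aeval z ((minpoly F y).map (σ : F →+* F)) = 0) : ∃ k : ℕ, z = y ^ p ^ k := by
  have hcK : CharP K p := (Algebra.charP_iff F K p).1 inferInstance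
  let _ : Algebra (ZMod p) K := ZMod.algebra K p
  let _ : Algebra (ZMod p) F := ZMod.algebra F p
  have hfin : Module.Finite (ZMod p) K := Module.Finite.of_finite
  have hint : IsIntegral (ZMod p) y := IsIntegral.of_finite _ _
  have htow : IsScalarTower (ZMod p) F K := IsScalarTower.of_algebraMap_eq' (RingHom.ext_zmod _ _)
  set m0 := minpoly (ZMod p) y with hm0
  have h1 : minpoly F y ∣ m0.map (algebraMap (ZMod p) F) := by
    apply minpoly.dvd
    rw [aeval_map_algebraMap, minpoly.aeval]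
  obtain ⟨Q, hQ⟩ := h1
  have h2 : m0.map (algebraMap (ZMod p) F) =
      ((minpoly F y).map (σ : F →+* F)) * (Q.map (σ : F →+* F)) := by
    rw [← Polynomial.map_mul, ← hQ, Polynomial.map_map]
    congr 1
    exact RingHom.ext_zmod _ _
  have h3 : aeval z m0 = 0 := by
    have : aeval z (m0.map (algebraMap (ZMod p) F)) = 0 := by
      rw [h2, map_mul, h, zero_mul]
    rwa [aeval_map_algebraMap] at this
  have h4 : IsConjRoot (ZMod p) y z := isConjRoot_of_aeval_eq_zero hint h3
  have hn : Normal (ZMod p) K := inferInstance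
  obtain ⟨τ, hτ⟩ := h4.symm.exists_algEquiv
  obtain ⟨n, hn⟩ := (FiniteField.bijective_frobeniusAlgEquivOfAlgebraic_pow (ZMod p) K).2 τ
  have h5 : ∀ k : ℕ, ∀ x : K, ((FiniteField.frobeniusAlgEquivOfAlgebraic (ZMod p) K) ^ k) x = x ^ p ^ k := by
    intro k x
    induction k with
    | zero => simp
    | succ k ih =>
      rw [pow_succ', AlgEquiv.mul_apply, ih, FiniteField.coe_frobeniusAlgEquivOfAlgebraic, ZMod.card, pow_succ,
        pow_mul]
  refine ⟨n, ?_⟩
  rw [← hτ, ← hn]
  exact h5 _ _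

end field

section semi

variable {ι : Type*} [Fintype ι] [DecidableEq ι] {F : Type*} [Field F]

/-- semilinear conjugation and polynomials. -/
theorem aeval_semi {g : Equiv.Perm (ι → F)} {σ : F ≃+* F} (hadd : ∀ u v, g (u + v) = g u + g v)
    (hsmul : ∀ (a : F) (v), g (a • v) = σ a • g v) {A C : Matrix ι ι F} (hC : ∀ v, C *ᵥ (g v) = g (A *ᵥ v)) (P : F[X])
    (v : ι → F) : (aeval C (P.map (σ : F →+* F))) *ᵥ (g v) = g ((aeval A P) *ᵥ v) := by
  induction P using Polynomial.induction_on' generalizing v with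
  | add P Q hP hQ => rw [Polynomial.map_add, map_add, map_add, Matrix.add_mulVec, Matrix.add_mulVec, hadd, hP, hQ]
  | monomial n a =>
    rw [Polynomial.map_monomial, aeval_monomial, aeval_monomial, ← Algebra.smul_def, ← Algebra.smul_def,
      Matrix.smul_mulVec, Matrix.smul_mulVec, hsmul]
    congr 1
    induction n generalizing v with
    | zero => simp
    | succ n ih => rw [pow_succ, pow_succ, ← Matrix.mulVec_mulVec, hC, ih, Matrix.mulVec_mulVec]

theorem aeval_semi_eq_zero {g : Equiv.Perm (ι → F)} {σ : F ≃+* F} (hadd : ∀ u v, g (u + v) = g u + g v)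
    (hsmul : ∀ (a : F) (v), g (a • v) = σ a • g v) {A C : Matrix ι ι F} (hC : ∀ v, C *ᵥ (g v) = g (A *ᵥ v)) {P : F[X]}
    (hP : aeval A P = 0) : aeval C (P.map (σ : F →+* F)) = 0 := by
  have h0 : g 0 = 0 := by
    have := hadd 0 0
    rw [add_zero] at this
    exact left_eq_add.1 this
  apply Matrix.toLin'.injective
  rw [map_zero]
  refine LinearMap.ext fun w => ?_
  rw [Matrix.toLin'_apply, LinearMap.zero_apply]
  obtain ⟨v, rfl⟩ := g.surjective w
  rw [aeval_semi hadd hsmul hC, hP, Matrix.zero_mulVec, h0]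

/-- The algebra generated by an irreducible element has no zero divisors. -/
theorem mul_eq_zero_of_irr {A : Matrix ι ι F}
    (hirr : ∀ W : Submodule F (ι → F), (∀ v ∈ W, A *ᵥ v ∈ W) → W = ⊥ ∨ W = ⊤) {c d : Matrix ι ι F}
    (hc : c ∈ Algebra.adjoin F {A}) (h : c * d = 0) : c = 0 ∨ d = 0 := by
  have hcomm : Commute c A := by
    have h1 : Algebra.adjoin F {A} ≤ Subalgebra.centralizer F {A} := by
      apply Algebra.adjoin_le
      rintro x rfl
      rw [SetLike.mem_coe, Subalgebra.mem_centralizer_iff]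
      rintro y rfl
      rfl
    exact ((Subalgebra.mem_centralizer_iff F).1 (h1 hc) A rfl).symm
  rcases hirr (LinearMap.ker (Matrix.toLin' c)) (fun v hv => by
    rw [LinearMap.mem_ker, Matrix.toLin'_apply] at hv ⊢
    rw [Matrix.mulVec_mulVec, hcomm.eq, ← Matrix.mulVec_mulVec, hv, Matrix.mulVec_zero]) with h1 | h1
  · right
    apply Matrix.toLin'.injective
    rw [map_zero]
    refine LinearMap.ext fun w => ?_
    rw [Matrix.toLin'_apply, LinearMap.zero_apply]
    have h2 : d *ᵥ w ∈ LinearMap.ker (Matrix.toLin' c) := by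
      rw [LinearMap.mem_ker, Matrix.toLin'_apply, Matrix.mulVec_mulVec, h, Matrix.zero_mulVec]
    rwa [h1, Submodule.mem_bot] at h2
  · left
    apply Matrix.toLin'.injective
    rw [map_zero]
    exact LinearMap.ker_eq_top.1 h1

/-- **Semilinear conjugation of powers.** -/
theorem pow_of_semi [Finite F] {p : ℕ} [Fact p.Prime] [CharP F p] [Nonempty ι] {A : Matrix ι ι F}
    (hirr : ∀ W : Submodule F (ι → F), (∀ v ∈ W, A *ᵥ v ∈ W) → W = ⊥ ∨ W = ⊤)
    {g : Equiv.Perm (ι → F)} {σ : F ≃+* F} (hadd : ∀ u v, g (u + v) = g u + g v)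
    (hsmul : ∀ (a : F) (v), g (a • v) = σ a • g v) {i j : ℕ} {ε : F}
    (hC : ∀ v, (ε • A ^ j) *ᵥ (g v) = g ((A ^ i) *ᵥ v)) : ∃ k : ℕ, ε • A ^ j = (A ^ i) ^ p ^ k := by
  classical
  let _ : CommRing (Algebra.adjoin F {A}) := Algebra.adjoinCommRingOfComm F (by
    rintro a rfl b rfl
    rfl)
  have hfin : Finite (Algebra.adjoin F {A}) := inferInstance
  have hnt : Nontrivial (Algebra.adjoin F {A}) := inferInstance
  have hnz : NoZeroDivisors (Algebra.adjoin F {A}) := ⟨by
    intro a b hab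
    rcases mul_eq_zero_of_irr hirr a.2 (congrArg Subtype.val hab) with h | h
    · exact Or.inl (Subtype.ext h)
    · exact Or.inr (Subtype.ext h)⟩
  have hdom : IsDomain (Algebra.adjoin F {A}) := NoZeroDivisors.to_isDomain _
  let _ : Field (Algebra.adjoin F {A}) := (Finite.isField_of_domain (Algebra.adjoin F {A})).toField
  have hA : A ∈ Algebra.adjoin F {A} := Algebra.self_mem_adjoin_singleton F A
  set y : Algebra.adjoin F {A} := ⟨A ^ i, Subalgebra.pow_mem _ hA i⟩ with hy
  set z : Algebra.adjoin F {A} := ⟨ε • A ^ j, Subalgebra.smul_mem _ (Subalgebra.pow_mem _ hA j) ε⟩ with hz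
  have h1 : aeval (A ^ i) (minpoly F y) = 0 := by
    have h2 := congrArg (Algebra.adjoin F {A}).val (minpoly.aeval F y)
    rw [← Polynomial.aeval_algHom_apply, map_zero] at h2
    exact h2
  have h3 := aeval_semi_eq_zero hadd hsmul hC h1
  have h4 : aeval z ((minpoly F y).map (σ : F →+* F)) = 0 := by
    apply Subtype.ext
    have h5 : (Algebra.adjoin F {A}).val (aeval z ((minpoly F y).map (σ : F →+* F))) =
        aeval (ε • A ^ j) ((minpoly F y).map (σ : F →+* F)) := by
      rw [← Polynomial.aeval_algHom_apply]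
      rfl
    rw [h3] at h5
    exact h5
  obtain ⟨k, hk⟩ := exists_pow_of_root σ h4
  exact ⟨k, congrArg Subtype.val hk⟩

end semi

end Cfsg.Agent.H580.Der.Eig
end

-- part: H580/Der/PspPow
section
/-!
# Automorphisms of `PSp_2m(q)` and powers of an element of order divisible by a primitive prime divisor (helper580)
-/

set_option autoImplicit false

namespace Cfsg.Agent.H580.Der.PspPow

open Cfsg Cfsg.Geo Matrix
open Cfsg.Agent.H262.El Cfsg.Agent.H876 Cfsg.Agent.H931
open Cfsg.Agent.ClassicalGeometry.SympBasic Cfsg.Agent.ClassicalGeometry.SympAutSemi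
open scoped MatrixGroups

variable {F : Type*} [Field F] [Fintype F] {m : ℕ}

/-- the class in `PSp`. -/
abbrev mk (A : Matrix.symplecticGroup (Fin m) F) : PSp m F := QuotientGroup.mk A

theorem mk_eq_one_iff {A : Matrix.symplecticGroup (Fin m) F} : mk A = 1 ↔ ∃ a : F, A.1 = a • 1 := by
  rw [mk, QuotientGroup.eq_one_iff]
  exact LieClassical.SympCenter.mem_center_iff m A

theorem sq_of_scalar (hm : 1 ≤ m) {A : Matrix.symplecticGroup (Fin m) F} {a : F} (hA : A.1 = a • 1) : A ^ 2 = 1 := by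
  have h1 : a ^ 2 = 1 := by
    have h2 := sympForm_rho A (Pi.single (Sum.inr ⟨0, hm⟩) 1) (Pi.single (Sum.inl ⟨0, hm⟩) 1)
    rw [rho_apply, rho_apply, hA, Matrix.smul_mulVec, Matrix.smul_mulVec, Matrix.one_mulVec, Matrix.one_mulVec,
      sympForm_smul_left, sympForm_smul_right, sympForm_single_inr_left, Pi.single_eq_same] at h2
    rw [sq]
    simpa only [_root_.mul_one] using h2
  apply Subtype.ext
  show A.1 ^ 2 = 1
  rw [hA, _root_.smul_pow, h1, one_pow, one_smul]

/-- elements of order divisible by a primitive prime divisor act irreducibly. -/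
theorem irr_of_dvd (hm : 1 ≤ m) {r : ℕ} (hr : Od (Fintype.card F) (2 * m) r) (hr2 : r ≠ 2)
    {A : Matrix.symplecticGroup (Fin m) F} (hd : r ∣ orderOf (mk A)) (h0 : orderOf (mk A) ≠ 0)
    (W : Submodule F (Fin m ⊕ Fin m → F)) (hW : ∀ v ∈ W, A.1 *ᵥ v ∈ W) : W = ⊥ ∨ W = ⊤ := by
  obtain ⟨c, hc⟩ := hd
  have hc0 : c ≠ 0 := by
    rintro rfl
    rw [mul_zero] at hc
    exact h0 hc
  have h1 : orderOf (mk (A ^ c)) = r := by
    have : mk (A ^ c) = mk A ^ c := rfl
    rw [this, orderOf_pow_of_dvd hc0 ⟨r, by rw [hc, mul_comm]⟩, hc, Nat.mul_div_cancel _ (Nat.pos_of_ne_zero hc0)]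
  have h2 : mk ((A ^ c) ^ r) = 1 := by
    have : mk ((A ^ c) ^ r) = mk (A ^ c) ^ r := rfl
    rw [this, ← h1, pow_orderOf_eq_one]
  obtain ⟨a, ha⟩ := mk_eq_one_iff.1 h2
  have h3 := sq_of_scalar hm ha
  set y : GL (Fin m ⊕ Fin m) F := spToGL m F ((A ^ c) ^ 2) with hy
  have hyr : y ^ r = 1 := by
    rw [hy, ← map_pow, ← pow_mul, mul_comm 2 r, pow_mul, h3, map_one]
  have hy1 : y ≠ 1 := by
    intro h
    have h4 : (A ^ c) ^ 2 = 1 := spToGL_injective (by rw [← hy, h, map_one])
    have h5 : mk (A ^ c) ^ 2 = 1 := by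
      have : mk (A ^ c) ^ 2 = mk ((A ^ c) ^ 2) := rfl
      rw [this, h4]
      rfl
    have h6 := orderOf_dvd_of_pow_eq_one h5
    rw [h1] at h6
    exact hr2 ((Nat.prime_dvd_prime_iff_eq hr.prime Nat.prime_two).1 h6)
  have hι : Fintype.card (Fin m ⊕ Fin m) = 2 * m := Cfsg.Agent.H931.card_sum_fin
  refine irr_of_od (by rw [hι]; exact hr) hyr hy1 W fun v hv => ?_
  have key : ∀ n : ℕ, ∀ v ∈ W, (A ^ n).1 *ᵥ v ∈ W := by
    intro n
    induction n with
    | zero => intro v hv; simpa only [_root_.pow_zero, _root_.OneMemClass.coe_one, _root_.Matrix.one_mulVec] using hv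
    | succ n ih =>
      intro v hv
      rw [pow_succ]
      show ((A ^ n).1 * A.1) *ᵥ v ∈ W
      rw [← Matrix.mulVec_mulVec]
      exact ih _ (hW v hv)
  have h7 := key (c * 2) v hv
  rw [pow_mul] at h7
  exact h7

/-- **Semilinear automorphisms and powers.** -/
theorem pow_of_psi (hm : 1 ≤ m) {p : ℕ} [Fact p.Prime] [CharP F p] {A : Matrix.symplecticGroup (Fin m) F}
    (hirr : ∀ W : Submodule F (Fin m ⊕ Fin m → F), (∀ v ∈ W, A.1 *ᵥ v ∈ W) → W = ⊥ ∨ W = ⊤)
    {ψ : MulAut (PSp m F)} (hψ : ψ ∈ (Psi m F).range) {i j : ℕ} (h : ψ (mk A ^ i) = mk A ^ j) :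
    ∃ k : ℕ, mk A ^ j = mk A ^ (i * p ^ k) := by
  obtain ⟨g, rfl⟩ := hψ
  obtain ⟨φ, l, hl, hs⟩ := g.2
  have h1 : mk (conjHom m F g (A ^ i)) = mk (A ^ j) := h
  have h2 : mk ((conjHom m F g (A ^ i)) * (A ^ j)⁻¹) = 1 := by
    have : mk ((conjHom m F g (A ^ i)) * (A ^ j)⁻¹) = mk (conjHom m F g (A ^ i)) * (mk (A ^ j))⁻¹ := rfl
    rw [this, h1, mul_inv_cancel]
  obtain ⟨ε, hε⟩ := mk_eq_one_iff.1 h2
  have h3 : (conjHom m F g (A ^ i)).1 = ε • A.1 ^ j := by
    have h4 : conjHom m F g (A ^ i) = ((conjHom m F g (A ^ i)) * (A ^ j)⁻¹) * A ^ j := by group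
    rw [h4]
    show (((conjHom m F g (A ^ i)) * (A ^ j)⁻¹ : Matrix.symplecticGroup (Fin m) F)).1 * (A ^ j).1 = _
    rw [hε, Matrix.smul_mul, one_mul]
    rfl
  have hne : Nonempty (Fin m ⊕ Fin m) := ⟨Sum.inl ⟨0, hm⟩⟩
  obtain ⟨k, hk⟩ := Eig.pow_of_semi (A := A.1) hirr (g := g.1) (σ := φ) hs.1 hs.2.1 (i := i) (j := j) (ε := ε) (p := p)
    (fun v => by
      have h5 := congrArg (fun e : Equiv.Perm (Fin m ⊕ Fin m → F) => e (g.1 v)) (rho_conjHom g (A ^ i))
      simp only [Equiv.Perm.mul_apply] at h5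
      rw [rho_apply, h3] at h5
      rw [h5]
      congr 1
      rw [perm_inv_apply_self]
      rfl)
  refine ⟨k, ?_⟩
  have h6 : conjHom m F g (A ^ i) = A ^ (i * p ^ k) := by
    apply Subtype.ext
    rw [h3, hk, pow_mul]
    rfl
  have h7 : mk (A ^ j) = mk (A ^ (i * p ^ k)) := by rw [← h1, h6]
  exact h7

end Cfsg.Agent.H580.Der.PspPow
end

-- part: H580/Der/Num
section
/-!
# Powers of `p` modulo `q² + 1` (helper580, for S3502, S3500)
-/

set_option autoImplicit false

namespace Cfsg.Agent.H580.Der.Num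

/-- powers modulo `b ^ e + 1`. -/
theorem reduce {b e N : ℕ} (he : 1 ≤ e) (hN : N ∣ b ^ e + 1) (k : ℕ) :
    ∃ k' < e, (N : ℤ) ∣ (b : ℤ) ^ k - (b : ℤ) ^ k' ∨ (N : ℤ) ∣ (b : ℤ) ^ k + (b : ℤ) ^ k' := by
  refine ⟨k % e, Nat.mod_lt _ (by omega), ?_⟩
  have h1 : (N : ℤ) ∣ (b : ℤ) ^ e - (-1) := by
    have := Int.natCast_dvd_natCast.2 hN
    push_cast at this
    rwa [sub_neg_eq_add]
  have h2 : (N : ℤ) ∣ ((b : ℤ) ^ e) ^ (k / e) - (-1) ^ (k / e) := h1.trans (sub_dvd_pow_sub_pow _ _ _)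
  have h3 : (b : ℤ) ^ k = ((b : ℤ) ^ e) ^ (k / e) * (b : ℤ) ^ (k % e) := by
    rw [← pow_mul, ← pow_add, Nat.div_add_mod]
  rcases neg_one_pow_eq_or ℤ (k / e) with h4 | h4
  · left
    rw [h4] at h2
    have : (b : ℤ) ^ k - (b : ℤ) ^ (k % e) = (((b : ℤ) ^ e) ^ (k / e) - 1) * (b : ℤ) ^ (k % e) := by
      rw [h3]; ring
    rw [this]
    exact h2.mul_right _
  · right
    rw [h4] at h2
    have : (b : ℤ) ^ k + (b : ℤ) ^ (k % e) = (((b : ℤ) ^ e) ^ (k / e) - (-1)) * (b : ℤ) ^ (k % e) := by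
      rw [h3]; ring
    rw [this]
    exact h2.mul_right _

/-- from a congruence `i b ^ k ≡ j`. -/
theorem of_modEq {b e N i j k : ℕ} (he : 1 ≤ e) (hN : N ∣ b ^ e + 1) (h : i * b ^ k ≡ j [MOD N]) :
    ∃ k' < e, (N : ℤ) ∣ (i : ℤ) * (b : ℤ) ^ k' - j ∨ (N : ℤ) ∣ (i : ℤ) * (b : ℤ) ^ k' + j := by
  obtain ⟨k', hk', h1⟩ := reduce he hN k
  refine ⟨k', hk', ?_⟩
  have h2 : (N : ℤ) ∣ (i : ℤ) * (b : ℤ) ^ k - j := by
    have := (Int.natCast_modEq_iff.2 h).symm.dvd
    push_cast at this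
    exact this
  rcases h1 with h1 | h1
  · left
    have : (i : ℤ) * (b : ℤ) ^ k' - j = ((i : ℤ) * (b : ℤ) ^ k - j) - (i : ℤ) * ((b : ℤ) ^ k - (b : ℤ) ^ k') := by ring
    rw [this]
    exact dvd_sub h2 (h1.mul_left _)
  · right
    have : (i : ℤ) * (b : ℤ) ^ k' + j = (i : ℤ) * ((b : ℤ) ^ k + (b : ℤ) ^ k') - ((i : ℤ) * (b : ℤ) ^ k - j) := by ring
    rw [this]
    exact dvd_sub (h1.mul_left _) h2

/-- **odd `q`**: `p ^ k ≢ 2, 4` modulo `(q² + 1) / 2`. -/
theorem odd_case {p f N : ℕ} (hp : 3 ≤ p) (hpo : Odd p) (hf : 1 ≤ f) (hN : 2 * N = p ^ (2 * f) + 1) (hN13 : 13 ≤ N) {c k : ℕ}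
    (hc : c = 2 ∨ c = 4) : ¬ p ^ k ≡ c [MOD N] := by
  intro h
  obtain ⟨k', hk', h1⟩ := of_modEq (b := p) (e := 2 * f) (N := N) (i := 1) (j := c) (k := k) (by omega) ⟨2, by omega⟩ (by rwa [one_mul])
  have h2 : p ^ k' * 3 ≤ p ^ (2 * f) := by
    calc p ^ k' * 3 ≤ p ^ k' * p := Nat.mul_le_mul_left _ hp
      _ = p ^ (k' + 1) := (pow_succ _ _).symm
      _ ≤ p ^ (2 * f) := Nat.pow_le_pow_right (by omega) (by omega)
  have h3 : Odd (p ^ k') := hpo.pow
  obtain ⟨x, hx⟩ : ∃ x, x = p ^ k' := ⟨_, rfl⟩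
  have hx' : (x : ℤ) = (p : ℤ) ^ k' := by rw [hx]; push_cast; ring
  rw [← hx] at h2 h3
  rw [← hx'] at h1
  obtain ⟨y, hy⟩ := h3
  have h4 : 1 ≤ x := by omega
  push_cast [one_mul] at h1
  rcases h1 with ⟨t, ht⟩ | ⟨t, ht⟩
  · have h5 : (x : ℤ) - c ≠ 0 := by rcases hc with rfl | rfl <;> push_cast <;> omega
    have h6 : t ≠ 0 := by rintro rfl; rw [mul_zero] at ht; exact h5 (by simpa using ht)
    have h7 : (N : ℤ) ≤ |(x : ℤ) - c| := by
      have := Int.le_of_dvd (abs_pos.2 h5) ((dvd_abs _ _).2 ⟨t, by simpa using ht⟩)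
      exact this
    rw [le_abs] at h7
    rcases hc with rfl | rfl <;> push_cast at h7 <;> (clear * - hN h2 hy h7 hN13; omega)
  · have h7 : (N : ℤ) ≤ (x : ℤ) + c := Int.le_of_dvd (by positivity) ⟨t, by simpa using ht⟩
    rcases hc with rfl | rfl <;> push_cast at h7 <;> (clear * - hN hN13 h2 h7; omega)

/-- **even `q ≥ 8`**: `2 ^ k ≢ 9, 25` and `9 2 ^ k ≢ 25` modulo `q² + 1`. -/
theorem even_case {f N : ℕ} (hf : 3 ≤ f) (hN : N = 2 ^ (2 * f) + 1) {c d k : ℕ}
    (hc : (c = 1 ∧ d = 9) ∨ (c = 1 ∧ d = 25) ∨ (c = 9 ∧ d = 25)) : ¬ c * 2 ^ k ≡ d [MOD N] := by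
  intro h
  obtain ⟨k', hk', h1⟩ := of_modEq (b := 2) (e := 2 * f) (N := N) (by omega) (by rw [hN]) h
  obtain ⟨Q, hQ⟩ : ∃ Q, 2 ^ (2 * f) = 64 * Q := ⟨2 ^ (2 * f - 6), by
    rw [show (64 : ℕ) = 2 ^ 6 by norm_num, ← pow_add]
    congr 1
    omega⟩
  have h2 : 2 ^ k' * 2 ≤ 64 * Q := by
    rw [← hQ, ← pow_succ]
    exact Nat.pow_le_pow_right (by norm_num) (by omega)
  have hQ1 : 1 ≤ Q := by
    rcases Nat.eq_zero_or_pos Q with h0 | h0
    · rw [h0] at hQ
      simp at hQ
    · exact h0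
  rw [hQ] at hN
  obtain ⟨x, hx⟩ : ∃ x, x = 2 ^ k' := ⟨_, rfl⟩
  have hx' : (x : ℤ) = (2 : ℤ) ^ k' := by rw [hx]; push_cast; ring
  have hxc : x = 1 ∨ x = 2 ∨ x = 4 ∨ x = 8 ∨ ∃ w, x = 16 * w := by
    rcases Nat.lt_or_ge k' 4 with h4 | h4
    · interval_cases k' <;> simp [hx]
    · right; right; right; right
      refine ⟨2 ^ (k' - 4), ?_⟩
      rw [hx, show (16 : ℕ) = 2 ^ 4 by norm_num, ← pow_add]
      congr 1
      omega
  rw [← hx] at h2
  push_cast at h1
  rw [← hx'] at h1
  rcases h1 with ⟨t, ht⟩ | ⟨t, ht⟩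
  all_goals
    have ht5 : t < 5 := by
      by_contra hcon
      push Not at hcon
      have h5 : (N : ℤ) * 5 ≤ (N : ℤ) * t := Int.mul_le_mul_of_nonneg_left hcon (by (clear * -; positivity))
      rcases hc with ⟨rfl, rfl⟩ | ⟨rfl, rfl⟩ | ⟨rfl, rfl⟩ <;> push_cast at ht <;> omega
    have ht0 : -1 < t := by
      by_contra hcon
      push Not at hcon
      have h5 : (N : ℤ) * t ≤ (N : ℤ) * (-1) := Int.mul_le_mul_of_nonneg_left hcon (by (clear * -; positivity))
      rcases hc with ⟨rfl, rfl⟩ | ⟨rfl, rfl⟩ | ⟨rfl, rfl⟩ <;> push_cast at ht <;> (clear * - hN hQ1 h5 ht; omega)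
    interval_cases t <;> rcases hc with ⟨rfl, rfl⟩ | ⟨rfl, rfl⟩ | ⟨rfl, rfl⟩ <;> push_cast at ht <;>
      rcases hxc with h4 | h4 | h4 | h4 | ⟨w, h4⟩ <;> (clear * - hx hx' ht h4 hN h2; omega)

end Cfsg.Agent.H580.Der.Num
end

-- part: H580/Der/PspCls
section
/-!
# Three classes of elements of order divisible by a prime divisor of `q² + 1` in `PSp_4(q)` (helper580)

`not_SCC_big` : `¬ SCC (PSp 2 F) v` for `q ≥ 5` and every odd prime divisor `v` of `q² + 1`.
-/

set_option autoImplicit false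

namespace Cfsg.Agent.H580.Der.PspCls

open Cfsg Cfsg.Geo
open Cfsg.Agent.H580.Der.PspPow Cfsg.Agent.H439.Der Cfsg.Agent.H884.El
open Cfsg.Agent.ClassicalGeometry.SympBasic Cfsg.Agent.ClassicalGeometry.SympAutSemi

variable {F : Type} [Field F] [Fintype F]

/-- all automorphisms are semilinear. -/
theorem range_top {m : ℕ} (hm : 2 ≤ m) (h : 3 ≤ m ∨ (2 : F) ≠ 0) : (Psi m F).range = ⊤ := by
  rw [eq_top_iff]
  intro α _
  obtain ⟨g, hg⟩ := Cfsg.Agent.ClassicalGeometry.SympAutExists.exists_semi hm α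
    (Cfsg.Agent.ClassicalGeometry.SympAutOddA.recog hm h α)
  exact ⟨g, hg⟩

/-- squares of automorphisms are semilinear. -/
theorem sq_mem {m : ℕ} (hm : 2 ≤ m) (h22 : m = 2 → 3 ≤ Fintype.card F) (ψ : MulAut (PSp m F)) :
    ψ * ψ ∈ (Psi m F).range := by
  rcases Cfsg.Agent.H458.SpAut.index_le (F := F) hm h22 with h | h
  · rw [Subgroup.index_eq_one.1 h]
    trivial
  · rw [← sq]
    exact Subgroup.sq_mem_of_index_two h ψ

/-- powers of an irreducible element conjugate under semilinear automorphisms. -/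
theorem modEq_of_psi {m : ℕ} (hm : 1 ≤ m) {p : ℕ} [Fact p.Prime] [CharP F p] {r : ℕ}
    (hr : Cfsg.Agent.H262.El.Od (Fintype.card F) (2 * m) r) (hr2 : r ≠ 2) {x : PSp m F} (hrx : r ∣ orderOf x)
    {ψ : MulAut (PSp m F)} (hψ : ψ ∈ (Psi m F).range) {i j : ℕ} (h : ψ (x ^ i) = x ^ j) :
    ∃ k : ℕ, i * p ^ k ≡ j [MOD orderOf x] := by
  obtain ⟨A, rfl⟩ := QuotientGroup.mk_surjective x
  have hirr := irr_of_dvd hm hr hr2 (A := A) hrx (orderOf_pos _).ne'
  obtain ⟨k, hk⟩ := pow_of_psi hm (p := p) hirr hψ h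
  exact ⟨k, (pow_eq_pow_iff_modEq.1 hk).symm⟩

/-- the exponent `N = (q² + 1) / (2, q - 1)` -/
theorem exists_big (h5 : 5 ≤ Fintype.card F) : ∃ (r : ℕ) (x : PSp 2 F),
    orderOf x = (Fintype.card F ^ 2 + 1) / Nat.gcd 2 (Fintype.card F - 1) ∧
      Cfsg.Agent.H262.El.Od (Fintype.card F) (2 * 2) r ∧ r ≠ 2 ∧ r ∣ orderOf x := by
  obtain ⟨p, hpc⟩ := CharP.exists F
  obtain ⟨n, hp, hn⟩ := FiniteField.card F p
  have hpf := Fact.mk hp
  have h3 : 3 ≤ p ^ (n : ℕ) := by
    rw [← hn]
    omega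
  obtain ⟨x, hx⟩ := (Cfsg.Agent.H374.SpFour.exists_iff (F := F) (p := p) n.2.ne' hn h3
    (((p ^ (n : ℕ)) ^ 2 + 1) / Nat.gcd 2 (p ^ (n : ℕ) - 1))).2 (Or.inr (Or.inr (Or.inr (Or.inl dvd_rfl))))
  obtain ⟨r, hr⟩ := exists_pp (q := Fintype.card F) (e := 4) (by omega) (by norm_num) (fun h => by omega)
  have hr2 : r ≠ 2 := by have := hr.lt (by norm_num); omega
  refine ⟨r, x, by rw [hx, hn], ⟨hr.prime, hr.ord, hr.not_dvd (by norm_num)⟩, hr2, ?_⟩
  rw [hx, ← hn]
  have h1 : r ∣ Fintype.card F ^ 2 + 1 := by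
    have h2 : r ∣ (Fintype.card F ^ 2 - 1) * (Fintype.card F ^ 2 + 1) := by
      have h3 : (Fintype.card F ^ 2 - 1) * (Fintype.card F ^ 2 + 1) = Fintype.card F ^ 4 - 1 := by
        obtain ⟨c, hc⟩ : ∃ c, Fintype.card F ^ 2 = c + 1 := ⟨Fintype.card F ^ 2 - 1, by
          have : 1 ≤ Fintype.card F ^ 2 := Nat.one_le_pow _ _ (by omega)
          omega⟩
        rw [show Fintype.card F ^ 4 = (Fintype.card F ^ 2) ^ 2 by ring, hc]
        have : (c + 1) ^ 2 = c * (c + 1 + 1) + 1 := by ring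
        rw [this]
        simp only [_root_.add_tsub_cancel_right]
      rw [h3, hr.dvd_iff (by omega)]
    rcases hr.prime.dvd_mul.1 h2 with h | h
    · rw [hr.dvd_iff (by omega)] at h
      exact absurd (Nat.le_of_dvd (by norm_num) h) (by norm_num)
    · exact h
  have hg : Nat.gcd 2 (Fintype.card F - 1) ∣ Fintype.card F ^ 2 + 1 := by
    rcases Nat.even_or_odd (Fintype.card F) with he | ho
    · rw [Cfsg.Agent.H374.Quad.gcd_of_even he (by omega)]
      exact one_dvd _
    · rw [Cfsg.Agent.H374.Quad.gcd_of_odd ho]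
      exact (ho.pow.add_one : Even (Fintype.card F ^ 2 + 1)).two_dvd
  obtain ⟨c, hc⟩ := hg
  have hg0 : 0 < Nat.gcd 2 (Fintype.card F - 1) := Nat.gcd_pos_of_pos_left _ (by norm_num)
  rw [hc, Nat.mul_div_cancel_left _ hg0]
  rw [hc] at h1
  refine (Nat.Coprime.dvd_of_dvd_mul_left ?_ h1)
  refine Nat.Coprime.coprime_dvd_right (Nat.gcd_dvd_left _ _) ?_
  exact (Nat.coprime_primes hr.prime Nat.prime_two).2 hr2

theorem two_ne_zero_of_odd (hodd : Odd (Fintype.card F)) : (2 : F) ≠ 0 := by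
  obtain ⟨p, hpc⟩ := CharP.exists F
  obtain ⟨n, hp, hn⟩ := FiniteField.card F p
  intro h
  have h1 : p ∣ 2 := (CharP.cast_eq_zero_iff F p 2).1 (by exact_mod_cast h)
  have h2 : p = 2 := (Nat.prime_dvd_prime_iff_eq hp Nat.prime_two).1 h1
  rw [hn, h2] at hodd
  exact (Nat.not_even_iff_odd.2 hodd) (Even.pow_of_ne_zero even_two n.2.ne')

/-- **`q` odd**: three classes of elements of order `(q² + 1) / 2`. -/
theorem three_odd (h5 : 5 ≤ Fintype.card F) (hodd : Odd (Fintype.card F)) : ∃ x y z : PSp 2 F,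
    orderOf x = (Fintype.card F ^ 2 + 1) / 2 ∧ orderOf y = (Fintype.card F ^ 2 + 1) / 2 ∧
    orderOf z = (Fintype.card F ^ 2 + 1) / 2 ∧
    (∀ φ : PSp 2 F ≃* PSp 2 F, φ x ≠ y) ∧ (∀ φ : PSp 2 F ≃* PSp 2 F, φ x ≠ z) ∧
    (∀ φ : PSp 2 F ≃* PSp 2 F, φ y ≠ z) := by
  obtain ⟨p, hpc⟩ := CharP.exists F
  obtain ⟨n, hp, hn⟩ := FiniteField.card F p
  have hpf := Fact.mk hp
  obtain ⟨r, x, hx, hr, hr2, hrx⟩ := exists_big h5
  rw [Cfsg.Agent.H374.Quad.gcd_of_odd hodd] at hx
  have h2F := two_ne_zero_of_odd hodd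
  have hp2 : p ≠ 2 := by
    rintro rfl
    exact h2F (by exact_mod_cast CharP.cast_eq_zero F 2)
  have hpo := hp.odd_of_ne_two hp2
  have hp3 : 3 ≤ p := by have := hp.two_le; omega
  obtain ⟨N, hN⟩ : ∃ N, Fintype.card F ^ 2 + 1 = 2 * N := (hodd.pow.add_one : Even (Fintype.card F ^ 2 + 1)).two_dvd
  have hNd : (Fintype.card F ^ 2 + 1) / 2 = N := by omega
  have hNp : 2 * N = p ^ (2 * (n : ℕ)) + 1 := by rw [← hN, hn, ← pow_mul, mul_comm]
  have h25 : 5 * 5 ≤ Fintype.card F ^ 2 := by rw [sq]; exact Nat.mul_le_mul h5 h5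
  have hN13 : 13 ≤ N := by omega
  have hNo : ¬ 2 ∣ N := by
    obtain ⟨a, ha⟩ := hodd
    rintro ⟨b, rfl⟩
    rw [ha] at hN
    have : (2 * a + 1) ^ 2 + 1 = 4 * (a ^ 2 + a) + 2 := by ring
    omega
  rw [hNd] at hx ⊢
  have hcop : Nat.Coprime N 2 := ((Nat.Prime.coprime_iff_not_dvd Nat.prime_two).2 hNo).symm
  have hcop4 : Nat.Coprime N 4 := by
    rw [show 4 = 2 ^ 2 by norm_num]
    exact hcop.pow_right 2
  have hm : ∀ (i j : ℕ) (φ : PSp 2 F ≃* PSp 2 F), φ (x ^ i) = x ^ j → ∃ k, i * p ^ k ≡ j [MOD N] := by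
    intro i j φ h
    rw [← hx]
    exact modEq_of_psi (by norm_num) hr hr2 hrx (ψ := φ) (by rw [range_top le_rfl (Or.inr h2F)]; trivial) h
  refine ⟨x, x ^ 2, x ^ 4, hx, ?_, ?_, fun φ h => ?_, fun φ h => ?_, fun φ h => ?_⟩
  · rw [Nat.Coprime.orderOf_pow (by rwa [hx]), hx]
  · rw [Nat.Coprime.orderOf_pow (by rwa [hx]), hx]
  · obtain ⟨k, hk⟩ := hm 1 2 φ (by rwa [pow_one])
    rw [one_mul] at hk
    exact Num.odd_case hp3 hpo n.pos hNp hN13 (Or.inl rfl) hk
  · obtain ⟨k, hk⟩ := hm 1 4 φ (by rwa [pow_one])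
    rw [one_mul] at hk
    exact Num.odd_case hp3 hpo n.pos hNp hN13 (Or.inr rfl) hk
  · obtain ⟨k, hk⟩ := hm 2 4 φ h
    refine Num.odd_case (k := k) hp3 hpo n.pos hNp hN13 (Or.inl rfl) ?_
    exact Nat.ModEq.cancel_left_of_coprime hcop hk

/-- **`q` even**: elements `x`, `x ^ 3`, `x ^ 5`. -/
theorem three_even (h8 : 8 ≤ Fintype.card F) (heven : Even (Fintype.card F)) : ∃ x : PSp 2 F,
    orderOf x = Fintype.card F ^ 2 + 1 ∧
    (∀ φ : PSp 2 F ≃* PSp 2 F, φ x ≠ x ^ 3) ∧ (∀ φ : PSp 2 F ≃* PSp 2 F, φ x ≠ x ^ 5) ∧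
    (∀ φ : PSp 2 F ≃* PSp 2 F, φ (x ^ 3) ≠ x ^ 5) := by
  obtain ⟨p, hpc⟩ := CharP.exists F
  obtain ⟨n, hp, hn⟩ := FiniteField.card F p
  have hpf := Fact.mk hp
  obtain ⟨r, x, hx, hr, hr2, hrx⟩ := exists_big (F := F) (by omega)
  rw [Cfsg.Agent.H374.Quad.gcd_of_even heven (by omega), Nat.div_one] at hx
  have hp2 : p = 2 := by
    rw [hn] at heven
    exact (hp.even_iff).1 (Nat.even_pow.1 heven).1
  subst hp2
  have hn3 : 3 ≤ (n : ℕ) := by
    by_contra hcon
    have h1 : (n : ℕ) ≤ 2 := by omega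
    have h2 : 2 ^ (n : ℕ) ≤ 2 ^ 2 := Nat.pow_le_pow_right (by norm_num) h1
    omega
  have hNp : orderOf x = 2 ^ (2 * (n : ℕ)) + 1 := by rw [hx, hn, ← pow_mul, mul_comm]
  have hm : ∀ (i j : ℕ) (φ : PSp 2 F ≃* PSp 2 F), φ (x ^ i) = x ^ j → ∃ k, (i * i) * 2 ^ k ≡ j * j [MOD orderOf x] := by
    intro i j φ h
    refine modEq_of_psi (ψ := (φ : MulAut (PSp 2 F)) * φ) (by norm_num) hr hr2 hrx
      (sq_mem le_rfl (fun _ => by omega) φ) ?_
    rw [MulAut.mul_apply, pow_mul, map_pow, h, ← pow_mul, mul_comm j i, pow_mul, map_pow, h, ← pow_mul]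
  refine ⟨x, hx, fun φ h => ?_, fun φ h => ?_, fun φ h => ?_⟩
  · obtain ⟨k, hk⟩ := hm 1 3 φ (by rwa [pow_one])
    exact Num.even_case hn3 hNp (Or.inl ⟨rfl, rfl⟩) hk
  · obtain ⟨k, hk⟩ := hm 1 5 φ (by rwa [pow_one])
    exact Num.even_case hn3 hNp (Or.inr (Or.inl ⟨rfl, rfl⟩)) hk
  · obtain ⟨k, hk⟩ := hm 3 5 φ h
    exact Num.even_case hn3 hNp (Or.inr (Or.inr ⟨rfl, rfl⟩)) hk

/-- **Three classes.** -/
theorem not_SCC_big (h5 : 5 ≤ Fintype.card F) {v : ℕ} (hv : v.Prime) (hv2 : v ≠ 2) (hd : v ∣ Fintype.card F ^ 2 + 1) :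
    ¬ SCC (PSp 2 F) v := by
  rcases Nat.even_or_odd (Fintype.card F) with he | ho
  · have h8 : 8 ≤ Fintype.card F := by
      obtain ⟨p, hpc⟩ := CharP.exists F
      obtain ⟨n, hp, hn⟩ := FiniteField.card F p
      have hp2 : p = 2 := by
        rw [hn] at he
        exact (hp.even_iff).1 (Nat.even_pow.1 he).1
      subst hp2
      rw [hn] at h5 ⊢
      have hn3 : 3 ≤ (n : ℕ) := by
        by_contra hcon
        have h1 : (n : ℕ) ≤ 2 := by omega
        have h2 : 2 ^ (n : ℕ) ≤ 2 ^ 2 := Nat.pow_le_pow_right (by norm_num) h1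
        omega
      calc 8 = 2 ^ 3 := by norm_num
        _ ≤ 2 ^ (n : ℕ) := Nat.pow_le_pow_right (by norm_num) hn3
    obtain ⟨x, hx, h1, h2, h3⟩ := three_even h8 he
    have h64 : 8 * 8 ≤ Fintype.card F ^ 2 := by rw [sq]; exact Nat.mul_le_mul h8 h8
    have hd' : v ∣ orderOf x := by rwa [hx]
    have h3N : ¬ 3 ∣ orderOf x := by
      rw [hx]
      have h5 : Fintype.card F ^ 2 % 3 = (Fintype.card F % 3) ^ 2 % 3 := Nat.pow_mod _ _ _
      have h6 : Fintype.card F % 3 < 3 := Nat.mod_lt _ (by norm_num)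
      interval_cases h7 : Fintype.card F % 3 <;> (clear * - h5; omega)
    have ho3 : orderOf (x ^ 3) = orderOf x :=
      Nat.Coprime.orderOf_pow ((Nat.Prime.coprime_iff_not_dvd Nat.prime_three).2 h3N).symm
    by_cases hv5 : v = 5
    · subst hv5
      obtain ⟨c, hc⟩ := hd'
      have hc0 : c ≠ 0 := by
        rintro rfl
        rw [hx] at hc
        omega
      have h5' : orderOf (x ^ c) = 5 := by
        rw [orderOf_pow_of_dvd hc0 ⟨5, by rw [hc, mul_comm]⟩, hc, Nat.mul_div_cancel _ (Nat.pos_of_ne_zero hc0)]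
      have hne : orderOf x ≠ 5 := by rw [hx]; omega
      refine not_SCC_of_three (x := x) (y := x ^ 3) (z := x ^ c) ⟨c, hc⟩ (by rw [ho3]; exact ⟨c, hc⟩) (by rw [h5']) h1
        (fun φ h => ?_) (fun φ h => ?_)
      · apply hne
        rw [← h5', ← h, MulEquiv.orderOf_eq]
      · apply hne
        rw [← h5', ← h, MulEquiv.orderOf_eq, ho3]
    · refine not_SCC_of_three (x := x) (y := x ^ 3) (z := x ^ 5) hd' (by rw [ho3]; exact hd') ?_ h1 h2 h3
      rw [orderOf_pow]
      have h4 : orderOf x = Nat.gcd (orderOf x) 5 * (orderOf x / Nat.gcd (orderOf x) 5) :=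
        (Nat.mul_div_cancel' (Nat.gcd_dvd_left _ _)).symm
      rw [h4] at hd'
      rcases hv.dvd_mul.1 hd' with h | h
      · have := (Nat.prime_dvd_prime_iff_eq hv (by norm_num)).1 (h.trans (Nat.gcd_dvd_right _ _))
        exact absurd this hv5
      · exact h
  · obtain ⟨x, y, z, hx, hy, hz, h1, h2, h3⟩ := three_odd h5 ho
    have hd' : v ∣ (Fintype.card F ^ 2 + 1) / 2 := by
      obtain ⟨N, hN⟩ : ∃ N, Fintype.card F ^ 2 + 1 = 2 * N := (ho.pow.add_one : Even (Fintype.card F ^ 2 + 1)).two_dvd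
      rw [hN] at hd ⊢
      rw [Nat.mul_div_cancel_left _ (by norm_num)]
      rcases hv.dvd_mul.1 hd with h | h
      · exact absurd ((Nat.prime_dvd_prime_iff_eq hv Nat.prime_two).1 h) hv2
      · exact h
    exact not_SCC_of_three (by rwa [hx]) (by rwa [hy]) (by rwa [hz]) h1 h2 h3

end Cfsg.Agent.H580.Der.PspCls
end

-- part: H580/Der/Ntc
section
/-!
# No prime is a union of two classes in `PSp_4(q)`, `q ≥ 5` (helper580, for S3502)
-/

set_option autoImplicit false

namespace Cfsg.Agent.H580.Der.Ntc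

open Cfsg Cfsg.Geo
open Cfsg.Agent.H580.Der.PspCls Cfsg.Agent.H439.Der Cfsg.Agent.H374.Quad

variable {F : Type} [Field F] [Fintype F]

/-- **no prime divisor `v` of `|PSp_4(q)|` is `SCC`.** -/
theorem ntc (h5 : 5 ≤ Fintype.card F) : NTC (PSp 2 F) := by
  intro v hv hvd
  obtain ⟨p, hpc⟩ := CharP.exists F
  obtain ⟨n, hp, hn1, hn⟩ : ∃ n : ℕ, p.Prime ∧ 1 ≤ n ∧ Fintype.card F = p ^ n := by
    obtain ⟨n, hp, hn⟩ := FiniteField.card F p
    exact ⟨n, hp, n.pos, hn⟩
  have hpf := Fact.mk hp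
  have hvf := Fact.mk hv
  have hspec := Cfsg.Agent.H374.SpFour.exists_iff (F := F) (p := p) (n := n) (by omega) hn (by rw [← hn]; omega)
  rw [← hn] at hspec
  obtain ⟨q, hq⟩ : ∃ q, q = Fintype.card F := ⟨_, rfl⟩
  rw [← hq] at hspec h5
  have hp2 := hp.two_le
  have hpq : p ∣ q := by rw [hq, hn]; exact dvd_pow_self p (by omega)
  have hpq1 : ¬ p ∣ q + 1 := fun h => by
    have := (Nat.dvd_add_right hpq).1 h
    have := Nat.le_of_dvd (by norm_num) this
    omega
  have hpq1' : ¬ p ∣ q - 1 := fun h => by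
    have h1 := Nat.dvd_sub hpq h
    rw [show q - (q - 1) = 1 by omega] at h1
    have := Nat.le_of_dvd (by norm_num) h1
    omega
  have hT := dvd_torus (q := q) (by omega)
  -- the torus of order `(q² - 1) / d`
  set N := (q ^ 2 - 1) / Nat.gcd 2 (q - 1) with hN
  have hsq : q ^ 2 - 1 = (q - 1) * (q + 1) := sq_sub_one q (by omega)
  have hN2 : N ∣ (q - 1) * (q + 1) := by
    rw [← hsq]
    refine Nat.div_dvd_of_dvd ?_
    rcases Nat.even_or_odd q with he | ho
    · rw [gcd_of_even he (by omega)]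
      exact one_dvd _
    · rw [gcd_of_odd ho]
      obtain ⟨k, hk⟩ := ho
      rw [hsq, hk]
      exact ⟨k * (2 * k + 2), by rw [show 2 * k + 1 - 1 = 2 * k by omega]; ring⟩
  have hNbig : 2 * (q + 1) ≤ N := by
    have h1 : 2 * ((q + 1) * 2) ≤ (q - 1) * (q + 1) := by
      have : 4 * (q + 1) ≤ (q - 1) * (q + 1) := Nat.mul_le_mul_right _ (by omega)
      omega
    have h2 : Nat.gcd 2 (q - 1) ≤ 2 := Nat.gcd_le_left _ (by norm_num)
    have h3 : 0 < Nat.gcd 2 (q - 1) := Nat.gcd_pos_of_pos_left _ (by norm_num)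
    rw [hN, Nat.le_div_iff_mul_le h3, hsq]
    calc 2 * (q + 1) * Nat.gcd 2 (q - 1) ≤ 2 * (q + 1) * 2 := Nat.mul_le_mul_left _ h2
      _ ≤ _ := by linarith only [h1]
  have hpN : ¬ p ∣ N := fun h => by
    rcases hp.dvd_mul.1 (h.trans hN2) with h1 | h1
    · exact hpq1' h1
    · exact hpq1 h1
  have key : ∀ e, (e = q - 1 ∨ e = q + 1) → v ∣ e → ¬ SCC (PSp 2 F) v := by
    intro e he hve
    have hv1 : v ≤ q + 1 := by
      have := Nat.le_of_dvd (by omega) hve
      omega
    have hve' : v ≤ e := Nat.le_of_dvd (by omega) hve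
    have hpe : e < p * e := by
      have : 2 * e ≤ p * e := Nat.mul_le_mul_right _ hp2
      omega
    obtain ⟨x, hx⟩ := (hspec v).2 (by
      rcases he with rfl | rfl
      · exact Or.inl (hve.mul_left p)
      · exact Or.inr (Or.inl (hve.mul_left p)))
    obtain ⟨y, hy⟩ := (hspec (p * e)).2 (by
      rcases he with rfl | rfl
      · exact Or.inl dvd_rfl
      · exact Or.inr (Or.inl dvd_rfl))
    obtain ⟨z, hz⟩ := (hspec N).2 (Or.inr (Or.inr (Or.inl dvd_rfl)))
    refine not_SCC_of_orders (x := x) (y := y) (z := z) (by rw [hx]) (by rw [hy]; exact hve.mul_left p) ?_ ?_ ?_ ?_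
    · rw [hz]
      rcases he with rfl | rfl
      · exact hve.trans hT.1
      · exact hve.trans hT.2
    · rw [hx, hy]; omega
    · rw [hx, hz]; omega
    · rw [hy, hz]
      intro h
      exact hpN (h ▸ dvd_mul_right p e)
  have hchar : v = p → ¬ SCC (PSp 2 F) v := by
    rintro rfl
    obtain ⟨x, hx⟩ := (hspec v).2 (Or.inl (dvd_mul_right _ _))
    obtain ⟨y, hy⟩ := (hspec (v * (q - 1))).2 (Or.inl dvd_rfl)
    obtain ⟨z, hz⟩ := (hspec (v * (q + 1))).2 (Or.inr (Or.inl dvd_rfl))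
    refine not_SCC_of_orders (x := x) (y := y) (z := z) (by rw [hx]) (by rw [hy]; exact dvd_mul_right _ _)
      (by rw [hz]; exact dvd_mul_right _ _) ?_ ?_ ?_
    · rw [hx, hy]
      intro h
      have h1 := Nat.eq_of_mul_eq_mul_left hp.pos ((mul_one v).trans h)
      omega
    · rw [hx, hz]
      intro h
      have h1 := Nat.eq_of_mul_eq_mul_left hp.pos ((mul_one v).trans h)
      omega
    · rw [hy, hz]
      intro h
      have h1 := Nat.eq_of_mul_eq_mul_left hp.pos h
      omega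
  have hprime : ∀ s t : ℕ, v ∣ s * t → v ∣ s ∨ v ∣ t := fun s t h => hv.dvd_mul.1 h
  have heq : v ∣ p → v = p := fun h => (Nat.prime_dvd_prime_iff_eq hv hp).1 h
  obtain ⟨w, hw⟩ := exists_prime_orderOf_dvd_card' v hvd
  rcases (hspec v).1 ⟨w, hw⟩ with h | h | h | h | ⟨h3, h⟩ | ⟨h2, h⟩
  · rcases hprime _ _ h with h | h
    · exact hchar (heq h)
    · exact key _ (Or.inl rfl) h
  · rcases hprime _ _ h with h | h
    · exact hchar (heq h)
    · exact key _ (Or.inr rfl) h
  · rcases hprime _ _ (h.trans hN2) with h | h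
    · exact key _ (Or.inl rfl) h
    · exact key _ (Or.inr rfl) h
  · by_cases hv2 : v = 2
    · subst hv2
      rcases Nat.even_or_odd q with he | ho
      · apply hchar
        symm
        rw [hq, hn] at he
        exact (hp.even_iff).1 (Nat.even_pow.1 he).1
      · obtain ⟨k, hk⟩ := ho
        exact key _ (Or.inl rfl) ⟨k, by omega⟩
    · refine not_SCC_big (by rw [← hq]; exact h5) hv hv2 ?_
      rw [← hq]
      have hg : Nat.gcd 2 (q - 1) ∣ q ^ 2 + 1 := by
        rcases Nat.even_or_odd q with he | ho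
        · rw [gcd_of_even he (by omega)]
          exact one_dvd _
        · rw [gcd_of_odd ho]
          exact (ho.pow.add_one : Even (q ^ 2 + 1)).two_dvd
      exact h.trans (Nat.div_dvd_of_dvd hg)
  · apply hchar
    rw [h3]
    have h9 : v ∣ 3 := hv.dvd_of_dvd_pow (show v ∣ 3 ^ 2 from h)
    exact (Nat.prime_dvd_prime_iff_eq hv Nat.prime_three).1 h9
  · apply hchar
    rw [h2]
    have h9 : v ∣ 2 := hv.dvd_of_dvd_pow (show v ∣ 2 ^ 2 from h)
    exact (Nat.prime_dvd_prime_iff_eq hv Nat.prime_two).1 h9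

end Cfsg.Agent.H580.Der.Ntc
end

private theorem dce_0fff40d46a84 : _root_.True := by
  try have : _root_.True := by simp only [_root_.Cfsg.Agent.H580.Der.PspPow.mk.eq_1]
  exact _root_.True.intro
end

-- part: H320/Der/Ntc
section
prune_inst 0x420140008a200000000a00000000000180000000000080080820302020000008000000000000000002200000000002000000000400000000a000000000000000000100000010008400000000100000000000000000000000000000000010000000000000
set_option linter.all false
open scoped Cfsg.Agent.FastGrp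

-- part: H320/Der/Orb
section
/-!
# Counting `Aut T`-classes (helper320, S3502)

`A ≤ Aut T` of index `i`, `S ⊆ T` such that every `A`-orbit meets `S` in at most `b` elements:
* `orb_le` : every `Aut T`-orbit meets `S` in at most `i b` elements;
* `exists_two`, `exists_three` : if `i b < |S|` (`2 i b < |S|`) there are two (three) elements of `S` which are
  pairwise not `Aut T`-conjugate.
-/

set_option autoImplicit false

namespace Cfsg.Agent.H320.Der

open Subgroup Cfsg.Agent.H439.Der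

variable {T : Type*} [Group T]

/-- every `A`-orbit of an element of `S` meets `S` in at most `b` elements -/
def Orb (A : Subgroup (MulAut T)) (S : Set T) (b : ℕ) : Prop :=
  ∀ x ∈ S, Nat.card {y // y ∈ S ∧ ∃ α ∈ A, α x = y} ≤ b

theorem orb_le [Finite T] {A : Subgroup (MulAut T)} {S : Set T} {b : ℕ} (h : Orb A S b) (x : T) :
    Nat.card {y // y ∈ S ∧ ∃ φ : MulAut T, φ x = y} ≤ A.index * b := by
  classical
  have : Finite (MulAut T) := Finite.of_injective (fun f : MulAut T => (f : T → T)) DFunLike.coe_injective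
  have := Fintype.ofFinite T
  have := Fintype.ofFinite (MulAut T ⧸ A)
  let P : Finset T := Finset.univ.filter fun y => y ∈ S ∧ ∃ φ : MulAut T, φ x = y
  have hP : Nat.card {y // y ∈ S ∧ ∃ φ : MulAut T, φ x = y} = P.card := by
    rw [Nat.card_eq_fintype_card, Fintype.card_subtype]
  have hφ : ∀ y : T, ∃ φ : MulAut T, y ∈ P → φ x = y := by
    intro y
    by_cases hy : y ∈ P
    · obtain ⟨φ, hφ⟩ := (Finset.mem_filter.1 hy).2.2
      exact ⟨φ, fun _ => hφ⟩
    · exact ⟨1, fun h => absurd h hy⟩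
  choose φ hφ using hφ
  rw [hP, mul_comm, Subgroup.index, Nat.card_eq_fintype_card]
  refine Finset.card_le_mul_card_image_of_maps_to (f := fun y => (QuotientGroup.mk (φ y)⁻¹ : MulAut T ⧸ A))
    (t := Finset.univ) (fun _ _ => Finset.mem_univ _) _ ?_
  intro c _
  rcases Finset.eq_empty_or_nonempty (P.filter fun y => (QuotientGroup.mk (φ y)⁻¹ : MulAut T ⧸ A) = c) with h0 | ⟨y0, hy0⟩
  · rw [h0]; exact Nat.zero_le _
  rw [Finset.mem_filter] at hy0
  refine le_trans ?_ (h y0 (Finset.mem_filter.1 hy0.1).2.1)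
  rw [Nat.card_eq_fintype_card, Fintype.card_subtype]
  refine Finset.card_le_card fun y hy => ?_
  rw [Finset.mem_filter] at hy
  rw [Finset.mem_filter]
  refine ⟨Finset.mem_univ _, (Finset.mem_filter.1 hy.1).2.1, φ y * (φ y0)⁻¹, ?_, ?_⟩
  · have h1 : (QuotientGroup.mk (φ y)⁻¹ : MulAut T ⧸ A) = QuotientGroup.mk (φ y0)⁻¹ := by rw [hy.2, hy0.2]
    rw [QuotientGroup.eq, inv_inv] at h1
    exact h1
  · have h1 : (φ y0)⁻¹ y0 = x := by
      have h2 := MulAut.inv_apply_self T (φ y0) x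
      rwa [hφ y0 hy0.1] at h2
    rw [MulAut.mul_apply, h1, hφ y hy.1]

theorem exists_two [Finite T] {A : Subgroup (MulAut T)} {S : Set T} {b : ℕ} (h : Orb A S b)
    (hS : A.index * b < Nat.card S) : ∃ x y : T, x ∈ S ∧ y ∈ S ∧ ∀ φ : T ≃* T, φ x ≠ y := by
  by_contra hcon
  push Not at hcon
  have hne : Nonempty S := by
    by_contra hn
    rw [not_nonempty_iff] at hn
    rw [Nat.card_of_isEmpty] at hS
    omega
  obtain ⟨x, hx⟩ := hne
  have h1 := orb_le h x
  have h2 : Nat.card S ≤ Nat.card {y // y ∈ S ∧ ∃ φ : MulAut T, φ x = y} := by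
    refine Nat.card_le_card_of_injective (fun y : S => (⟨y.1, y.2, hcon x y.1 hx y.2⟩ :
      {y // y ∈ S ∧ ∃ φ : MulAut T, φ x = y})) fun a b hab => ?_
    exact Subtype.ext (Subtype.mk.inj hab)
  omega

theorem exists_three [Finite T] {A : Subgroup (MulAut T)} {S : Set T} {b : ℕ} (h : Orb A S b)
    (hS : 2 * (A.index * b) < Nat.card S) : ∃ x y z : T, x ∈ S ∧ y ∈ S ∧ z ∈ S ∧ (∀ φ : T ≃* T, φ x ≠ y) ∧
      (∀ φ : T ≃* T, φ x ≠ z) ∧ ∀ φ : T ≃* T, φ y ≠ z := by
  classical
  obtain ⟨x, y, hx, hy, hxy⟩ := exists_two h (by omega)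
  by_contra hcon
  push Not at hcon
  have h1 := orb_le h x
  have h2 := orb_le h y
  have h3 : Nat.card S ≤ Nat.card {z // z ∈ S ∧ ∃ φ : MulAut T, φ x = z} + Nat.card {z // z ∈ S ∧ ∃ φ : MulAut T, φ y = z} := by
    have key : ∀ z : S, (∃ φ : MulAut T, φ x = z) ∨ ∃ φ : MulAut T, φ y = z := by
      intro z
      by_cases hz : ∃ φ : MulAut T, φ x = z
      · exact Or.inl hz
      · right
        push Not at hz
        exact hcon x y z hx hy z.2 hxy hz
    rw [← Nat.card_sum]
    refine Nat.card_le_card_of_injective (fun z : S =>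
      if hz : ∃ φ : MulAut T, φ x = z then Sum.inl ⟨z.1, z.2, hz⟩ else Sum.inr ⟨z.1, z.2, (key z).resolve_left hz⟩)
      fun a b hab => ?_
    by_cases ha : ∃ φ : MulAut T, φ x = a <;> by_cases hb : ∃ φ : MulAut T, φ x = b
    · simp only [dif_pos ha, dif_pos hb, Sum.inl.injEq, Subtype.mk.injEq] at hab
      exact Subtype.ext hab
    · simp only [dif_pos ha, dif_neg hb, reduceCtorEq] at hab
    · simp only [dif_neg ha, dif_pos hb, reduceCtorEq] at hab
    · simp only [dif_neg ha, dif_neg hb, Sum.inr.injEq, Subtype.mk.injEq] at hab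
      exact Subtype.ext hab
  omega

/-- elements of a cyclic group of order `N` whose order is divisible by `v` -/
theorem card_sing [Finite T] {x : T} {v N : ℕ} (hv : v.Prime) (hx : orderOf x = N) (hd : v ∣ N) :
    N - N / v ≤ Nat.card {y // y ∈ zpowers x ∧ v ∣ orderOf y} := by
  classical
  have := Fintype.ofFinite T
  obtain ⟨M, rfl⟩ := hd
  have hN : 0 < v * M := hx ▸ orderOf_pos x
  have hM : 0 < M := Nat.pos_of_mul_pos_left hN
  rw [Nat.mul_div_cancel_left _ hv.pos]
  have h1 : Nat.card (zpowers x) = v * M := by rw [Nat.card_zpowers, hx]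
  have h2 : Nat.card (zpowers x) ≤ Nat.card {y // y ∈ zpowers x ∧ v ∣ orderOf y} + Nat.card {y : zpowers x // y ^ M = 1} := by
    rw [← Nat.card_sum]
    refine Nat.card_le_card_of_injective (fun y : zpowers x =>
      if hy : v ∣ orderOf (y : T) then Sum.inl ⟨y.1, y.2, hy⟩ else Sum.inr ⟨y, ?_⟩) fun a b hab => ?_
    · have h3 : orderOf (y : T) ∣ v * M := by rw [← hx]; exact orderOf_dvd_of_mem_zpowers y.2
      have h4 : orderOf (y : T) ∣ M := (Nat.Coprime.symm ((Nat.Prime.coprime_iff_not_dvd hv).2 hy)).dvd_of_dvd_mul_left h3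
      apply Subtype.ext
      exact orderOf_dvd_iff_pow_eq_one.1 h4
    · by_cases ha : v ∣ orderOf (a : T) <;> by_cases hb : v ∣ orderOf (b : T)
      · simp only [dif_pos ha, dif_pos hb, Sum.inl.injEq, Subtype.mk.injEq] at hab
        exact Subtype.ext hab
      · simp only [dif_pos ha, dif_neg hb, reduceCtorEq] at hab
      · simp only [dif_neg ha, dif_pos hb, reduceCtorEq] at hab
      · simp only [dif_neg ha, dif_neg hb, Sum.inr.injEq, Subtype.mk.injEq] at hab
        exact hab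
  have h3 : Nat.card {y : zpowers x // y ^ M = 1} ≤ M := by
    rw [Nat.card_eq_fintype_card, Fintype.card_subtype]
    exact IsCyclic.card_pow_eq_one_le hM
  omega

end Cfsg.Agent.H320.Der
end

-- part: H320/Der/Spec
section
/-!
# Eigenvalues and semilinear conjugation (helper320, S3502)

* `HasEV g n` : `g` has an eigenvalue of order `n` in the algebraic closure
* `ev_bound` : if `g` has order `n`, an eigenvalue of order `n` and `rk (g - 1) ≤ w` then at most `|Aut F| w` powers of `g` are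
  conjugate to `g` under semilinear maps
-/

set_option autoImplicit false

namespace Cfsg.Agent.H320.Der

open Polynomial Module

section ev

variable {F V : Type*} [Field F] [AddCommGroup V] [Module F V]

/-- `g` has an eigenvalue of order `n` -/
def HasEV (g : Module.End F V) (n : ℕ) : Prop :=
  ∃ a : AlgebraicClosure F, orderOf a = n ∧ aeval a (minpoly F g) = 0

theorem ev_kills {K : Type*} [Field K] [Algebra F K] {g : Module.End F V} {a : K} (ha : aeval a (minpoly F g) = 0)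
    {p : F[X]} (hp : aeval g p = 0) : aeval a p = 0 := by
  obtain ⟨c, rfl⟩ := minpoly.dvd F g hp
  rw [map_mul, ha, zero_mul]

theorem ev_pow {K : Type*} [Field K] [Algebra F K] {g : Module.End F V} {a : K} (ha : aeval a (minpoly F g) = 0)
    (k : ℕ) : aeval (a ^ k) (minpoly F (g ^ k)) = 0 := by
  have h1 : aeval g ((minpoly F (g ^ k)).comp (X ^ k)) = 0 := by
    rw [aeval_comp, map_pow, aeval_X, minpoly.aeval]
  have h2 := ev_kills ha h1
  rwa [aeval_comp, map_pow, aeval_X] at h2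

theorem HasEV.pow {g : Module.End F V} {n : ℕ} (h : HasEV g n) {k m : ℕ} (hk : n / n.gcd k = m) (hn : 0 < n) :
    HasEV (g ^ k) m := by
  obtain ⟨a, ha, h1⟩ := h
  refine ⟨a ^ k, ?_, ev_pow h1 k⟩
  rcases Nat.eq_zero_or_pos k with rfl | hk0
  · rw [Nat.gcd_zero_right, Nat.div_self hn] at hk
    rw [pow_zero, orderOf_one, hk]
  · rw [orderOf_pow' a hk0.ne', ha, hk]

theorem semi_aeval {M : V ≃+ V} {σ : F ≃+* F} (hM : ∀ (c : F) (v : V), M (c • v) = σ c • M v)
    {g g' : Module.End F V} (h : ∀ v, g' (M v) = M (g v)) (p : F[X]) (u : V) :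
    aeval g' (p.map (σ : F →+* F)) (M u) = M (aeval g p u) := by
  have hp : ∀ (n : ℕ) (u : V), (g' ^ n) (M u) = M ((g ^ n) u) := by
    intro n
    induction n with
    | zero => intro u; rfl
    | succ n ih =>
      intro u
      rw [pow_succ, Module.End.mul_apply, h, ih, pow_succ, Module.End.mul_apply]
  induction p using Polynomial.induction_on' with
  | add p q hp' hq' =>
    rw [Polynomial.map_add, map_add, map_add, LinearMap.add_apply, LinearMap.add_apply, map_add, hp', hq']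
  | monomial n c =>
    rw [Polynomial.map_monomial, aeval_monomial, aeval_monomial, Module.End.mul_apply, Module.End.mul_apply,
      Module.algebraMap_end_apply, Module.algebraMap_end_apply, hp, hM]
    rfl

theorem semi_kill {M : V ≃+ V} {σ : F ≃+* F} (hM : ∀ (c : F) (v : V), M (c • v) = σ c • M v)
    {g g' : Module.End F V} (h : ∀ v, g' (M v) = M (g v)) {p : F[X]} (hp : aeval g p = 0) :
    aeval g' (p.map (σ : F →+* F)) = 0 := by
  refine LinearMap.ext fun v => ?_
  obtain ⟨u, rfl⟩ := M.surjective v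
  rw [semi_aeval hM h, hp]
  simp

theorem aeval_restrict {g : Module.End F V} {W : Submodule F V} (hW : ∀ v ∈ W, g v ∈ W) (p : F[X]) (x : W) :
    ((aeval (g.restrict hW) p x : W) : V) = aeval g p x := by
  have hp : ∀ (n : ℕ) (u : W), ((((g.restrict hW) ^ n) u : W) : V) = (g ^ n) u := by
    intro n
    induction n with
    | zero => intro u; rfl
    | succ n ih =>
      intro u
      rw [pow_succ, Module.End.mul_apply, ih, pow_succ, Module.End.mul_apply]
      rfl
  induction p using Polynomial.induction_on' with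
  | add p q hp' hq' =>
    rw [map_add, map_add, LinearMap.add_apply, LinearMap.add_apply, Submodule.coe_add, hp', hq']
  | monomial n c =>
    rw [aeval_monomial, aeval_monomial, Module.End.mul_apply, Module.End.mul_apply,
      Module.algebraMap_end_apply, Module.algebraMap_end_apply, Submodule.coe_smul, hp]

/-- a polynomial of degree at most the rank of `g - 1` which kills the range of `g - 1` -/
theorem exists_poly [FiniteDimensional F V] (g : Module.End F V) {w : ℕ}
    (hw : finrank F (LinearMap.range (g - 1)) ≤ w) :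
    ∃ f : F[X], f ≠ 0 ∧ f.natDegree ≤ w ∧ aeval g ((X - 1) * f) = 0 := by
  have hW : ∀ v ∈ LinearMap.range (g - 1), g v ∈ LinearMap.range (g - 1) := by
    rintro _ ⟨u, rfl⟩
    refine ⟨g u, ?_⟩
    simp only [_root_.LinearMap.sub_apply, _root_.Module.End.one_apply, _root_.map_sub]
  refine ⟨(g.restrict hW).charpoly, (LinearMap.charpoly_monic _).ne_zero, ?_, ?_⟩
  · rw [LinearMap.charpoly_natDegree]
    exact hw
  · refine LinearMap.ext fun v => ?_
    rw [mul_comm, map_mul, Module.End.mul_apply]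
    have h1 : aeval g (X - 1 : F[X]) = g - 1 := by simp
    rw [h1]
    have h2 := aeval_restrict hW (g.restrict hW).charpoly ⟨(g - 1) v, v, rfl⟩
    rw [LinearMap.aeval_self_charpoly] at h2
    exact h2.symm

/-- **The bound.** -/
theorem ev_bound [Finite F] [FiniteDimensional F V] {g : Module.End F V} {n w : ℕ} (hn : 1 < n) (hg : orderOf g = n)
    (hev : HasEV g n) (hw : finrank F (LinearMap.range (g - 1)) ≤ w) :
    ∃ (a : AlgebraicClosure F) (R : Finset (AlgebraicClosure F)), orderOf a = n ∧ R.card ≤ Nat.card (F ≃+* F) * w ∧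
      ∀ (M : V ≃+ V) (σ : F ≃+* F), (∀ (c : F) (v : V), M (c • v) = σ c • M v) → ∀ k : ℕ,
        (∀ v, (g ^ k) (M v) = M (g v)) → a ^ k ∈ R := by
  classical
  obtain ⟨a, ha, ha'⟩ := hev
  obtain ⟨f, hf0, hfw, hf⟩ := exists_poly g hw
  have : Finite (F ≃+* F) := Finite.of_injective (fun f : F ≃+* F => (f : F → F)) DFunLike.coe_injective
  have := Fintype.ofFinite (F ≃+* F)
  refine ⟨a, Finset.univ.biUnion fun σ : F ≃+* F =>
    ((f.map (σ : F →+* F)).map (algebraMap F (AlgebraicClosure F))).roots.toFinset, ha, ?_, ?_⟩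
  · refine Finset.card_biUnion_le.trans ?_
    have h5 : ∀ σ ∈ (Finset.univ : Finset (F ≃+* F)),
        (((f.map (σ : F →+* F)).map (algebraMap F (AlgebraicClosure F))).roots.toFinset).card ≤ w := by
      intro σ _
      refine (Multiset.toFinset_card_le _).trans ((Polynomial.card_roots' _).trans ?_)
      rw [Polynomial.natDegree_map, Polynomial.natDegree_map]
      exact hfw
    refine (Finset.sum_le_card_nsmul _ _ _ h5).trans ?_
    rw [smul_eq_mul, Finset.card_univ, Nat.card_eq_fintype_card]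
  · intro M σ hM k hk
    rw [Finset.mem_biUnion]
    refine ⟨σ, Finset.mem_univ _, ?_⟩
    rw [Multiset.mem_toFinset, Polynomial.mem_roots']
    have hne : f.map (σ : F →+* F) ≠ 0 := (Polynomial.map_ne_zero_iff σ.injective).2 hf0
    refine ⟨(Polynomial.map_ne_zero_iff (algebraMap F (AlgebraicClosure F)).injective).2 hne, ?_⟩
    have h1 := ev_kills (ev_pow ha' k) (semi_kill hM hk hf)
    rw [Polynomial.map_mul, map_mul] at h1
    have h2 : aeval (a ^ k) ((X - 1 : F[X]).map (σ : F →+* F)) = a ^ k - 1 := by simp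
    rw [h2] at h1
    have h3 : a ^ k - 1 ≠ 0 := by
      intro h4
      have h5 : n ∣ k := by
        rw [← ha]
        exact orderOf_dvd_of_pow_eq_one (sub_eq_zero.1 h4)
      have h6 : g ^ k = 1 := by
        rw [← orderOf_dvd_iff_pow_eq_one, hg]
        exact h5
      rw [h6] at hk
      have h7 : g = 1 := by
        refine LinearMap.ext fun v => ?_
        exact (M.injective (hk v)).symm
      rw [h7, orderOf_one] at hg
      omega
    have h4 := (mul_eq_zero.1 h1).resolve_left h3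
    rw [Polynomial.IsRoot.def, Polynomial.eval_map_algebraMap]
    exact h4

theorem range_pow_le (g : Module.End F V) (k : ℕ) :
    LinearMap.range (g ^ k - 1) ≤ LinearMap.range (g - 1) := by
  obtain ⟨c, hc⟩ : g - 1 ∣ g ^ k - 1 := ⟨_, (mul_geom_sum g k).symm⟩
  rw [hc]
  rintro _ ⟨v, rfl⟩
  exact ⟨c v, rfl⟩

end ev

end Cfsg.Agent.H320.Der
end

-- part: H320/Der/Cls
section
/-!
# Automorphism classes of torus elements of `P Q` (helper320, S3502)

* `lin g`, `g : E Q`
* `orb_spec` : `A ≤ Aut (P Q)` permuting the point stabilisers, `g` of odd order `N` with an eigenvalue of order `N`,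
  `rk (g - 1) ≤ w` : the `A`-orbits meet `{y ∈ ⟨g⟩ : v ∣ orderOf y}` in at most `|Aut F| w` elements
-/

set_option autoImplicit false

namespace Cfsg.Agent.H320.Der

open Polynomial Module Subgroup QuadraticMap
open Cfsg.Agent.LieClassical.OrthCore Cfsg.Agent.LieClassical.OrthTrans Cfsg.Agent.AutOrth.SemiSim
  Cfsg.Agent.AutOrth.Gen Cfsg.Agent.ClassicalGeometry.OrthAut1 Cfsg.Agent.AutOrth.Main

section

variable {F V : Type*} [Field F] [AddCommGroup V] [Module F V] {Q : QuadraticForm F V}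

/-- the linear map -/
def lin : ↥(E Q) →* Module.End F V where
  toFun g := ((g : V ≃ₗ[F] V) : V →ₗ[F] V)
  map_one' := rfl
  map_mul' _ _ := rfl

theorem lin_apply (g : ↥(E Q)) (v : V) : lin g v = (g : V ≃ₗ[F] V) v := rfl

theorem lin_injective : Function.Injective (lin (Q := Q)) := by
  intro g h hgh
  apply ext_E
  intro v
  exact LinearMap.congr_fun hgh v

theorem orderOf_lin (g : ↥(E Q)) : orderOf (lin g) = orderOf g := orderOf_injective lin lin_injective g

/-- the centre has exponent two -/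
theorem center_sq (hG : Good Q) {z : ↥(E Q)} (hz : z ∈ center ↥(E Q)) : z ^ 2 = 1 := by
  obtain ⟨c, hc⟩ := scalar_of_center hG hz
  obtain ⟨x, y, h⟩ := hG.exists_hyp
  have h1 : c * c = 1 := by
    have h2 : polar Q ((z : V ≃ₗ[F] V) x) ((z : V ≃ₗ[F] V) y) = polar Q x y := polar_map (E_le_O z.2) x y
    rw [hc, hc, polar_smul_left, polar_smul_right, h.pair] at h2
    simpa only [mul_assoc, _root_.smul_eq_mul, _root_.mul_one] using h2
  apply ext_E
  intro v
  have h2 : ((z ^ 2 : ↥(E Q)) : V ≃ₗ[F] V) v = (z : V ≃ₗ[F] V) ((z : V ≃ₗ[F] V) v) := by rw [pow_two]; rfl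
  rw [h2, hc, hc, smul_smul, h1, one_smul]
  rfl

theorem eq_one_of_sq {G : Type*} [Group G] {z : G} (h2 : z ^ 2 = 1) {n : ℕ} (hn : Odd n) (h : z ^ n = 1) : z = 1 := by
  obtain ⟨k, rfl⟩ := hn
  rwa [pow_succ, pow_mul, h2, one_pow, one_mul] at h

theorem orderOf_mk (hG : Good Q) {g : ↥(E Q)} (hg : Odd (orderOf g)) : orderOf ((g : ↥(E Q)) : P Q) = orderOf g := by
  rw [orderOf_eq_orderOf_iff]
  intro k
  constructor
  · intro h
    rw [← QuotientGroup.mk_pow, QuotientGroup.eq_one_iff] at h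
    refine eq_one_of_sq (center_sq hG h) hg ?_
    rw [← pow_mul, mul_comm, pow_mul, pow_orderOf_eq_one, one_pow]
  · intro h
    rw [← QuotientGroup.mk_pow, h]
    rfl

theorem mem_zpowers_of_order {G : Type*} [Group G] [Finite G] {x y z : G} (hy : y ∈ zpowers x) (hz : z ∈ zpowers x)
    (h : orderOf z = orderOf y) : z ∈ zpowers y := by
  classical
  have := Fintype.ofFinite G
  have h1 : Nat.card (zpowers y) = orderOf y := Nat.card_zpowers y
  let D : Finset (zpowers x) := Finset.univ.filter fun u => u ^ orderOf y = 1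
  have hD : D.card ≤ orderOf y := IsCyclic.card_pow_eq_one_le (orderOf_pos y)
  let C : Finset (zpowers x) := Finset.univ.filter fun u => (u : G) ∈ zpowers y
  have hC : C.card = orderOf y := by
    rw [← h1, Nat.card_eq_fintype_card]
    rw [← Fintype.card_coe]
    refine Fintype.card_congr ⟨fun u => ⟨u.1.1, (Finset.mem_filter.1 u.2).2⟩,
      fun u => ⟨⟨u.1, (zpowers_le.2 hy) u.2⟩, Finset.mem_filter.2 ⟨Finset.mem_univ _, u.2⟩⟩, fun _ => rfl, fun _ => rfl⟩
  have hCD : C ⊆ D := by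
    intro u hu
    rw [Finset.mem_filter] at hu ⊢
    refine ⟨Finset.mem_univ _, Subtype.ext ?_⟩
    exact orderOf_dvd_iff_pow_eq_one.1 (orderOf_dvd_of_mem_zpowers hu.2)
  have hE : C = D := Finset.eq_of_subset_of_card_le hCD (by omega)
  have hzD : (⟨z, hz⟩ : zpowers x) ∈ D := by
    rw [Finset.mem_filter]
    refine ⟨Finset.mem_univ _, Subtype.ext ?_⟩
    show z ^ orderOf y = 1
    rw [← h, pow_orderOf_eq_one]
  rw [← hE, Finset.mem_filter] at hzD
  exact hzD.2

theorem modEq_of_pow_eq {K : Type*} [Field K] {a : K} (ha : 0 < orderOf a) {i j : ℕ} (h : a ^ i = a ^ j) :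
    i ≡ j [MOD orderOf a] := by
  have ha0 : a ≠ 0 := by
    rintro rfl
    have h1 := pow_orderOf_eq_one (0 : K)
    rw [zero_pow ha.ne'] at h1
    exact zero_ne_one h1
  have h1 : (Units.mk0 a ha0) ^ i = (Units.mk0 a ha0) ^ j := by
    apply Units.ext
    simpa only [_root_.Units.val_pow_eq_pow_val, _root_.Units.val_mk0] using h
  rw [pow_eq_pow_iff_modEq, ← orderOf_units] at h1
  exact h1

theorem finite_E [Finite F] [FiniteDimensional F V] : Finite ↥(E Q) := by
  have : Finite V := Module.finite_of_finite F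
  have : Finite (V ≃ₗ[F] V) := Finite.of_injective (fun f : V ≃ₗ[F] V => (f : V → V)) DFunLike.coe_injective
  infer_instance

/-- **The bound for the classes.** -/
theorem orb_spec [Finite F] [FiniteDimensional F V] (hG : Good Q) (h7 : 7 ≤ finrank F V) [Finite (P Q)]
    {A : Subgroup (MulAut (P Q))} (hA : ∀ α ∈ A, Pt hG α) {g : ↥(E Q)} {N w v : ℕ} (hN : Odd N) (hg : orderOf g = N)
    (hev : HasEV (lin g) N) (hw : finrank F (LinearMap.range (lin g - 1)) ≤ w) (hv : 1 < v) :
    Orb A {y : P Q | y ∈ zpowers ((g : ↥(E Q)) : P Q) ∧ v ∣ orderOf y} (Nat.card (F ≃+* F) * w) := by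
  classical
  have := finite_E (Q := Q)
  rintro y ⟨hy, hvy⟩
  obtain ⟨i, hi⟩ : ∃ i : ℕ, ((g : ↥(E Q)) : P Q) ^ i = y := by
    rw [← mem_powers_iff_mem_zpowers] at hy
    exact hy
  have hN0 : 0 < N := hN.pos
  set h : ↥(E Q) := g ^ i with hh
  have hhy : ((h : ↥(E Q)) : P Q) = y := by rw [hh, QuotientGroup.mk_pow, hi]
  set n := orderOf h with hn
  have hnN : n ∣ N := by rw [hn, ← hg]; exact orderOf_pow_dvd i
  have hnodd : Odd n := hN.of_dvd_nat hnN
  have hon : orderOf y = n := by rw [← hhy]; exact orderOf_mk hG hnodd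
  have hn1 : 1 < n := by
    rw [← hon]
    exact lt_of_lt_of_le hv (Nat.le_of_dvd (orderOf_pos y) hvy)
  have hlin : lin h = lin g ^ i := by rw [hh, map_pow]
  have hev' : HasEV (lin h) n := by
    rw [hlin]
    refine hev.pow ?_ hN0
    rw [hn, hh, orderOf_pow, hg]
  have hw' : finrank F (LinearMap.range (lin h - 1)) ≤ w := by
    rw [hlin]
    exact (Submodule.finrank_mono (range_pow_le _ i)).trans hw
  obtain ⟨a, R, ha, hR, hkey⟩ := ev_bound hn1 (orderOf_lin h) hev' hw'
  have key : ∀ z : {z // z ∈ {y : P Q | y ∈ zpowers ((g : ↥(E Q)) : P Q) ∧ v ∣ orderOf y} ∧ ∃ α ∈ A, α y = z},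
      ∃ k : ℕ, ((h ^ k : ↥(E Q)) : P Q) = z ∧ a ^ k ∈ R := by
    rintro ⟨z, ⟨hz, -⟩, α, hα, hαz⟩
    have hzy : orderOf z = orderOf y := by rw [← hαz]; exact MulEquiv.orderOf_eq α y
    have h1 := mem_zpowers_of_order hy hz hzy
    obtain ⟨k, hk⟩ : ∃ k : ℕ, y ^ k = z := by
      rw [← mem_powers_iff_mem_zpowers] at h1
      exact h1
    refine ⟨k, by rw [QuotientGroup.mk_pow, hhy, hk], ?_⟩
    obtain ⟨M, σ, c, hM, hMg⟩ := Cfsg.Agent.ClassicalGeometry.OrthAut4.exists_semi_P hG h7 α (hA α hα)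
    have h2 : ((conjE hM h : ↥(E Q)) : P Q) = ((h ^ k : ↥(E Q)) : P Q) := by
      rw [← hMg, hhy, hαz, QuotientGroup.mk_pow, hhy, hk]
    have h3 : (h ^ k)⁻¹ * conjE hM h ∈ center ↥(E Q) := by
      rw [← QuotientGroup.eq]
      exact h2.symm
    have h4 : conjE hM h = h ^ k * ((h ^ k)⁻¹ * conjE hM h) := by group
    have h5 : ((h ^ k)⁻¹ * conjE hM h) ^ n = 1 := by
      have hc : Commute (h ^ k) ((h ^ k)⁻¹ * conjE hM h) := (mem_center_iff.1 h3 (h ^ k))
      have h6 := hc.mul_pow n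
      rw [← h4, ← map_pow, hn, pow_orderOf_eq_one, map_one, ← pow_mul, mul_comm k, pow_mul, pow_orderOf_eq_one,
        one_pow, one_mul] at h6
      exact h6.symm
    have h6 := eq_one_of_sq (center_sq hG h3) hnodd h5
    rw [h6, mul_one] at h4
    refine hkey M σ hM.smul k fun v => ?_
    rw [← map_pow, lin_apply, ← h4, conjE_apply, lin_apply]
  choose k hk1 hk2 using key
  refine le_trans ?_ hR
  rw [← Nat.card_eq_finsetCard R]
  refine Nat.card_le_card_of_injective (fun z => (⟨a ^ k z, hk2 z⟩ : R)) fun z z' hzz => ?_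
  have h1 : a ^ k z = a ^ k z' := congrArg Subtype.val hzz
  have h3 := modEq_of_pow_eq (by rw [ha]; omega) h1
  rw [ha] at h3
  have h2 : h ^ k z = h ^ k z' := by
    rw [pow_eq_pow_iff_modEq]
    exact h3
  apply Subtype.ext
  rw [← hk1 z, ← hk1 z', h2]

end

end Cfsg.Agent.H320.Der
end

-- part: H320/Der/Semi
section
/-!
# Semiregular isometries (helper320, S3502)

`EltS F n ε N` : a nondegenerate quadratic form of type `ε` in dimension `2 n` with an isometry of order `N`, no power of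
which different from `1` fixes a nonzero vector.
* `eltS_plus` (`N ∣ q ^ k - 1`), `eltS_minus` (`N ∣ q ^ k + 1`, `N` odd)
* `HasEV.of_semi`
* `exists_E_plus`, `exists_E_minus` : the elements of `E Q`
-/

set_option autoImplicit false
set_option linter.unusedSectionVars false
set_option linter.style.haveILetI false

namespace Cfsg.Agent.H320.Der

open Polynomial Module Subgroup QuadraticMap
open Cfsg.Agent.LieClassical.OrthCore Cfsg.Agent.LieClassical.OrthForms Cfsg.Agent.H403.Classify Cfsg.Agent.H377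

/-- no nontrivial power fixes a nonzero vector -/
def Sr {F V : Type*} [Field F] [AddCommGroup V] [Module F V] (g : Module.End F V) (N : ℕ) : Prop :=
  ∀ v : V, v ≠ 0 → ∀ j : ℕ, (g ^ j) v = v → N ∣ j

section

variable (F : Type*) [Field F] [Finite F]

/-- A nondegenerate quadratic form of type `ε` in dimension `2n` has a semiregular isometry of order `N`. -/
def EltS (n : ℕ) (ε : ℤ) (N : ℕ) : Prop :=
  0 < N ∧ ∃ (Q : QuadraticForm F (Fin (2 * n) → F)) (g : Module.End F (Fin (2 * n) → F)),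
    Nondeg Q ∧ HasSign (⇑Q) n ε ∧ (∀ v, Q (g v) = Q v) ∧ orderOf g = N ∧ Sr g N

variable {F}

theorem EltS.elt {n : ℕ} {ε : ℤ} {N : ℕ} (h : EltS F n ε N) : Elt F n ε N := by
  obtain ⟨h1, Q, g, h2, h3, h4, h5, -⟩ := h
  exact ⟨h1, Q, g, h2, h3, h4, h5⟩

theorem EltS.of {V : Type*} [AddCommGroup V] [Module F V] [Finite V] {Q : QuadraticForm F V} {g : Module.End F V}
    {n : ℕ} (hn : Module.finrank F V = 2 * n)
    (hQ : Nondeg Q) {ε : ℤ} (hs : HasSign (⇑Q) n ε) (hg : ∀ v, Q (g v) = Q v) {N : ℕ} (hN : 0 < N)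
    (ho : orderOf g = N) (hr : Sr g N) : EltS F n ε N := by
  have : Module.Finite F V := Module.Finite.of_finite
  let e : V ≃ₗ[F] (Fin (2 * n) → F) := (Module.finBasisOfFinrankEq F V hn).equivFun
  have hpow : ∀ k : ℕ, (e.conj g) ^ k = e.conj (g ^ k) := by
    intro k
    change (LinearEquiv.conjRingEquiv e g) ^ k = LinearEquiv.conjRingEquiv e (g ^ k)
    rw [map_pow]
  refine ⟨hN, Q.comp (e.symm : _ →ₗ[F] V), e.conj g, ?_, ?_, ?_, ?_, ?_⟩
  · intro x hx
    have h1 : e.symm x = 0 := by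
      apply hQ
      intro y
      have := hx (e y)
      change Q (e.symm (x + e y)) - Q (e.symm x) - Q (e.symm (e y)) = 0 at this
      rw [map_add, LinearEquiv.symm_apply_apply] at this
      exact this
    exact (LinearEquiv.map_eq_zero_iff _).1 h1
  · refine hs.congr e.toEquiv fun v => ?_
    change Q (e.symm (e v)) = Q v
    rw [LinearEquiv.symm_apply_apply]
  · intro v
    change Q (e.symm (e (g (e.symm v)))) = Q (e.symm v)
    rw [LinearEquiv.symm_apply_apply, hg]
  · rw [← ho, orderOf_eq_orderOf_iff]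
    intro k
    rw [hpow]
    constructor
    · intro h
      apply e.conj.injective
      rw [h]
      exact (LinearEquiv.conjRingEquiv e).map_one.symm
    · intro h
      rw [h]
      exact (LinearEquiv.conjRingEquiv e).map_one
  · intro v hv j hj
    rw [hpow] at hj
    change e ((g ^ j) (e.symm v)) = v at hj
    refine hr (e.symm v) (fun h => hv ((LinearEquiv.map_eq_zero_iff _).1 h)) j ?_
    apply e.injective
    rw [hj, LinearEquiv.apply_symm_apply]

theorem EltS.dvd {n : ℕ} {ε : ℤ} {N M : ℕ} (h : EltS F n ε N) (hM : M ∣ N) : EltS F n ε M := by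
  obtain ⟨hN, Q, g, hQ, hs, hg, ho, hr⟩ := h
  obtain ⟨c, hc⟩ := hM
  have hc0 : c ≠ 0 := by
    rintro rfl
    omega
  have hM0 : 0 < M := by
    rcases Nat.eq_zero_or_pos M with rfl | h
    · omega
    · exact h
  refine ⟨hM0, Q, g ^ c, hQ, hs, fun v => isom_pow hg c v, ?_, ?_⟩
  · rw [orderOf_pow' g hc0, ho, hc, Nat.gcd_eq_right (Dvd.intro_left _ rfl)]
    exact Nat.mul_div_cancel _ (Nat.pos_of_ne_zero hc0)
  · intro v hv j hj
    rw [← pow_mul] at hj
    have h1 := hr v hv _ hj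
    rw [hc, mul_comm M c] at h1
    exact Nat.dvd_of_mul_dvd_mul_left (Nat.pos_of_ne_zero hc0) h1

/-- Restriction of scalars. -/
theorem EltS.res {K : Type*} [Field K] [Finite K] [Algebra F K] {n : ℕ} {ε : ℤ} {N : ℕ} (h : EltS K n ε N) :
    EltS F (Module.finrank F K * n) ε N := by
  obtain ⟨hN, Q, g, hQ, hs, hg, ho, hr⟩ := h
  have : Module.Finite F K := Module.Finite.of_finite
  let Q' : QuadraticForm F (Fin (2 * n) → K) := (Algebra.trace F K).compQuadraticMap' Q
  have hQ' : ∀ v, Q' v = Algebra.trace F K (Q v) := fun v => rfl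
  refine EltS.of (V := Fin (2 * n) → K) (Q := Q') (g := g.restrictScalars F) ?_ ?_ ?_ ?_ hN ?_ ?_
  · rw [Module.finrank_pi_fintype, Finset.sum_const, Finset.card_univ, Fintype.card_fin, smul_eq_mul]
    ring
  · intro x hx
    apply hQ
    intro y
    have h1 : ∀ c : K, Algebra.trace F K (c * polar Q x y) = 0 := by
      intro c
      have h2 := hx (c • y)
      simp only [polar, hQ'] at h2
      rw [← map_sub, ← map_sub] at h2
      have h3 : polar Q x (c • y) = c * polar Q x y := by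
        rw [polar_smul_right, smul_eq_mul]
      rw [← h3]
      exact h2
    by_contra hne
    obtain ⟨t, ht⟩ := Algebra.trace_surjective F K 1
    have h5 := h1 (t * (polar Q x y)⁻¹)
    rw [mul_assoc, inv_mul_cancel₀ hne, mul_one, ht] at h5
    exact one_ne_zero h5
  · exact hs.res
  · intro v
    rw [hQ', hQ']
    congr 1
    exact hg v
  · rw [orderOf_restrictScalars, ho]
  · intro v hv j hj
    refine hr v hv j ?_
    have h : ∀ (k : ℕ) (v : Fin (2 * n) → K), ((g.restrictScalars F : Module.End F (Fin (2 * n) → K)) ^ k) v =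
        (g ^ k) v := by
      intro k
      induction k with
      | zero => intro v; rfl
      | succ k ih =>
        intro v
        rw [pow_succ, pow_succ, Module.End.mul_apply, Module.End.mul_apply, ih]
        rfl
    rw [← h]
    exact hj

theorem eltS_hyp {N : ℕ} (hN : N ∣ Nat.card F - 1) : EltS F 1 1 N := by
  have hq := Finite.one_lt_card (α := F)
  refine EltS.dvd ?_ hN
  obtain ⟨l, hl⟩ := IsCyclic.exists_ofOrder_eq_natCard (α := Fˣ)
  rw [Nat.card_units] at hl
  let g : Module.End F (F × F) :=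
    ((l : F) • (LinearMap.id : F →ₗ[F] F)).prodMap (((l⁻¹ : Fˣ) : F) • (LinearMap.id : F →ₗ[F] F))
  have hg : ∀ (k : ℕ) (v : F × F), (g ^ k) v = (((l ^ k : Fˣ) : F) * v.1, (((l ^ k)⁻¹ : Fˣ) : F) * v.2) := by
    intro k
    induction k with
    | zero => intro v; simp
    | succ k ih =>
      intro v
      rw [pow_succ, Module.End.mul_apply, ih]
      change (((l ^ k : Fˣ) : F) * ((l : F) * v.1), (((l ^ k)⁻¹ : Fˣ) : F) * (((l⁻¹ : Fˣ) : F) * v.2)) = _
      rw [pow_succ, mul_inv_rev, Units.val_mul, Units.val_mul, mul_assoc]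
      congr 1
      rw [mul_comm ((l⁻¹ : Fˣ) : F) (((l ^ k)⁻¹ : Fˣ) : F), mul_assoc]
  refine EltS.of (V := F × F) (Q := hypQ F) (g := g) (by simp) hypQ_nondeg hasSign_mul ?_ (by omega) ?_ ?_
  · intro v
    have h := hg 1 v
    rw [pow_one] at h
    rw [h, hypQ_apply, hypQ_apply, pow_one]
    change (l : F) * v.1 * (((l⁻¹ : Fˣ) : F) * v.2) = v.1 * v.2
    have h1 : (l : F) * ((l⁻¹ : Fˣ) : F) = 1 := Units.mul_inv l
    linear_combination v.1 * v.2 * h1
  · rw [← hl, orderOf_eq_orderOf_iff]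
    intro k
    constructor
    · intro h
      have h1 := hg k (1, 0)
      rw [h] at h1
      have h2 := congrArg Prod.fst h1
      simp only [mul_one] at h2
      exact Units.ext h2.symm
    · intro h
      ext <;> simp only [hg, h, _root_.LinearMap.coe_comp, _root_.LinearMap.coe_inl, _root_.Function.comp_apply, _root_.Units.val_one, _root_.mul_one, _root_.inv_one, _root_.MulZeroClass.mul_zero, _root_.Module.End.one_apply, _root_.LinearMap.coe_inr]
  · rintro ⟨v1, v2⟩ hv j hj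
    rw [hg] at hj
    rw [← hl]
    apply orderOf_dvd_of_pow_eq_one
    have h1 := congrArg Prod.fst hj
    have h2 := congrArg Prod.snd hj
    change ((l ^ j : Fˣ) : F) * v1 = v1 at h1
    change (((l ^ j)⁻¹ : Fˣ) : F) * v2 = v2 at h2
    by_cases hv1 : v1 = 0
    · have hv2 : v2 ≠ 0 := by
        rintro rfl
        exact hv (by rw [hv1]; rfl)
      have h3 : (((l ^ j)⁻¹ : Fˣ) : F) = 1 := mul_right_cancel₀ hv2 (by rw [h2, one_mul])
      exact inv_eq_one.1 (Units.ext h3)
    · have h3 : ((l ^ j : Fˣ) : F) = 1 := mul_right_cancel₀ hv1 (by rw [h1, one_mul])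
      exact Units.ext h3

end

section plane

variable {F V : Type*} [Field F] [AddCommGroup V] [Module F V] {Q : QuadraticForm F V}

/-- an isometry of odd order of an anisotropic plane which fixes a nonzero vector is trivial -/
theorem eq_one_of_fix (hQ : Nondeg Q) (h2 : finrank F V = 2) (ha : ∀ v, Q v = 0 → v = 0) {h : Module.End F V}
    (hh : ∀ v, Q (h v) = Q v) {N : ℕ} (hN : Odd N) (hN1 : h ^ N = 1) {v : V} (hv : v ≠ 0) (hv1 : h v = v) : h = 1 := by
  have hfin : FiniteDimensional F V := FiniteDimensional.of_finrank_pos (by omega)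
  have hpol : ∀ a b, polar Q (h a) (h b) = polar Q a b := fun a b => by
    simp only [polar, ← map_add, hh]
  obtain ⟨n0, hn0⟩ : ∃ n0 : V, ∀ t, polar Q v t = 0 → ∃ c : F, t = c • n0 := by
    let B : V →ₗ[F] F := (polarBilin Q) v
    have hB : B ≠ 0 := by
      intro h0
      apply hv
      apply hQ
      intro y
      exact LinearMap.congr_fun h0 y
    have hr : finrank F (LinearMap.range B) = 1 := by
      have h3 : LinearMap.range B = ⊤ := LinearMap.range_eq_top.2 (LinearMap.surjective hB)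
      rw [h3, finrank_top, finrank_self]
    have h3 := LinearMap.finrank_range_add_finrank_ker B
    have h4 : finrank F (LinearMap.ker B) = 1 := by omega
    obtain ⟨n, -, hn⟩ := finrank_eq_one_iff'.1 h4
    refine ⟨n, fun t ht => ?_⟩
    obtain ⟨c, hc⟩ := hn ⟨t, by rw [LinearMap.mem_ker]; exact ht⟩
    exact ⟨c, (congrArg Subtype.val hc).symm⟩
  have hinj : Function.Injective h := by
    obtain ⟨k, hk⟩ := hN
    intro x y hxy
    have h3 : ∀ z, (h ^ (2 * k)) (h z) = z := by
      intro z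
      rw [← Module.End.mul_apply, ← pow_succ, ← hk, hN1]
      rfl
    rw [← h3 x, hxy, h3]
  refine LinearMap.ext fun w => ?_
  change h w = w
  have key : ∀ u : V, polar Q v u = polar Q v w → Q u = Q w → ∃ a : F, u = w + a • n0 ∧
      a * (polar Q w n0 + a * Q n0) = 0 := by
    intro u hu1 hu2
    obtain ⟨a, ha'⟩ := hn0 (u - w) (by
      have : polar Q v (u - w) = polar Q v u - polar Q v w := polar_sub_right ..
      rw [this, hu1, sub_self])
    have hu : u = w + a • n0 := by rw [← ha']; abel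
    refine ⟨a, hu, ?_⟩
    rw [hu, Q_add, QuadraticMap.map_smul, polar_smul_right] at hu2
    simp only [smul_eq_mul] at hu2
    linear_combination hu2
  have e1 : polar Q v (h w) = polar Q v w := by
    have := hpol v w
    rwa [hv1] at this
  have e2 : polar Q v (h (h w)) = polar Q v w := by
    have := hpol v (h w)
    rw [hv1] at this
    rw [this, e1]
  obtain ⟨a, ha1, ha2⟩ := key (h w) e1 (hh w)
  obtain ⟨b, hb1, hb2⟩ := key (h (h w)) e2 (by rw [hh, hh])
  rcases mul_eq_zero.1 ha2 with h3 | h3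
  · rw [ha1, h3, zero_smul, add_zero]
  rcases mul_eq_zero.1 hb2 with h4 | h4
  · rw [h4, zero_smul, add_zero] at hb1
    obtain ⟨k, hk⟩ := hN
    have h5 : ∀ j : ℕ, (h ^ (2 * j)) w = w := by
      intro j
      induction j with
      | zero => rfl
      | succ j ih =>
        rw [show 2 * (j + 1) = 2 * j + 1 + 1 by ring, pow_succ, pow_succ, Module.End.mul_apply, Module.End.mul_apply,
          hb1, ih]
    have h6 := h5 k
    have h7 : (h ^ N) w = h w := by
      rw [hk, pow_succ', Module.End.mul_apply, h6]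
    rw [hN1] at h7
    exact h7.symm
  · have h5 : (a - b) * Q n0 = 0 := by linear_combination h3 - h4
    rcases mul_eq_zero.1 h5 with h6 | h6
    · have h7 : h (h w) = h w := by rw [hb1, ha1, sub_eq_zero.1 h6]
      exact hinj h7
    · rw [ha1, ha n0 h6, smul_zero, add_zero]

end plane

section

variable {F : Type*} [Field F] [Finite F]

theorem eltS_ell {N : ℕ} (hodd : Odd N) (hN : N ∣ Nat.card F + 1) : EltS F 1 (-1) N := by
  obtain ⟨h0, Q, g, hQ, hs, hg, ho⟩ := elt_ell (F := F) hN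
  refine ⟨h0, Q, g, hQ, hs, hg, ho, ?_⟩
  obtain ⟨a, b, hab⟩ := exists_aniso F
  obtain ⟨e, he⟩ := exists_minus le_rfl (by rw [Module.finrank_fin_fun]) Q hQ hs hab
  have ha : ∀ v, Q v = 0 → v = 0 := by
    intro v hv
    obtain ⟨u, rfl⟩ := e.surjective v
    rw [he, Cfsg.quadFormMinus, Finset.sum_eq_zero (fun i _ => i.elim0), zero_add] at hv
    obtain ⟨h2, h3⟩ := hab _ _ hv
    have hu : u = 0 := by
      funext i
      rcases i with (i | i) | i
      · exact i.elim0
      · exact i.elim0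
      · fin_cases i
        · exact h2
        · exact h3
    rw [hu, map_zero]
  intro v hv j hj
  have hgN : g ^ N = 1 := by rw [← ho]; exact pow_orderOf_eq_one g
  have h1 : g ^ j = 1 := by
    refine eq_one_of_fix hQ (by rw [Module.finrank_fin_fun]) ha (fun v => isom_pow hg j v) hodd ?_ hv hj
    rw [← pow_mul, mul_comm j N, pow_mul, hgN, one_pow]
  rw [← ho]
  exact orderOf_dvd_of_pow_eq_one h1

/-- Split tori. -/
theorem eltS_plus {k N : ℕ} (hk : 1 ≤ k) (hN : N ∣ Nat.card F ^ k - 1) : EltS F k 1 N := by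
  obtain ⟨p, _⟩ := CharP.exists F
  haveI : Fact p.Prime := ⟨CharP.char_is_prime F p⟩
  haveI : NeZero k := ⟨by omega⟩
  have h := EltS.res (F := F) (eltS_hyp (F := FiniteField.Extension F p k) (N := N) (by
    rwa [FiniteField.natCard_extension]))
  rwa [FiniteField.finrank_extension, mul_one] at h

/-- Nonsplit tori. -/
theorem eltS_minus {k N : ℕ} (hk : 1 ≤ k) (hodd : Odd N) (hN : N ∣ Nat.card F ^ k + 1) : EltS F k (-1) N := by
  obtain ⟨p, _⟩ := CharP.exists F
  haveI : Fact p.Prime := ⟨CharP.char_is_prime F p⟩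
  haveI : NeZero k := ⟨by omega⟩
  have h := EltS.res (F := F) (eltS_ell (F := FiniteField.Extension F p k) (N := N) hodd (by
    rwa [FiniteField.natCard_extension]))
  rwa [FiniteField.finrank_extension, mul_one] at h

end

end Cfsg.Agent.H320.Der
end

-- part: H320/Der/Tor
section
/-!
# Torus elements of `E Q` (helper320, S3502)
-/

set_option autoImplicit false
set_option linter.unusedSectionVars false

namespace Cfsg.Agent.H320.Der

open Polynomial Module Subgroup QuadraticMap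
open Cfsg.Agent.LieClassical.OrthCore Cfsg.Agent.LieClassical.OrthTrans Cfsg.Agent.LieClassical.OrthForms
  Cfsg.Agent.H403.Classify Cfsg.Agent.H377 Cfsg.Agent.AutOrth.Main

section ev

variable {F V W : Type*} [Field F] [AddCommGroup V] [Module F V] [AddCommGroup W] [Module F W]

theorem hasEV_of_semi [FiniteDimensional F W] [Nontrivial W] {g : Module.End F W} {N : ℕ} (hN : 0 < N)
    (ho : orderOf g = N) (hr : Sr g N) : HasEV g N := by
  have hint : IsIntegral F g := Algebra.IsIntegral.isIntegral g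
  obtain ⟨a, ha⟩ := IsAlgClosed.exists_aeval_eq_zero (AlgebraicClosure F) (minpoly F g) (minpoly.degree_pos hint).ne'
  have hgN : g ^ N = 1 := by rw [← ho]; exact pow_orderOf_eq_one g
  have haN : a ^ N = 1 := by
    have h1 := ev_kills ha (p := X ^ N - 1) (by simp [hgN])
    simpa only [sub_eq_zero, _root_.Polynomial.aeval_sub, _root_.map_pow, _root_.Polynomial.aeval_X, _root_.map_one] using h1
  have hd := orderOf_dvd_of_pow_eq_one haN
  have hd0 : 0 < orderOf a := Nat.pos_of_dvd_of_pos hd hN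
  refine ⟨a, Nat.dvd_antisymm hd ?_, ha⟩
  have hia : IsIntegral F a := Algebra.IsIntegral.isIntegral a
  obtain ⟨v, hv⟩ := minpoly.dvd F a ha
  obtain ⟨t, ht⟩ := minpoly.dvd F a (p := X ^ orderOf a - 1) (by simp [pow_orderOf_eq_one])
  have hne : minpoly F g ≠ 0 := minpoly.ne_zero hint
  have hv0 : v ≠ 0 := by
    rintro rfl
    rw [mul_zero] at hv
    exact hne hv
  have hdeg : v.natDegree < (minpoly F g).natDegree := by
    rw [hv, Polynomial.natDegree_mul (minpoly.ne_zero hia) hv0]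
    have := minpoly.natDegree_pos hia
    omega
  have hvg : aeval g v ≠ 0 := by
    intro h0
    have h1 := Polynomial.natDegree_le_natDegree (minpoly.degree_le_of_ne_zero F g hv0 h0)
    omega
  obtain ⟨x, hx⟩ : ∃ x, aeval g v x ≠ 0 := by
    by_contra hcon
    push Not at hcon
    exact hvg (LinearMap.ext hcon)
  refine hr _ hx _ ?_
  have h1 : aeval g (minpoly F a) (aeval g v x) = 0 := by
    rw [← Module.End.mul_apply, ← map_mul, ← hv, minpoly.aeval, LinearMap.zero_apply]
  have h2 : aeval g (X ^ orderOf a - 1 : F[X]) (aeval g v x) = 0 := by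
    rw [ht, mul_comm, map_mul, Module.End.mul_apply, h1, map_zero]
  have h3 : aeval g (X ^ orderOf a - 1 : F[X]) = g ^ orderOf a - 1 := by simp only [_root_.Polynomial.aeval_sub, _root_.map_pow, _root_.Polynomial.aeval_X, _root_.map_one]
  rw [h3, LinearMap.sub_apply, sub_eq_zero] at h2
  exact h2

theorem aeval_embed {g : Module.End F W} {T : Module.End F V} {i : W →ₗ[F] V} (h : ∀ w, T (i w) = i (g w)) (p : F[X])
    (w : W) : aeval T p (i w) = i (aeval g p w) := by
  have hp : ∀ (n : ℕ) (u : W), (T ^ n) (i u) = i ((g ^ n) u) := by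
    intro n
    induction n with
    | zero => intro u; rfl
    | succ n ih =>
      intro u
      rw [pow_succ, Module.End.mul_apply, h, ih, pow_succ, Module.End.mul_apply]
  induction p using Polynomial.induction_on' with
  | add p q hp' hq' =>
    rw [map_add, map_add, LinearMap.add_apply, LinearMap.add_apply, map_add, hp', hq']
  | monomial n c =>
    rw [aeval_monomial, aeval_monomial, Module.End.mul_apply, Module.End.mul_apply,
      Module.algebraMap_end_apply, Module.algebraMap_end_apply, map_smul, hp]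

theorem HasEV.embed {g : Module.End F W} {T : Module.End F V} {i : W →ₗ[F] V} (hi : Function.Injective i)
    (h : ∀ w, T (i w) = i (g w)) {N : ℕ} (hg : HasEV g N) : HasEV T N := by
  obtain ⟨a, ha, ha'⟩ := hg
  refine ⟨a, ha, ev_kills ha' ?_⟩
  refine LinearMap.ext fun w => hi ?_
  rw [← aeval_embed h, minpoly.aeval]
  simp

theorem HasEV.dvd {g : Module.End F W} {N : ℕ} (h : HasEV g N) {m : ℕ} (hm : g ^ m = 1) : N ∣ m := by
  obtain ⟨a, rfl, ha⟩ := h
  apply orderOf_dvd_of_pow_eq_one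
  have h1 := ev_kills ha (p := X ^ m - 1) (by simp [hm])
  simpa only [sub_eq_zero, _root_.Polynomial.aeval_sub, _root_.map_pow, _root_.Polynomial.aeval_X, _root_.map_one] using h1

end ev

section

universe u

variable {F : Type u} [Field F] [Finite F]

open scoped Matrix

/-- squares of isometries -/
theorem exists_omega {ι : Type} [Fintype ι] [DecidableEq ι] (Q : QuadraticForm F (ι → F)) (hQ : Nondeg Q)
    (h5 : 5 ≤ Fintype.card ι) {V : Type*} [AddCommGroup V] [Module F V] (Q' : V → F) (e : (ι → F) ≃ₗ[F] V)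
    (he : ∀ u, Q' (e u) = Q u) (T : Module.End F V) (hT : ∀ v, Q' (T v) = Q' v) :
    ∃ z : Cfsg.Omega F ⇑Q, ∀ x : ι → F,
      ((((z : Cfsg.isometryGroup F ⇑Q) : Matrix.GeneralLinearGroup ι F) : Matrix ι ι F)) *ᵥ x = e.symm (T (T (e x))) := by
  classical
  let φ : Module.End F V ≃ₐ[F] Matrix ι ι F := (e.symm.conjAlgEquiv F).trans LinearMap.toMatrixAlgEquiv'
  have hφ : ∀ (S : Module.End F V) (x : ι → F), (φ S).mulVec x = e.symm (S (e x)) := by
    intro S x
    show (LinearMap.toMatrix' (e.symm.conj S)).mulVec x = _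
    rw [LinearMap.toMatrix'_mulVec]
    rfl
  have hM : ∀ x, Q ((φ T).mulVec x) = Q x := by
    intro x
    rw [← he, ← he, hφ, e.apply_symm_apply, hT]
  have hinj : ∀ x, (φ T).mulVec x = 0 → x = 0 := by
    intro x hx
    apply hQ
    intro y
    have h1 : polar Q ((φ T).mulVec x) ((φ T).mulVec y) = polar Q x y := by
      rw [polar, polar, ← Matrix.mulVec_add, hM, hM, hM]
    rw [← h1, hx]
    simp [polar]
  have hunit : IsUnit (φ T) := by
    rw [← Matrix.mulVec_injective_iff_isUnit]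
    intro x y hxy
    have h1 : (φ T).mulVec (x - y) = 0 := by
      rw [Matrix.mulVec_sub]
      exact sub_eq_zero.2 hxy
    exact sub_eq_zero.1 (hinj _ h1)
  obtain ⟨M, hM'⟩ := hunit
  have hmem : M ∈ Cfsg.isometryGroup F ⇑Q := by
    rw [Cfsg.Agent.LieClassical.OrthFinite.mem_isometryGroup_iff]
    intro x
    rw [hM']
    exact hM x
  let g : Cfsg.isometryGroup F ⇑Q := ⟨M, hmem⟩
  refine ⟨⟨g * g, mul_self_mem_Omega Q hQ h5 g⟩, fun x => ?_⟩
  show ((M * M : Matrix.GeneralLinearGroup ι F) : Matrix ι ι F) *ᵥ x = _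
  rw [Units.val_mul, ← Matrix.mulVec_mulVec, hM', hφ, hφ, e.apply_symm_apply]

/-- **torus elements** -/
theorem exists_E {ι : Type} [Fintype ι] [DecidableEq ι] (Q : QuadraticForm F (ι → F)) (hG : Good Q)
    (h5 : 5 ≤ Fintype.card ι) {V : Type*} [AddCommGroup V] [Module F V] (Q' : V → F) (e : (ι → F) ≃ₗ[F] V)
    (he : ∀ u, Q' (e u) = Q u) (T : Module.End F V) (hT : ∀ v, Q' (T v) = Q' v) {N : ℕ} (hN : Odd N) (hTN : T ^ N = 1)
    {W : Type*} [AddCommGroup W] [Module F W] [FiniteDimensional F W] (i : W →ₗ[F] V) (hi : Function.Injective i)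
    (g : Module.End F W)
    (hg : ∀ w, T (i w) = i (g w)) (hr : ∀ x, ∃ w, T x - x = i w) (hev : HasEV g N) {w : ℕ} (hw : finrank F W ≤ w) :
    ∃ z : ↥(E Q), orderOf z = N ∧ HasEV (lin z) N ∧ finrank F (LinearMap.range (lin z - 1)) ≤ w := by
  obtain ⟨k, hk⟩ := hN
  have hpow : ∀ (j : ℕ) (v : V), Q' ((T ^ j) v) = Q' v := by
    intro j
    induction j with
    | zero => intro v; rfl
    | succ j ih => intro v; rw [pow_succ, Module.End.mul_apply, ih, hT]
  have hTT : ∀ v, (T ^ (k + 1)) ((T ^ (k + 1)) v) = T v := by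
    intro v
    rw [← Module.End.mul_apply, ← pow_add, show k + 1 + (k + 1) = N + 1 by omega, pow_succ, hTN, one_mul]
  obtain ⟨z0, hz0⟩ := exists_omega Q hG.nondeg h5 Q' e he (T ^ (k + 1)) (hpow _)
  have hz : ∀ x, lin (oe hG z0) x = e.symm (T (e x)) := by
    intro x
    rw [lin_apply, oe_apply, hz0, hTT]
  have hzp : ∀ (j : ℕ) (x : ι → F), (lin (oe hG z0) ^ j) x = e.symm ((T ^ j) (e x)) := by
    intro j
    induction j with
    | zero => intro x; simp only [_root_.pow_zero, _root_.Module.End.one_apply, _root_.LinearEquiv.symm_apply_apply]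
    | succ j ih =>
      intro x
      rw [pow_succ, Module.End.mul_apply, ih, hz, pow_succ, Module.End.mul_apply, e.apply_symm_apply]
  have hev' : HasEV (lin (oe hG z0)) N := by
    refine HasEV.embed (i := (e.symm : V →ₗ[F] (ι → F)).comp i) (fun a b hab => hi (e.symm.injective hab)) ?_ hev
    intro w
    rw [LinearMap.comp_apply, LinearMap.comp_apply, hz]
    show e.symm (T (e (e.symm (i w)))) = e.symm (i (g w))
    rw [e.apply_symm_apply, hg]
  refine ⟨oe hG z0, Nat.dvd_antisymm ?_ ?_, hev', ?_⟩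
  · apply orderOf_dvd_of_pow_eq_one
    apply lin_injective
    rw [map_pow, map_one]
    refine LinearMap.ext fun x => ?_
    rw [hzp, hTN]
    simp
  · refine hev'.dvd ?_
    rw [← map_pow, pow_orderOf_eq_one, map_one]
  · have h1 : LinearMap.range (lin (oe hG z0) - 1) ≤ LinearMap.range ((e.symm : V →ₗ[F] (ι → F)).comp i) := by
      rintro _ ⟨x, rfl⟩
      obtain ⟨w, hw⟩ := hr (e x)
      refine ⟨w, ?_⟩
      rw [LinearMap.comp_apply, ← hw, LinearMap.sub_apply, hz, Module.End.one_apply]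
      show e.symm (T (e x) - e x) = _
      rw [map_sub, e.symm_apply_apply]
    refine (Submodule.finrank_mono h1).trans ((LinearMap.finrank_range_le _).trans hw)

/-- the data of a torus element -/
def TorE {ι : Type} [Fintype ι] [DecidableEq ι] (Q : QuadraticForm F (ι → F)) (w N : ℕ) : Prop :=
  ∃ z : ↥(E Q), orderOf z = N ∧ HasEV (lin z) N ∧ finrank F (LinearMap.range (lin z - 1)) ≤ w

theorem torE_of {ι : Type} [Fintype ι] [DecidableEq ι] {Q : QuadraticForm F (ι → F)} (hG : Good Q)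
    (h5 : 5 ≤ Fintype.card ι) {m k N : ℕ} {δ ε : ℤ} (hk : 1 ≤ k) (hkm : k < m ∨ (k = m ∧ ε = δ))
    (hε : ε = 1 ∨ ε = -1) (hδ : δ = 1 ∨ δ = -1)
    (hcl : ∀ {V : Type u} [AddCommGroup V] [Module F V] [Finite V], Module.finrank F V = 2 * m →
      ∀ Q' : QuadraticForm F V, Nondeg Q' → HasSign (⇑Q') m δ → ∃ e : (ι → F) ≃ₗ[F] V, ∀ u, Q' (e u) = Q u)
    (hN : Odd N) (h : EltS F k ε N) : TorE Q (2 * k) N := by
  obtain ⟨hN0, Q1, g, hQ1, hs, hg, ho, hr⟩ := h
  have : Nonempty (Fin (2 * k)) := ⟨⟨0, by omega⟩⟩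
  have hev : HasEV g N := hasEV_of_semi hN0 ho hr
  have hgN : g ^ N = 1 := by rw [← ho]; exact pow_orderOf_eq_one g
  rcases hkm with hkm | ⟨rfl, rfl⟩
  · have h1 : (ε * δ) = 1 ∨ (ε * δ) = -1 := by
      rcases hε with rfl | rfl <;> rcases hδ with rfl | rfl <;> simp
    obtain ⟨-, Q2, g2, hQ2, hs2, -, -⟩ := elt_one_pm (F := F) (n := m - k) (by omega) h1
    have hs' := hs.prod hs2
    rw [show k + (m - k) = m by omega, ← mul_assoc, show ε * ε = 1 by rcases hε with rfl | rfl <;> rfl, one_mul] at hs'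
    obtain ⟨e, he⟩ := hcl (V := (Fin (2 * k) → F) × (Fin (2 * (m - k)) → F)) (by
      rw [Module.finrank_prod, Module.finrank_fin_fun, Module.finrank_fin_fun]; omega) (sumQ Q1 Q2)
      (sumQ_nondeg hQ1 hQ2) hs'
    refine exists_E Q hG h5 (⇑(sumQ Q1 Q2)) e he (g.prodMap (1 : Module.End F (Fin (2 * (m - k)) → F))) ?_ hN ?_
      (LinearMap.inl F _ _) LinearMap.inl_injective g ?_ ?_ hev (by rw [Module.finrank_fin_fun])
    · intro v
      rw [sumQ_apply, sumQ_apply, LinearMap.prodMap_apply, hg]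
      rfl
    · rw [prodMap_pow', hgN, one_pow]
      rfl
    · intro w
      simp
    · intro x
      refine ⟨g x.1 - x.1, ?_⟩
      simp [LinearMap.prodMap_apply, Prod.ext_iff]
  · obtain ⟨e, he⟩ := hcl (V := Fin (2 * k) → F) (by rw [Module.finrank_fin_fun]) Q1 hQ1 hs
    exact exists_E Q hG h5 (⇑Q1) e he g hg hN hgN LinearMap.id Function.injective_id g (fun _ => rfl)
      (fun x => ⟨g x - x, rfl⟩) hev (by rw [Module.finrank_fin_fun])

end

end Cfsg.Agent.H320.Der
end

-- part: H320/Der/Cnt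
section
/-!
# Three `Aut T`-classes from a torus, `T = PΩ^±_{2m}(q)` (helper320, S3502)

* `Idx T i` (for `P Q`): the automorphisms permuting the point stabilisers have index at most `i`
* `three_of_tor`, `two_of_tor`
* `Gp F m δ T` : `T` is `PΩ^δ_{2m}(F)`, with the facts used
-/

set_option autoImplicit false
set_option linter.unusedSectionVars false

namespace Cfsg.Agent.H320.Der

open Polynomial Module Subgroup QuadraticMap Cfsg.Agent.H439.Der
open Cfsg.Agent.LieClassical.OrthCore Cfsg.Agent.LieClassical.OrthTrans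
  Cfsg.Agent.H403.Classify Cfsg.Agent.H377 Cfsg.Agent.AutOrth.Main Cfsg.Agent.ClassicalGeometry.OrthAut1
  Cfsg.Agent.LieClassical.QuadForms

universe u

section

variable {F : Type u} [Field F] [Finite F] {V : Type*} [AddCommGroup V] [Module F V] [FiniteDimensional F V]
  {Q : QuadraticForm F V}

theorem finite_P : Finite (P Q) := by
  have := finite_E (Q := Q)
  exact Quotient.finite _

/-- the automorphisms permuting the point stabilisers have index at most `i` -/
def Idx (hG : _root_.Cfsg.Agent.LieClassical.OrthTrans.Good Q) (i : ℕ) : Prop := ∃ A : Subgroup (MulAut (P Q)), A.index ≤ i ∧ ∀ α ∈ A, Pt hG α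

/-- at least three classes of elements of order divisible by `v` -/
def Th (T : Type*) [Group T] (v : ℕ) : Prop :=
  ∃ x y z : T, v ∣ orderOf x ∧ v ∣ orderOf y ∧ v ∣ orderOf z ∧ (∀ φ : T ≃* T, φ x ≠ y) ∧ (∀ φ : T ≃* T, φ x ≠ z) ∧
    ∀ φ : T ≃* T, φ y ≠ z

/-- two classes of elements of order `n` -/
def Tw (T : Type*) [Group T] (n : ℕ) : Prop :=
  ∃ x y : T, orderOf x = n ∧ orderOf y = n ∧ ∀ φ : T ≃* T, φ x ≠ y

theorem Th.congr {T S : Type*} [Group T] [Group S] {v : ℕ} (e : T ≃* S) (h : Th T v) : Th S v := by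
  obtain ⟨x, y, z, hx, hy, hz, h1, h2, h3⟩ := h
  refine ⟨e x, e y, e z, by rwa [MulEquiv.orderOf_eq], by rwa [MulEquiv.orderOf_eq], by rwa [MulEquiv.orderOf_eq],
    fun φ hφ => h1 ((e.trans φ).trans e.symm) ?_,
    fun φ hφ => h2 ((e.trans φ).trans e.symm) ?_, fun φ hφ => h3 ((e.trans φ).trans e.symm) ?_⟩
  · simp [hφ]
  · simp [hφ]
  · simp [hφ]

theorem Tw.congr {T S : Type*} [Group T] [Group S] {v : ℕ} (e : T ≃* S) (h : Tw T v) : Tw S v := by
  obtain ⟨x, y, hx, hy, h1⟩ := h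
  refine ⟨e x, e y, by rwa [MulEquiv.orderOf_eq], by rwa [MulEquiv.orderOf_eq],
    fun φ hφ => h1 ((e.trans φ).trans e.symm) ?_⟩
  simp [hφ]

theorem Th.not_SCC {T : Type*} [Group T] {v : ℕ} (h : Th T v) : ¬ SCC T v := by
  obtain ⟨x, y, z, hx, hy, hz, h1, h2, h3⟩ := h
  exact not_SCC_of_three hx hy hz h1 h2 h3

/-- three orders -/
theorem Th.of_orders {T : Type*} [Group T] {v a b c : ℕ} (ha : v ∣ a) (hb : v ∣ b) (hc : v ∣ c) (hab : a ≠ b)
    (hac : a ≠ c) (hbc : b ≠ c) (h1 : ∃ x : T, orderOf x = a) (h2 : ∃ x : T, orderOf x = b)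
    (h3 : ∃ x : T, orderOf x = c) : Th T v := by
  obtain ⟨x, hx⟩ := h1
  obtain ⟨y, hy⟩ := h2
  obtain ⟨z, hz⟩ := h3
  refine ⟨x, y, z, hx ▸ ha, hy ▸ hb, hz ▸ hc, fun φ hφ => hab ?_, fun φ hφ => hac ?_, fun φ hφ => hbc ?_⟩
  · rw [← hx, ← hy, ← hφ, MulEquiv.orderOf_eq]
  · rw [← hx, ← hz, ← hφ, MulEquiv.orderOf_eq]
  · rw [← hy, ← hz, ← hφ, MulEquiv.orderOf_eq]

/-- two classes of one order and another order -/
theorem Th.of_two {T : Type*} [Group T] {v a b : ℕ} (ha : v ∣ a) (hb : v ∣ b) (hab : a ≠ b)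
    (h1 : Tw T a) (h2 : ∃ x : T, orderOf x = b) : Th T v := by
  obtain ⟨x, y, hx, hy, hxy⟩ := h1
  obtain ⟨z, hz⟩ := h2
  refine ⟨x, y, z, hx ▸ ha, hy ▸ ha, hz ▸ hb, hxy, fun φ hφ => hab ?_, fun φ hφ => hab ?_⟩
  · rw [← hx, ← hz, ← hφ, MulEquiv.orderOf_eq]
  · rw [← hy, ← hz, ← hφ, MulEquiv.orderOf_eq]

theorem three_of_tor (hG : _root_.Cfsg.Agent.LieClassical.OrthTrans.Good Q) (h7 : 7 ≤ finrank F V) {i w N v : ℕ} (hi : Idx hG i) (hN : Odd N) (hv : v.Prime)
    (hvN : v ∣ N) {z : ↥(E Q)} (hz : orderOf z = N) (hev : HasEV (lin z) N)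
    (hw : finrank F (LinearMap.range (lin z - 1)) ≤ w)
    (h : 2 * (i * (Nat.card (F ≃+* F) * w)) < N - N / v) : Th (P Q) v := by
  have := finite_P (Q := Q)
  obtain ⟨A, hA, hA'⟩ := hi
  have h1 := orb_spec hG h7 hA' hN hz hev hw hv.one_lt
  have h2 := card_sing (x := ((z : ↥(E Q)) : P Q)) hv (by rw [orderOf_mk hG (by rwa [hz]), hz]) hvN
  obtain ⟨x, y, t, hx, hy, ht, h3, h4, h5⟩ := exists_three h1 (lt_of_le_of_lt
    (Nat.mul_le_mul_left 2 (Nat.mul_le_mul_right _ hA)) (lt_of_lt_of_le h h2))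
  exact ⟨x, y, t, hx.2, hy.2, ht.2, h3, h4, h5⟩

theorem card_gen {T : Type*} [Group T] [Finite T] {x : T} {N : ℕ} (hx : orderOf x = N) :
    N.totient ≤ Nat.card {y // y ∈ zpowers x ∧ N ∣ orderOf y} := by
  classical
  have := Fintype.ofFinite T
  have h1 : Fintype.card (zpowers x) = N := by rw [← Nat.card_eq_fintype_card, Nat.card_zpowers, hx]
  have h2 := IsCyclic.card_orderOf_eq_totient (α := zpowers x) (d := N) (by rw [h1])
  rw [← h2, Nat.card_eq_fintype_card, ← Fintype.card_coe]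
  refine Fintype.card_le_of_injective (fun y => ⟨y.1.1, y.1.2, ?_⟩) fun a b hab => ?_
  · have h3 := (Finset.mem_filter.1 y.2).2
    rw [Subgroup.orderOf_coe, h3]
  · exact Subtype.ext (Subtype.ext (Subtype.mk.inj hab))

theorem two_of_tor (hG : _root_.Cfsg.Agent.LieClassical.OrthTrans.Good Q) (h7 : 7 ≤ finrank F V) {i w N : ℕ} (hi : Idx hG i) (hN : Odd N) (hN1 : 1 < N)
    {z : ↥(E Q)} (hz : orderOf z = N) (hev : HasEV (lin z) N)
    (hw : finrank F (LinearMap.range (lin z - 1)) ≤ w)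
    (h : i * (Nat.card (F ≃+* F) * w) < N.totient) : Tw (P Q) N := by
  have := finite_P (Q := Q)
  obtain ⟨A, hA, hA'⟩ := hi
  have h1 := orb_spec hG h7 hA' hN hz hev hw hN1
  have hx : orderOf ((z : ↥(E Q)) : P Q) = N := by rw [orderOf_mk hG (by rwa [hz]), hz]
  obtain ⟨x, y, hx', hy', h3⟩ := exists_two h1 (lt_of_le_of_lt
    (Nat.mul_le_mul_right _ hA) (lt_of_lt_of_le h (card_gen hx)))
  exact ⟨x, y, Nat.dvd_antisymm (by rw [← hx]; exact orderOf_dvd_of_mem_zpowers hx'.1) hx'.2,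
    Nat.dvd_antisymm (by rw [← hx]; exact orderOf_dvd_of_mem_zpowers hy'.1) hy'.2, h3⟩

theorem idx_one (hG : _root_.Cfsg.Agent.LieClassical.OrthTrans.Good Q) (h7 : 7 ≤ finrank F V)
    (h8 : finrank F V = 8 → ∀ W : Submodule F V, TS Q W → finrank F W ≠ 4) : Idx hG 1 :=
  ⟨⊤, by rw [Subgroup.index_top], fun α _ => pt_of_no_four hG h7 h8 α⟩

end

theorem idx_three {F : Type u} [Field F] [Finite F] : Idx (good_plus (F := F) (m := 4) (by norm_num)) 3 := by
  obtain ⟨Γ, hΓ, hind⟩ := Cfsg.Agent.ClassicalGeometry.TrialityFinal.exists_index_three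
    (good_plus (F := F) (m := 4) (by norm_num)) fun α x hx hx0 => by
      rcases Cfsg.Agent.ClassicalGeometry.OrthAut3.dichotomy (good_plus (F := F) (m := 4) (by norm_num)) (by simp)
        α hx hx0 with h | h
      · exact Or.inl h
      · exact Or.inr h.2
  exact ⟨Γ, hind.le, fun α hα => (hΓ α).1 hα⟩

/-- the facts about `T = PΩ^δ_{2m}(F)` -/
structure Gp (F : Type u) [Field F] [Fintype F] (m : ℕ) (δ : ℤ) (i : ℕ) (T : Type*) [Group T] : Prop where
  four : 4 ≤ m
  sign : δ = 1 ∨ δ = -1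
  fin : Finite T
  elt2 : ∀ N, Elt2 F m δ N → ∃ g : T, orderOf g = N
  cls : ∀ s : ℕ, s.Prime → s ≠ 2 → ¬ s ∣ Nat.card F → s ∣ Nat.card T →
    H72.AdjOrth.eta (H72.AdjOrth.ee (Nat.card F) s) < m ∨
      (H72.AdjOrth.eta (H72.AdjOrth.ee (Nat.card F) s) = m ∧ H72.AdjOrth.sg (H72.AdjOrth.ee (Nat.card F) s) = δ)
  three : ∀ {k N v : ℕ} {ε : ℤ}, 1 ≤ k → (k < m ∨ (k = m ∧ ε = δ)) → (ε = 1 ∨ ε = -1) → Odd N → EltS F k ε N →
    v.Prime → v ∣ N → 2 * (i * (Nat.card (F ≃+* F) * (2 * k))) < N - N / v → Th T v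
  two : ∀ {k N : ℕ} {ε : ℤ}, 1 ≤ k → (k < m ∨ (k = m ∧ ε = δ)) → (ε = 1 ∨ ε = -1) → Odd N → 1 < N → EltS F k ε N →
    i * (Nat.card (F ≃+* F) * (2 * k)) < N.totient → Tw T N

section

variable {F : Type u} [Field F] [Fintype F] {m : ℕ}

theorem gp_of {ι : Type} [Fintype ι] [DecidableEq ι] {Q : QuadraticForm F (ι → F)} (hG : _root_.Cfsg.Agent.LieClassical.OrthTrans.Good Q) {δ : ℤ} {i : ℕ}
    (hm : 4 ≤ m) (hι : Fintype.card ι = 2 * m) (hδ : δ = 1 ∨ δ = -1) (hi : Idx hG i)
    (hcl : ∀ {V : Type u} [AddCommGroup V] [Module F V] [Finite V], Module.finrank F V = 2 * m →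
      ∀ Q' : QuadraticForm F V, Nondeg Q' → HasSign (⇑Q') m δ → ∃ e : (ι → F) ≃ₗ[F] V, ∀ u, Q' (e u) = Q u)
    (h2 : ∀ N, Elt2 F m δ N → ∃ g : Cfsg.POmega F ⇑Q, orderOf g = N)
    (hc : ∀ s : ℕ, s.Prime → s ≠ 2 → ¬ s ∣ Nat.card F → s ∣ Nat.card (Cfsg.POmega F ⇑Q) →
    H72.AdjOrth.eta (H72.AdjOrth.ee (Nat.card F) s) < m ∨
      (H72.AdjOrth.eta (H72.AdjOrth.ee (Nat.card F) s) = m ∧ H72.AdjOrth.sg (H72.AdjOrth.ee (Nat.card F) s) = δ)) :
    Gp F m δ i (Cfsg.POmega F ⇑Q) where
  four := hm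
  sign := hδ
  fin := Quotient.finite _
  elt2 := h2
  cls := hc
  three := by
    intro k N v ε hk hkm hε hN h hv hvN hlt
    obtain ⟨z, hz, hev, hw⟩ := torE_of hG (by omega) hk hkm hε hδ hcl hN h
    exact (three_of_tor hG (by rw [Module.finrank_fintype_fun_eq_card]; omega) hi hN hv hvN hz hev hw hlt).congr
      (pe hG).symm
  two := by
    intro k N ε hk hkm hε hN hN1 h hlt
    obtain ⟨z, hz, hev, hw⟩ := torE_of hG (by omega) hk hkm hε hδ hcl hN h
    exact (two_of_tor hG (by rw [Module.finrank_fintype_fun_eq_card]; omega) hi hN hN1 hz hev hw hlt).congr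
      (pe hG).symm

theorem gp_plus {i : ℕ} (hm : 4 ≤ m) (hi : Idx (good_plus (F := F) (m := m) (by omega)) i) :
    Gp F m 1 i (Cfsg.POmega F (Cfsg.quadFormPlus m F)) := by
  rw [← coe_plusForm]
  refine gp_of (good_plus (F := F) (m := m) (by omega)) hm (by rw [Fintype.card_sum, Fintype.card_fin]; ring)
    (Or.inl rfl) hi ?_ ?_ ?_
  · intro V _ _ _ hV Q' hQ' hs
    obtain ⟨e, he⟩ := exists_plus (by omega) hV Q' hQ' hs
    exact ⟨e, fun u => by rw [he, coe_plusForm]⟩
  · intro N h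
    rw [coe_plusForm]
    exact h.plus hm
  · intro s hs _ hsq hd
    rw [coe_plusForm] at hd
    exact H72.AdjCoc.plus_class hm hs hsq hd

theorem gp_minus {i : ℕ} (hm : 4 ≤ m) {a b : F}
    (hab : ∀ z₁ z₂ : F, z₁ ^ 2 + a * z₁ * z₂ + b * z₂ ^ 2 = 0 → z₁ = 0 ∧ z₂ = 0)
    (hi : Idx (good_minus (F := F) (m := m - 1) (by omega) hab) i) :
    Gp F m (-1) i (Cfsg.POmega F (Cfsg.quadFormMinus (m - 1) F a b)) := by
  rw [← coe_minusForm]
  refine gp_of (good_minus (F := F) (m := m - 1) (by omega) hab) hm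
    (by simp only [Fintype.card_sum, Fintype.card_fin]; omega) (Or.inr rfl) hi ?_ ?_ ?_
  · intro V _ _ _ hV Q' hQ' hs
    obtain ⟨e, he⟩ := exists_minus (by omega) hV Q' hQ' hs hab
    exact ⟨e, fun u => by rw [he, coe_minusForm]⟩
  · intro N h
    rw [coe_minusForm]
    exact h.minus hm hab
  · intro s hs h2 hsq hd
    rw [coe_minusForm] at hd
    exact H72.AdjCoc.minus_class hm hab hs h2 hsq hd

theorem gp_plus_four : Gp F 4 1 3 (Cfsg.POmega F (Cfsg.quadFormPlus 4 F)) := gp_plus le_rfl idx_three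

theorem gp_plus_five (hm : 5 ≤ m) : Gp F m 1 1 (Cfsg.POmega F (Cfsg.quadFormPlus m F)) :=
  gp_plus (by omega) (idx_one _ (by rw [Module.finrank_fintype_fun_eq_card, Fintype.card_sum, Fintype.card_fin]; omega)
    fun h => by
      rw [Module.finrank_fintype_fun_eq_card, Fintype.card_sum, Fintype.card_fin] at h
      omega)

theorem gp_minus_all (hm : 4 ≤ m) {a b : F}
    (hab : ∀ z₁ z₂ : F, z₁ ^ 2 + a * z₁ * z₂ + b * z₂ ^ 2 = 0 → z₁ = 0 ∧ z₂ = 0) :
    Gp F m (-1) 1 (Cfsg.POmega F (Cfsg.quadFormMinus (m - 1) F a b)) :=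
  gp_minus hm hab (idx_one _ (by
    rw [Module.finrank_fintype_fun_eq_card]
    simp only [Fintype.card_sum, Fintype.card_fin]
    omega) fun h W hW => by
      have h1 := finrank_le_of_TS_minus (m - 1) a b hab hW
      rw [Module.finrank_fintype_fun_eq_card] at h
      simp only [Fintype.card_sum, Fintype.card_fin] at h
      omega)

end

end Cfsg.Agent.H320.Der
end

-- part: H320/Der/TypeI
section
/-!
# Primes of small weight: three element orders (helper320, S3502)
-/

set_option autoImplicit false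
set_option linter.unusedSectionVars false

namespace Cfsg.Agent.H320.Der

open Cfsg.Agent.H439.Der Cfsg.Agent.H377 Cfsg.Agent.H72.AdjOrth

universe u

/-! ### primes -/

theorem exists_w4 {q : ℕ} (hq : 2 ≤ q) : ∃ w : ℕ, w.Prime ∧ w ≠ 2 ∧ w ∣ q ^ 2 + 1 := by
  obtain ⟨k, m, hm, h⟩ := Nat.exists_eq_two_pow_mul_odd (n := q ^ 2 + 1) (by omega)
  have hq4 : 4 ≤ q ^ 2 := by nlinarith only [hq]
  have hmod : (q ^ 2 + 1) % 4 = 1 ∨ (q ^ 2 + 1) % 4 = 2 := by
    rcases Nat.even_or_odd' q with ⟨j, rfl | rfl⟩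
    · left
      rw [show (2 * j) ^ 2 + 1 = 4 * (j ^ 2) + 1 by ring]
      omega
    · right
      rw [show (2 * j + 1) ^ 2 + 1 = 4 * (j ^ 2 + j) + 2 by ring]
      omega
  have hm1 : m ≠ 1 := by
    rintro rfl
    rw [mul_one] at h
    have hk : 2 ≤ k := by
      by_contra hlt
      have : k = 0 ∨ k = 1 := by omega
      rcases this with rfl | rfl <;> omega
    obtain ⟨j, rfl⟩ := Nat.exists_eq_add_of_le hk
    rw [h, pow_add] at hmod
    omega
  refine ⟨m.minFac, Nat.minFac_prime hm1, ?_, ?_⟩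
  · intro h2
    have h3 := Nat.minFac_dvd m
    rw [h2] at h3
    obtain ⟨j, hj⟩ := hm
    omega
  · rw [h]
    exact (Nat.minFac_dvd m).mul_left _

theorem odd_minFac {m : ℕ} (hm : Odd m) : m.minFac ≠ 2 := by
  intro h2
  have h3 := Nat.minFac_dvd m
  rw [h2] at h3
  obtain ⟨j, hj⟩ := hm
  omega

theorem exists_w1 {q : ℕ} (hq : 2 ≤ q) (h3 : q ≠ 3) : ∃ w : ℕ, w.Prime ∧ w ≠ 2 ∧ w ∣ q ^ 2 - 1 := by
  rcases Nat.even_or_odd' q with ⟨j, rfl | rfl⟩
  · have h1 : (2 * j) ^ 2 - 1 = 4 * j ^ 2 - 1 := by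
      congr 1
      ring
    have hj : 1 ≤ j ^ 2 := Nat.one_le_pow _ _ (by omega)
    have hodd : Odd ((2 * j) ^ 2 - 1) := by
      rw [h1]
      exact ⟨2 * j ^ 2 - 1, by omega⟩
    exact ⟨_, Nat.minFac_prime (by omega), odd_minFac hodd, Nat.minFac_dvd _⟩
  · have h1 : (2 * j + 1) ^ 2 - 1 = 4 * (j * (j + 1)) := by
      rw [show (2 * j + 1) ^ 2 = 4 * (j * (j + 1)) + 1 by ring]
      omega
    have hj : 2 ≤ j := by omega
    rcases Nat.even_or_odd j with he | ho
    · have ho : Odd (j + 1) := he.add_one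
      refine ⟨_, Nat.minFac_prime (by omega : j + 1 ≠ 1), odd_minFac ho, ?_⟩
      rw [h1]
      exact ((Nat.minFac_dvd _).mul_left _).mul_left _
    · refine ⟨_, Nat.minFac_prime (by omega : j ≠ 1), odd_minFac ho, ?_⟩
      rw [h1]
      exact ((Nat.minFac_dvd _).mul_right _).mul_left _

theorem not_both {q v : ℕ} (hv : v.Prime) (h2 : v ≠ 2) (hq : 2 ≤ q) (h : v ∣ q ^ 2 - 1) : ¬ v ∣ q ^ 2 + 1 := by
  intro h1
  have hq4 : 4 ≤ q ^ 2 := by nlinarith
  have h3 := Nat.dvd_sub h1 h
  rw [show q ^ 2 + 1 - (q ^ 2 - 1) = 2 by omega] at h3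
  exact h2 ((Nat.prime_dvd_prime_iff_eq hv Nat.prime_two).1 h3)

section

variable {F : Type u} [Field F] [Fintype F]

/-- an odd prime divisor of `q ^ 2 + 1` -/
theorem elt_w4 {w : ℕ} (h : w ∣ Nat.card F ^ 2 + 1) : Elt F 2 (-1) w := elt_tor_minus (by norm_num) h

/-- an odd prime divisor of `q ^ 2 - 1` -/
theorem elt_w1 {w : ℕ} (hw : w.Prime) (h : w ∣ Nat.card F ^ 2 - 1) : ∃ ε : ℤ, (ε = 1 ∨ ε = -1) ∧ Elt F 1 ε w := by
  have h1 : Nat.card F ^ 2 - 1 = (Nat.card F + 1) * (Nat.card F - 1) := by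
    have := Nat.sq_sub_sq (Nat.card F) 1
    rwa [one_pow] at this
  rw [h1] at h
  rcases (Nat.Prime.dvd_mul hw).1 h with h | h
  · exact ⟨-1, Or.inr rfl, elt_tor_minus le_rfl (by rwa [pow_one])⟩
  · exact ⟨1, Or.inl rfl, elt_tor_plus le_rfl (by rwa [pow_one])⟩

variable {m i : ℕ} {δ : ℤ} {T : Type*} [Group T]

theorem Gp.of_odd (G : Gp F m δ i T) {N : ℕ} (hN : Odd N) (h : Elt F m δ N) : ∃ g : T, orderOf g = N :=
  G.elt2 N (Elt.two (by have := G.four; omega) hN h)

theorem Gp.of_two_mul (G : Gp F m δ i T) {a s : ℕ} {ε : ℤ} (hs : Odd s) (h : Elt F a ε s) (ha : 1 ≤ a)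
    (hε : ε = 1 ∨ ε = -1) (hm : a + 2 ≤ m) : ∃ g : T, orderOf g = 2 * s :=
  G.elt2 _ (elt2_two hs h ha hε G.sign hm)

theorem Gp.of_blk (G : Gp F m δ i T) {a b : ℕ} {ε ε' : ℤ} {r s : ℕ} (h : Elt F a ε r) (h' : Elt F b ε' s)
    (hε : ε = 1 ∨ ε = -1) (hε' : ε' = 1 ∨ ε' = -1) (hm : a + b + 1 ≤ m) (hr : r.Prime) (hs : s.Prime) (hrs : r ≠ s)
    (hr2 : r ≠ 2) (hs2 : s ≠ 2) : ∃ g : T, orderOf g = r * s :=
  G.of_odd ((hr.odd_of_ne_two hr2).mul (hs.odd_of_ne_two hs2)) (elt_blk h h' hε hε' G.sign hm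
    ((Nat.coprime_primes hr hs).2 hrs))

theorem q_ge : 2 ≤ Nat.card F := Finite.one_lt_card

theorem exists_p (F : Type u) [Field F] [Fintype F] : ∃ p : ℕ, p.Prime ∧ CharP F p ∧ p ∣ Nat.card F ∧
    ∀ v : ℕ, v.Prime → v ∣ Nat.card F → v = p := by
  obtain ⟨p, hp⟩ := CharP.exists F
  have hpp : p.Prime := CharP.char_is_prime F p
  have : Fact p.Prime := ⟨hpp⟩
  obtain ⟨n, -, hn⟩ := FiniteField.card F p
  refine ⟨p, hpp, hp, ?_, fun v hv h => ?_⟩
  · rw [Nat.card_eq_fintype_card, hn]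
    exact dvd_pow_self p n.ne_zero
  · rw [Nat.card_eq_fintype_card, hn] at h
    exact (Nat.prime_dvd_prime_iff_eq hv hpp).1 (hv.dvd_of_dvd_pow h)

theorem not_dvd_card_of_w4 {w p : ℕ} (hw : w.Prime) (h : w ∣ Nat.card F ^ 2 + 1) (hp : p ∣ Nat.card F) : w ≠ p := by
  rintro rfl
  have h1 := Nat.dvd_sub h (dvd_pow hp two_ne_zero)
  rw [show Nat.card F ^ 2 + 1 - Nat.card F ^ 2 = 1 by omega] at h1
  exact hw.one_lt.ne' (Nat.dvd_one.1 h1)

theorem not_dvd_card_of_w1 {w p : ℕ} (hw : w.Prime) (h : w ∣ Nat.card F ^ 2 - 1) (hp : p ∣ Nat.card F) : w ≠ p := by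
  rintro rfl
  have hq4 : 4 ≤ Nat.card F ^ 2 := by nlinarith [q_ge (F := F)]
  have h1 := Nat.dvd_sub (dvd_pow hp two_ne_zero) h
  rw [show Nat.card F ^ 2 - (Nat.card F ^ 2 - 1) = 1 by omega] at h1
  exact hw.one_lt.ne' (Nat.dvd_one.1 h1)

/-- the prime two -/
theorem th_two (G : Gp F m δ i T) (hd : 2 ∣ Nat.card T) : Th T 2 := by
  have := G.fin
  have hm := G.four
  have : Fact (Nat.Prime 2) := ⟨Nat.prime_two⟩
  obtain ⟨w, hw, hw2, hwd⟩ := exists_w4 (q_ge (F := F))
  obtain ⟨p, hp, hpc, hpq, -⟩ := exists_p F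
  have key : ∃ s : ℕ, s.Prime ∧ s ≠ 2 ∧ s ≠ w ∧ ∃ g : T, orderOf g = 2 * s := by
    by_cases hp2 : p = 2
    · subst hp2
      have h3 : Nat.card F ≠ 3 := fun h => by rw [h] at hpq; omega
      obtain ⟨s, hs, hs2, hsd⟩ := exists_w1 (q_ge (F := F)) h3
      refine ⟨s, hs, hs2, ?_, ?_⟩
      · rintro rfl
        exact not_both hs hs2 (q_ge (F := F)) hsd hwd
      · obtain ⟨ε, hε, h⟩ := elt_w1 (F := F) hs hsd
        exact G.of_two_mul (hs.odd_of_ne_two hs2) h le_rfl hε (by omega)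
    · refine ⟨p, hp, hp2, (not_dvd_card_of_w4 hw hwd hpq).symm, ?_⟩
      exact G.of_two_mul (hp.odd_of_ne_two hp2) (elt_char hp le_rfl) (by norm_num) (Or.inl rfl) (by omega)
  obtain ⟨s, hs, hs2, hsw, hg⟩ := key
  refine Th.of_orders (a := 2) (b := 2 * w) (c := 2 * s) dvd_rfl (dvd_mul_right _ _) (dvd_mul_right _ _) ?_ ?_ ?_
    (exists_prime_orderOf_dvd_card' 2 hd)
    (G.of_two_mul (hw.odd_of_ne_two hw2) (elt_w4 hwd) (by norm_num) (Or.inr rfl) (by omega)) hg
  · have := hw.one_lt; omega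
  · have := hs.one_lt; omega
  · omega

theorem ne_mul {v w : ℕ} (hv : v.Prime) (hw : w.Prime) : v ≠ v * w := by
  have := hw.one_lt
  have := hv.pos
  nlinarith

theorem ne_two_mul {v : ℕ} (hv : v.Prime) : v ≠ 2 * v := by
  have := hv.pos
  omega

/-- from the orders `v`, `2 v`, `v w` -/
theorem th_of {v w : ℕ} [Finite T] (hv : v.Prime) (hd : v ∣ Nat.card T) (hw : w.Prime) (hw2 : w ≠ 2)
    (h2 : ∃ g : T, orderOf g = 2 * v) (h3 : ∃ g : T, orderOf g = v * w) : Th T v := by
  have : Fact v.Prime := ⟨hv⟩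
  refine Th.of_orders (a := v) (b := 2 * v) (c := v * w) dvd_rfl (dvd_mul_left _ _) (dvd_mul_right _ _)
    (ne_two_mul hv) (ne_mul hv hw) ?_ (exists_prime_orderOf_dvd_card' v hd) h2 h3
  intro h
  rw [mul_comm 2 v] at h
  exact hw2 (Nat.eq_of_mul_eq_mul_left hv.pos h).symm

/-- the characteristic -/
theorem th_char (G : Gp F m δ i T) {p : ℕ} (hp : p.Prime) (hp2 : p ≠ 2) [CharP F p] (hpq : p ∣ Nat.card F)
    (hd : p ∣ Nat.card T) (hex : ¬ (m = 4 ∧ δ = 1 ∧ Nat.card F = 3)) : Th T p := by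
  have := G.fin
  have hm := G.four
  have h2 : ∃ g : T, orderOf g = 2 * p :=
    G.of_two_mul (hp.odd_of_ne_two hp2) (elt_char hp le_rfl) (by norm_num) (Or.inl rfl) (by omega)
  by_cases h3 : Nat.card F = 3
  · obtain ⟨w, hw, hw2, hwd⟩ := exists_w4 (q_ge (F := F))
    have hwp : w ≠ p := not_dvd_card_of_w4 hw hwd hpq
    refine th_of hp hd hw hw2 h2 ?_
    rcases Nat.lt_or_ge m 5 with h5 | h5
    · obtain rfl : m = 4 := by omega
      have hδ : δ = -1 := by
        rcases G.sign with h | h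
        · exact absurd ⟨rfl, h, h3⟩ hex
        · exact h
      subst hδ
      have h4 := (elt_char (F := F) hp le_rfl).prod (elt_w4 hwd)
      rw [one_mul, ((Nat.coprime_primes hp hw).2 hwp.symm).lcm_eq_mul] at h4
      exact G.of_odd ((hp.odd_of_ne_two hp2).mul (hw.odd_of_ne_two hw2)) h4
    · exact G.of_blk (elt_char hp le_rfl) (elt_w4 hwd) (Or.inl rfl) (Or.inr rfl) (by omega) hp hw hwp.symm hp2 hw2
  · obtain ⟨w, hw, hw2, hwd⟩ := exists_w1 (q_ge (F := F)) h3
    have hwp : w ≠ p := not_dvd_card_of_w1 hw hwd hpq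
    obtain ⟨ε, hε, h4⟩ := elt_w1 (F := F) hw hwd
    exact th_of hp hd hw hw2 h2
      (G.of_blk (elt_char hp le_rfl) h4 (Or.inl rfl) hε (by omega) hp hw hwp.symm hp2 hw2)

/-- odd primes prime to `q`, of weight at most `m - 2` -/
theorem th_small (G : Gp F m δ i T) {v : ℕ} (hv : v.Prime) (hv2 : v ≠ 2) (hvq : ¬ v ∣ Nat.card F)
    (hd : v ∣ Nat.card T) (hη : eta (ee (Nat.card F) v) + 2 ≤ m) (hex : ¬ (m = 4 ∧ δ = 1 ∧ Nat.card F = 3)) :
    Th T v := by
  have := G.fin
  have hm := G.four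
  have hq := q_ge (F := F)
  set e := ee (Nat.card F) v with he
  have he1 : 1 ≤ e := ee_pos hv hvq
  have h1 : Elt F (eta e) (sg e) v := elt_of_prime hv hvq
  have hη1 : 1 ≤ eta e := eta_pos he1
  have h2 : ∃ g : T, orderOf g = 2 * v := G.of_two_mul (hv.odd_of_ne_two hv2) h1 hη1 (sg_pm _) hη
  have hvd := dvd_pow_ee (q := Nat.card F) (r := v) (by omega)
  rw [← he] at hvd
  obtain ⟨w, hw, hw2, hwd⟩ := exists_w4 (q_ge (F := F))
  by_cases hη2 : eta e = 1
  · -- `v` divides `q ^ 2 - 1`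
    have he2 : e = 1 ∨ e = 2 := by
      rw [eta] at hη2
      split_ifs at hη2 with h
      · obtain ⟨j, hj⟩ := h
        omega
      · exact Or.inl hη2
    have hv1 : v ∣ Nat.card F ^ 2 - 1 := by
      rcases he2 with h | h
      · rw [h, pow_one] at hvd
        have := Nat.sq_sub_sq (Nat.card F) 1
        rw [one_pow] at this
        rw [this]
        exact hvd.mul_left _
      · rwa [h] at hvd
    have hvw : v ≠ w := by
      rintro rfl
      exact not_both hv hv2 hq hv1 hwd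
    exact th_of hv hd hw hw2 h2 (G.of_blk h1 (elt_w4 hwd) (sg_pm _) (Or.inr rfl) (by omega) hv hw hvw hv2 hw2)
  · by_cases h3 : Nat.card F = 3
    · have hchar : CharP F 3 := by
        obtain ⟨p, hp, hpc, hpq, -⟩ := exists_p F
        rw [h3] at hpq
        rwa [(Nat.prime_dvd_prime_iff_eq hp Nat.prime_three).1 hpq] at hpc
      have hv3 : v ≠ 3 := by
        rintro rfl
        exact hvq (by rw [h3])
      rcases Nat.lt_or_ge (eta e + 2) m with hlt | hge
      · exact th_of hv hd Nat.prime_three (by norm_num) h2 (G.of_blk h1 (elt_char Nat.prime_three le_rfl) (sg_pm _)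
          (Or.inl rfl) (by omega) hv Nat.prime_three hv3 hv2 (by norm_num))
      · have hm' : eta e + 2 = m := by omega
        by_cases hs : sg e = δ
        · have h4 := h1.prod (elt_char (F := F) Nat.prime_three (n := 2) le_rfl)
          rw [mul_one, hm', hs, ((Nat.coprime_primes hv Nat.prime_three).2 hv3).lcm_eq_mul] at h4
          exact th_of hv hd Nat.prime_three (by norm_num) h2
            (G.of_odd ((hv.odd_of_ne_two hv2).mul (Nat.prime_three.odd_of_ne_two (by norm_num))) h4)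
        · have hs' : sg e * -1 = δ := by
            rcases sg_pm e with h5 | h5 <;> rcases G.sign with h6 | h6 <;> rw [h5] at hs ⊢ <;> rw [h6] at hs ⊢ <;>
              simp at hs ⊢
          have hvw : v ≠ w := by
            rintro rfl
            -- `v = 5`, `e = 4`
            have hv5 : v = 5 := by
              rw [h3] at hwd
              have h6 : (v : ℕ) ∣ 2 * 5 := hwd
              rcases (Nat.Prime.dvd_mul hv).1 h6 with h7 | h7
              · exact absurd ((Nat.prime_dvd_prime_iff_eq hv Nat.prime_two).1 h7) hv2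
              · exact (Nat.prime_dvd_prime_iff_eq hv Nat.prime_five).1 h7
            have h6 : e ∣ 4 := by
              refine ee_dvd (by omega) ?_
              rw [hv5, h3]
              norm_num
            have h7 : e = 4 := by
              have h8 : e ∈ Nat.divisors 4 := by
                rw [Nat.mem_divisors]
                exact ⟨h6, by norm_num⟩
              have h9 : Nat.divisors 4 = {1, 2, 4} := by decide
              rw [h9] at h8
              simp only [Finset.mem_insert, Finset.mem_singleton] at h8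
              rcases h8 with h8 | h8 | h8
              · rw [h8] at hη2
                exact absurd (by decide) hη2
              · rw [h8] at hη2
                exact absurd (by decide) hη2
              · exact h8
            have h10 : eta 4 = 2 := by decide
            have h11 : sg 4 = -1 := by decide
            rw [h7, h10] at hm'
            rw [h7, h11] at hs'
            exact hex ⟨by omega, by rw [← hs']; norm_num, h3⟩
          have h4 := h1.prod (elt_w4 hwd)
          rw [hm', hs', ((Nat.coprime_primes hv hw).2 hvw).lcm_eq_mul] at h4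
          exact th_of hv hd hw hw2 h2 (G.of_odd ((hv.odd_of_ne_two hv2).mul (hw.odd_of_ne_two hw2)) h4)
    · obtain ⟨w', hw', hw2', hwd'⟩ := exists_w1 (q_ge (F := F)) h3
      have hvw : v ≠ w' := by
        rintro rfl
        have h6 : e ∣ 2 := ee_dvd (by omega) hwd'
        have h7 := Nat.le_of_dvd (by norm_num) h6
        have h8 : e = 1 ∨ e = 2 := by omega
        rcases h8 with h8 | h8
        · rw [h8] at hη2
          exact absurd (by decide) hη2
        · rw [h8] at hη2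
          exact absurd (by decide) hη2
      obtain ⟨ε, hε, h4⟩ := elt_w1 (F := F) hw' hwd'
      exact th_of hv hd hw' hw2' h2 (G.of_blk h1 h4 (sg_pm _) hε (by omega) hv hw' hvw hv2 hw2')

/-- **primes of small weight** -/
theorem th_wO (G : Gp F m δ i T) {v : ℕ} (hv : v.Prime) (hd : v ∣ Nat.card T)
    (hη : v ≠ 2 → ¬ v ∣ Nat.card F → eta (ee (Nat.card F) v) + 2 ≤ m)
    (hex : ¬ (m = 4 ∧ δ = 1 ∧ Nat.card F = 3)) : Th T v := by
  by_cases hv2 : v = 2
  · subst hv2
    exact th_two G hd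
  by_cases hvq : v ∣ Nat.card F
  · obtain ⟨p, hp, hpc, hpq, huniq⟩ := exists_p F
    obtain rfl := huniq v hv hvq
    exact th_char G hv hv2 hvq hd hex
  · exact th_small G hv hv2 hvq hd (hη hv2 hvq) hex

end

end Cfsg.Agent.H320.Der
end

-- part: H320/Der/TypeD
section
/-!
# Primes of large weight: counting in a torus (helper320, S3502)
-/

set_option autoImplicit false
set_option linter.unusedSectionVars false

namespace Cfsg.Agent.H320.Der

open Cfsg.Agent.H439.Der Cfsg.Agent.H377 Cfsg.Agent.H72.AdjOrth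

universe u

/-! ### numbers -/

theorem count_of {N v k f i : ℕ} (hk : 1 ≤ k) (hv : 2 * k + 1 ≤ v) (h : 2 * i * f * (2 * k + 1) < N) :
    2 * (i * (f * (2 * k))) < N - N / v := by
  have h1 : N / v ≤ N / (2 * k + 1) := Nat.div_le_div_left hv (by omega)
  set D := 2 * k + 1 with hD
  have h2 := Nat.div_add_mod N D
  set t := N / D with ht
  set r := N % D with hr
  have hrD : r < D := Nat.mod_lt _ (by omega)
  have h3 : 2 * (i * (f * (2 * k))) = 2 * i * f * (2 * k) := by ring
  rw [h3]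
  have h4 : t ≤ N := by
    have : t * 1 ≤ D * t := by nlinarith only [hD]
    omega
  have h5 : 2 * i * f * (2 * k) + t < N := by
    rw [← h2] at h ⊢
    have h6 : D * t = 2 * k * t + t := by rw [hD]; ring
    rw [h6] at h ⊢
    rcases Nat.lt_or_ge (2 * i * f) t with h7 | h7
    · have h8 : 2 * i * f * (2 * k) ≤ 2 * k * t := by
        rw [mul_comm]
        exact Nat.mul_le_mul_left _ h7.le
      have h9 : 2 * k * (2 * i * f + 1) ≤ 2 * k * t := Nat.mul_le_mul_left _ h7
      have h10 : 2 * k * (2 * i * f + 1) = 2 * i * f * (2 * k) + 2 * k := by ring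
      omega
    · have h8 : 2 * k * t ≤ 2 * k * (2 * i * f) := Nat.mul_le_mul_left _ h7
      have h9 : 2 * i * f * D = 2 * i * f * (2 * k) + 2 * i * f := by rw [hD]; ring
      have h10 : 2 * k * (2 * i * f) = 2 * i * f * (2 * k) := by ring
      rcases Nat.eq_or_lt_of_le h7 with h11 | h11
      · rw [h11] at h ⊢
        omega
      · exfalso
        have h12 : 2 * k * (t + 1) ≤ 2 * k * (2 * i * f) := Nat.mul_le_mul_left _ h11
        have h13 : 2 * k * (t + 1) = 2 * k * t + 2 * k := by ring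
        omega
  omega

theorem two_eta_lt {q v : ℕ} (hv : v.Prime) (hv2 : v ≠ 2) (hvq : ¬ v ∣ q) : 2 * eta (ee q v) + 1 ≤ v := by
  have : Fact v.Prime := ⟨hv⟩
  have h0 : (q : ZMod v) ≠ 0 := by
    intro h1
    exact hvq ((ZMod.natCast_eq_zero_iff q v).1 h1)
  have h1 : ee q v ∣ v - 1 := by
    rw [ee]
    exact orderOf_dvd_of_pow_eq_one (ZMod.pow_card_sub_one_eq_one h0)
  have hv3 : 3 ≤ v := by
    have := hv.two_le
    omega
  have hodd := hv.odd_of_ne_two hv2
  rw [eta]
  split_ifs with h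
  · have := Nat.le_of_dvd (by omega) h1
    obtain ⟨j, hj⟩ := h
    omega
  · rw [Nat.not_even_iff_odd] at h
    have h2 : 2 ∣ v - 1 := by
      obtain ⟨j, hj⟩ := hodd
      exact ⟨j, by omega⟩
    have h3 : Nat.Coprime 2 (ee q v) := Nat.coprime_two_left.2 h
    have h4 := Nat.le_of_dvd (by omega) (h3.mul_dvd_of_dvd_of_dvd h2 h1)
    omega

/-- `N` for odd `k`, plus type -/
theorem geom_odd {q k : ℕ} (hq : Odd q) (hk : Odd k) : ∃ N, (q - 1) * N = q ^ k - 1 ∧ Odd N := by
  refine ⟨∑ j ∈ Finset.range k, q ^ j, ?_, ?_⟩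
  · rw [mul_comm]
    have h2 : (∑ j ∈ Finset.range k, q ^ j) * (q - 1) + 1 = q ^ k := by
      obtain ⟨t, rfl⟩ := Nat.exists_eq_add_of_le hq.pos
      rw [Nat.add_sub_cancel_left]
      have h3 := geom_sum_mul_add t k
      rw [add_comm t 1] at h3
      exact h3
    omega
  · rw [Finset.odd_sum_iff_odd_card_odd]
    have h1 : (Finset.range k).filter (fun j => Odd (q ^ j)) = Finset.range k := by
      rw [Finset.filter_eq_self]
      intro j _
      exact hq.pow
    rw [h1, Finset.card_range]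
    exact hk

/-- `N` for odd `k`, minus type -/
theorem geom_alt {q k : ℕ} (hq : Odd q) (hk : Odd k) : ∃ N, (q + 1) * N = q ^ k + 1 ∧ Odd N := by
  obtain ⟨N, hN⟩ := hk.nat_add_dvd_pow_add_pow q 1
  rw [one_pow] at hN
  refine ⟨N, hN.symm, ?_⟩
  -- induction
  obtain ⟨j, rfl⟩ := hk
  induction j generalizing N with
  | zero =>
    rw [mul_zero, zero_add, pow_one] at hN
    have : N = 1 := by
      have h1 : (q + 1) * 1 = (q + 1) * N := by rw [mul_one]; exact hN
      exact (Nat.eq_of_mul_eq_mul_left (Nat.succ_pos q) h1).symm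
    rw [this]
    exact odd_one
  | succ j ih =>
    have hk : Odd (2 * j + 1) := ⟨j, rfl⟩
    obtain ⟨M, hM⟩ := hk.nat_add_dvd_pow_add_pow q 1
    rw [one_pow] at hM
    have hMo := ih M hM
    -- `q^(2j+3) + 1 = q^2 (q^(2j+1) + 1) - (q^2 - 1)`
    have h1 : (q + 1) * N + (q + 1) * (q - 1) = (q + 1) * (q ^ 2 * M) := by
      rw [← hN]
      have h2 : (q + 1) * (q ^ 2 * M) = q ^ 2 * ((q + 1) * M) := by ring
      rw [h2, ← hM]
      have h3 : (q + 1) * (q - 1) + 1 = q ^ 2 := by
        obtain ⟨t, rfl⟩ := Nat.exists_eq_add_of_le hq.pos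
        rw [Nat.add_sub_cancel_left]
        ring
      have h4 : q ^ (2 * (j + 1) + 1) = q ^ 2 * q ^ (2 * j + 1) := by rw [← pow_add]; congr 1; ring
      rw [h4]
      linarith only [h3]
    rw [← mul_add] at h1
    have h2 := Nat.eq_of_mul_eq_mul_left (Nat.succ_pos q) h1
    have h3 : Odd (N + (q - 1)) := by
      rw [h2]
      exact (hq.pow).mul hMo
    have h4 : Even (q - 1) := by
      obtain ⟨t, rfl⟩ := hq
      exact ⟨t, by omega⟩
    exact (Nat.odd_add.1 h3).2 h4

theorem three_pow_ge (f : ℕ) : 2 * f + 1 ≤ 3 ^ f := by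
  induction f with
  | zero => norm_num
  | succ f ih => rw [pow_succ]; omega

theorem two_pow_ge {f : ℕ} (hf : 2 ≤ f) : 2 * f ≤ 2 ^ f := by
  induction f, hf using Nat.le_induction with
  | base => norm_num
  | succ f hf ih => rw [pow_succ]; omega

theorem pow_ge_lin {q c k : ℕ} (hq : 3 ≤ q) (hc : 3 ≤ c) (hk : c ≤ k) (h : 2 * c + 1 ≤ q ^ (c - 2)) :
    2 * k + 1 ≤ q ^ (k - 2) := by
  induction k, hk using Nat.le_induction with
  | base => exact h
  | succ k hk ih =>
    rw [show k + 1 - 2 = (k - 2) + 1 by omega, pow_succ]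
    nlinarith only [hq, ih]

/-- `k` odd, `q ≥ 5` odd or `k ≥ 5` -/
theorem num_odd {q f k N : ℕ} (h3 : 3 ^ f ≤ q) (hq : 3 ≤ q) (hk3 : 3 ≤ k) (h33 : ¬ (q = 3 ∧ k = 3)) (h34 : ¬ (q = 3 ∧ k = 4))
    (hq4 : q ≠ 4) (hq6 : q ≠ 6) (hN : q ^ k + 1 ≤ (q + 1) * N) : 2 * 1 * f * (2 * k + 1) < N := by
  have hf := three_pow_ge f
  have key : 2 * f * (2 * k + 1) * (q + 1) < q ^ k + 1 := by
    rcases Nat.lt_or_ge q 7 with h7 | h7
    · have h35 : q = 3 ∨ q = 5 := by omega
      rcases h35 with rfl | rfl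
      · have hf1 : f ≤ 1 := by
          by_contra hlt
          push Not at hlt
          have : 3 ^ 2 ≤ 3 ^ f := Nat.pow_le_pow_right (by norm_num) hlt
          omega
        have hk5 : 5 ≤ k := by omega
        have h1 : 8 * (2 * k + 1) < 3 ^ k := by
          clear * - hk5
          induction k, hk5 using Nat.le_induction with
          | base => norm_num
          | succ k hk ih => rw [pow_succ]; omega
        have h2 : 2 * f * (2 * k + 1) * (3 + 1) ≤ 8 * (2 * k + 1) := by nlinarith only [hf, h3]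
        omega
      · have hf1 : f ≤ 1 := by
          by_contra hlt
          push Not at hlt
          have : 3 ^ 2 ≤ 3 ^ f := Nat.pow_le_pow_right (by norm_num) hlt
          omega
        have h1 : 12 * (2 * k + 1) < 5 ^ k := by
          clear * - hk3
          induction k, hk3 using Nat.le_induction with
          | base => norm_num
          | succ k hk ih => rw [pow_succ]; omega
        have h2 : 2 * f * (2 * k + 1) * (5 + 1) ≤ 12 * (2 * k + 1) := by nlinarith only [hf1]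
        omega
    · have h1 := pow_ge_lin (q := q) (c := 3) (k := k) (by omega) le_rfl hk3 (by norm_num; omega)
      have h2 : q ^ k = q ^ (k - 2) * q ^ 2 := by rw [← pow_add]; congr 1; omega
      have h3 : 2 * f * (2 * k + 1) * (q + 1) ≤ (q - 1) * (2 * k + 1) * (q + 1) := by
        refine Nat.mul_le_mul_right _ (Nat.mul_le_mul_right _ ?_)
        omega
      have h4 : (q - 1) * (2 * k + 1) * (q + 1) ≤ q ^ (k - 2) * q ^ 2 := by
        have h5 : (q - 1) * (q + 1) ≤ q ^ 2 := by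
          obtain ⟨t, rfl⟩ := Nat.exists_eq_add_of_le (show 1 ≤ q by omega)
          rw [Nat.add_sub_cancel_left]
          linarith only []
        calc (q - 1) * (2 * k + 1) * (q + 1) = (2 * k + 1) * ((q - 1) * (q + 1)) := by ring
          _ ≤ _ := Nat.mul_le_mul h1 h5
      rw [h2]
      omega
  have h1 : (q + 1) * (2 * 1 * f * (2 * k + 1)) < (q + 1) * N := by
    calc (q + 1) * (2 * 1 * f * (2 * k + 1)) = 2 * f * (2 * k + 1) * (q + 1) := by ring
      _ < q ^ k + 1 := key
      _ ≤ _ := hN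
  exact lt_of_mul_lt_mul_left h1 (Nat.zero_le _)

theorem num_even {q f k N : ℕ} (h3 : 3 ^ f ≤ q) (hq : 3 ≤ q) (hk3 : 4 ≤ k) (hN : q ^ k + 1 ≤ 2 * N) :
    2 * 1 * f * (2 * k + 1) < N := by
  have hf := three_pow_ge f
  have key : 4 * f * (2 * k + 1) < q ^ k := by
    have h1 : 4 * f * (2 * k + 1) ≤ 2 * (q - 1) * (2 * k + 1) := Nat.mul_le_mul_right _ (by omega)
    have h2 : 2 * (q - 1) * (2 * k + 1) < q ^ k := by
      obtain ⟨t, rfl⟩ := Nat.exists_eq_add_of_le hq
      have h4 : ∀ k, 4 ≤ k → 2 * (2 * k + 1) < (3 + t) ^ (k - 1) := by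
        intro k hk
        induction k, hk using Nat.le_induction with
        | base =>
          norm_num
          have : 3 ^ 3 ≤ (3 + t) ^ 3 := Nat.pow_le_pow_left (by omega) 3
          omega
        | succ k hk ih =>
          rw [show k + 1 - 1 = (k - 1) + 1 by omega, pow_succ]
          nlinarith only [ih]
      have h5 := h4 k hk3
      have h6 : (3 + t) ^ k = (3 + t) ^ (k - 1) * (3 + t) := by rw [← pow_succ]; congr 1; omega
      rw [h6, show 3 + t - 1 = 2 + t by omega]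
      nlinarith only [h5]
    omega
  have h1 : 2 * (2 * 1 * f * (2 * k + 1)) = 4 * f * (2 * k + 1) := by ring
  omega

theorem num_two {f k N : ℕ} (hf : 1 ≤ f) (hk3 : 3 ≤ k) (h1 : ¬ (f = 1 ∧ k ≤ 4)) (hN : (2 ^ f) ^ k ≤ N + 1) :
    2 * 1 * f * (2 * k + 1) < N := by
  rcases Nat.eq_or_lt_of_le hf with rfl | hf2
  · have hk5 : 5 ≤ k := by omega
    have h2 : 2 * (2 * k + 1) + 2 < 2 ^ k := by
      clear * - hk5
      induction k, hk5 using Nat.le_induction with
      | base => norm_num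
      | succ k hk ih => rw [pow_succ]; omega
    rw [pow_one] at hN
    omega
  · have hq := two_pow_ge (show 2 ≤ f by omega)
    have hq4 : 4 ≤ 2 ^ f := by
      calc 4 = 2 ^ 2 := rfl
        _ ≤ 2 ^ f := Nat.pow_le_pow_right (by norm_num) (by omega)
    set q := 2 ^ f with hqd
    have h2 : ∀ k, 3 ≤ k → 2 * k + 2 ≤ q ^ (k - 1) := by
      intro k hk
      induction k, hk using Nat.le_induction with
      | base =>
        norm_num
        nlinarith only [hf2, hq]
      | succ k hk ih =>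
        rw [show k + 1 - 1 = (k - 1) + 1 by omega, pow_succ]
        nlinarith only [hf2, hq, ih]
    have h3 := h2 k hk3
    have h4 : q ^ k = q ^ (k - 1) * q := by rw [← pow_succ]; congr 1; omega
    rw [h4] at hN
    have h5 : (2 * k + 2) * q ≤ q ^ (k - 1) * q := Nat.mul_le_mul_right _ h3
    have h6 : 2 * 1 * f * (2 * k + 1) ≤ q * (2 * k + 1) := Nat.mul_le_mul_right _ (by omega)
    linarith only [hf2, hN, hq, h5, h6]

section exN

variable {p f q v : ℕ}

theorem not_dvd_sub_one {e : ℕ} (hq : 2 ≤ q) (he : ee q v = e) (h : 3 ≤ e) : ¬ v ∣ q - 1 := by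
  intro h1
  have h2 : ee q v ∣ 1 := ee_dvd (by omega) (by rwa [pow_one])
  rw [he] at h2
  have := Nat.le_of_dvd one_pos h2
  omega

theorem not_dvd_add_one {e : ℕ} (hq : 2 ≤ q) (he : ee q v = e) (h : 3 ≤ e) : ¬ v ∣ q + 1 := by
  intro h1
  have h3 : v ∣ q ^ 2 - 1 := by
    have := Nat.sq_sub_sq q 1
    rw [one_pow] at this
    rw [this]
    exact h1.mul_right _
  have h2 : ee q v ∣ 2 := ee_dvd (by omega) h3
  rw [he] at h2
  have := Nat.le_of_dvd two_pos h2
  omega

/-- the numbers `N` -/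
theorem exists_N (hp : p.Prime) (hf : 1 ≤ f) (hq : q = p ^ f) (hv : v.Prime) (hvq : ¬ v ∣ q)
    (hk : 3 ≤ eta (ee q v)) :
    ∃ N, Odd N ∧ N ∣ tn q (ee q v) ∧ v ∣ N ∧
      (p = 2 → q ^ eta (ee q v) ≤ N + 1) ∧
      (p ≠ 2 → Odd (ee q v) → (q - 1) * N = q ^ eta (ee q v) - 1) ∧
      (p ≠ 2 → Even (ee q v) → Odd (eta (ee q v)) → (q + 1) * N = q ^ eta (ee q v) + 1) ∧
      (p ≠ 2 → Even (ee q v) → Even (eta (ee q v)) → q ^ eta (ee q v) + 1 = 2 * N) := by
  have hq2 : 2 ≤ q := by
    rw [hq]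
    calc 2 ≤ p := hp.two_le
      _ = p ^ 1 := (pow_one p).symm
      _ ≤ p ^ f := Nat.pow_le_pow_right hp.pos hf
  have hvt := dvd_tn (q := q) (by omega) hv hvq
  have hek : eta (ee q v) ≤ ee q v := by
    rw [eta]
    split_ifs
    · omega
    · exact le_rfl
  by_cases hp2 : p = 2
  · refine ⟨tn q (ee q v), ?_, dvd_rfl, hvt, fun _ => ?_, fun h => absurd hp2 h, fun h => absurd hp2 h,
      fun h => absurd hp2 h⟩
    · have he : Even q := by
        rw [hq, hp2]
        exact (Nat.even_pow.2 ⟨even_two, by omega⟩)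
      rw [tn]
      split_ifs with h
      · exact (he.pow_of_ne_zero (by rw [eta, if_pos h] at hk; omega)).add_one
      · have h1 : Even (q ^ ee q v) := he.pow_of_ne_zero (by omega)
        have h2 : 1 ≤ q ^ ee q v := Nat.one_le_pow _ _ (by omega)
        exact Nat.Even.sub_odd h2 h1 odd_one
    · rw [tn, eta]
      split_ifs with h
      · omega
      · have h2 : 1 ≤ q ^ ee q v := Nat.one_le_pow _ _ (by omega)
        omega
  · have hqo : Odd q := by
      rw [hq]
      exact (hp.odd_of_ne_two hp2).pow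
    rcases Nat.even_or_odd (ee q v) with he | ho
    · rw [tn, if_pos he] at hvt ⊢
      have hη : eta (ee q v) = ee q v / 2 := by rw [eta, if_pos he]
      rcases Nat.even_or_odd (eta (ee q v)) with hke | hko
      · -- `k` even
        obtain ⟨j, hj⟩ := hke
        have h1 : ∃ N, q ^ (ee q v / 2) + 1 = 2 * N ∧ Odd N := by
          rw [← hη, hj, pow_add]
          obtain ⟨t, ht⟩ := (hqo.pow (n := j))
          refine ⟨2 * (t ^ 2 + t) + 1, ?_, ⟨_, rfl⟩⟩
          rw [ht]
          ring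
        obtain ⟨N, hN, hNo⟩ := h1
        refine ⟨N, hNo, by rw [hN]; exact dvd_mul_left _ _, ?_, fun h => absurd h hp2, fun _ h => ?_, fun _ _ h => ?_,
          fun _ _ _ => by rw [hη, hN]⟩
        · rw [hN] at hvt
          rcases (Nat.Prime.dvd_mul hv).1 hvt with h | h
          · exfalso
            have hv2 : v = 2 := (Nat.prime_dvd_prime_iff_eq hv Nat.prime_two).1 h
            have := two_dvd_or hqo hv2 hk
            exact this
          · exact h
        · exact absurd he (Nat.not_even_iff_odd.2 h)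
        · rw [hj] at h
          exact absurd ⟨j, rfl⟩ (Nat.not_even_iff_odd.2 h)
      · obtain ⟨N, hN, hNo⟩ := geom_alt hqo (hη ▸ hko)
        refine ⟨N, hNo, by rw [← hN]; exact dvd_mul_left _ _, ?_, fun h => absurd h hp2, fun _ h => ?_,
          fun _ _ _ => by rw [hη, hN], fun _ _ h => ?_⟩
        · rw [← hN] at hvt
          exact ((Nat.Prime.dvd_mul hv).1 hvt).resolve_left (not_dvd_add_one hq2 rfl (by omega))
        · exact absurd he (Nat.not_even_iff_odd.2 h)
        · exact absurd h (Nat.not_even_iff_odd.2 hko)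
    · rw [tn, if_neg (Nat.not_even_iff_odd.2 ho)] at hvt ⊢
      have hη : eta (ee q v) = ee q v := by rw [eta, if_neg (Nat.not_even_iff_odd.2 ho)]
      obtain ⟨N, hN, hNo⟩ := geom_odd hqo ho
      refine ⟨N, hNo, by rw [← hN]; exact dvd_mul_left _ _, ?_, fun h => absurd h hp2, fun _ _ => by rw [hη, hN],
        fun _ h => absurd h (Nat.not_even_iff_odd.2 ho), fun _ h => absurd h (Nat.not_even_iff_odd.2 ho)⟩
      rw [← hN] at hvt
      exact ((Nat.Prime.dvd_mul hv).1 hvt).resolve_left (not_dvd_sub_one hq2 rfl (by omega))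
where
  two_dvd_or {q v : ℕ} (hqo : Odd q) (hv2 : v = 2) (hk : 3 ≤ eta (ee q v)) : False := by
    subst hv2
    obtain ⟨t, ht⟩ := hqo
    have h1 : ee q 2 ∣ 1 := ee_dvd (by omega) (by
      rw [pow_one, ht]
      exact ⟨t, by omega⟩)
    have h2 : ee q 2 = 1 := Nat.dvd_one.1 h1
    rw [h2] at hk
    revert hk
    decide

theorem exists_N1 (hp : p.Prime) (hf : 1 ≤ f) (hq : q = p ^ f) (hv : v.Prime) (hvq : ¬ v ∣ q)
    (hk : 3 ≤ eta (ee q v)) (h1 : ¬ (q = 2 ∧ eta (ee q v) ≤ 4)) (h3 : ¬ (q = 3 ∧ eta (ee q v) = 3)) :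
    ∃ N, Odd N ∧ N ∣ tn q (ee q v) ∧ v ∣ N ∧ 2 * 1 * f * (2 * eta (ee q v) + 1) < N := by
  obtain ⟨N, hN, hNt, hvN, e1, e2, e3, e4⟩ := exists_N hp hf hq hv hvq hk
  refine ⟨N, hN, hNt, hvN, ?_⟩
  by_cases hp2 : p = 2
  · subst hp2
    refine num_two (k := eta (ee q v)) hf hk ?_ (by rw [← hq]; exact e1 rfl)
    rintro ⟨rfl, h6⟩
    exact h1 ⟨by rw [hq, pow_one], h6⟩
  · have hp3 : 3 ≤ p := by
      have := hp.two_le
      omega
    have hq3 : 3 ^ f ≤ q := by rw [hq]; exact Nat.pow_le_pow_left hp3 f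
    have hq33 : 3 ≤ q := by
      calc 3 = 3 ^ 1 := rfl
        _ ≤ 3 ^ f := Nat.pow_le_pow_right (by norm_num) hf
        _ ≤ q := hq3
    have hqo : Odd q := by
      rw [hq]
      exact (hp.odd_of_ne_two hp2).pow
    rcases Nat.even_or_odd (ee q v) with he | ho
    · rcases Nat.even_or_odd (eta (ee q v)) with hke | hko
      · have h5 := e4 hp2 he hke
        refine num_even hq3 hq33 ?_ h5.le
        obtain ⟨j, hj⟩ := hke
        omega
      · refine num_odd hq3 hq33 hk h3 ?_ ?_ ?_ (e3 hp2 he hko).symm.le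
        · rintro ⟨-, h⟩
          rw [h] at hko
          exact absurd hko (by decide)
        · rintro rfl
          exact absurd hqo (by decide)
        · rintro rfl
          exact absurd hqo (by decide)
    · have h5 := e2 hp2 ho
      have hη : eta (ee q v) = ee q v := by rw [eta, if_neg (Nat.not_even_iff_odd.2 ho)]
      refine num_odd hq3 hq33 hk h3 ?_ ?_ ?_ ?_
      · rintro ⟨-, h⟩
        rw [← hη, h] at ho
        exact absurd ho (by decide)
      · rintro rfl
        exact absurd hqo (by decide)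
      · rintro rfl
        exact absurd hqo (by decide)
      · have h6 : 1 ≤ q ^ eta (ee q v) := Nat.one_le_pow _ _ (by omega)
        have h7 : (q + 1) * N = (q - 1) * N + 2 * N := by
          obtain ⟨t, rfl⟩ := Nat.exists_eq_add_of_le (show 1 ≤ q by omega)
          rw [Nat.add_sub_cancel_left]
          ring
        rw [h7, h5]
        have h8 : 1 ≤ N := hN.pos
        omega

theorem exists_N3 (hp : p.Prime) (hf : 1 ≤ f) (hq : q = p ^ f) (hv : v.Prime) (hvq : ¬ v ∣ q)
    (hk : eta (ee q v) = 3) (h7 : 7 ≤ q) (h9 : ¬ (q = 9 ∧ Even (ee q v))) :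
    ∃ N, Odd N ∧ N ∣ tn q (ee q v) ∧ v ∣ N ∧ 2 * 3 * f * (2 * eta (ee q v) + 1) < N := by
  obtain ⟨N, hN, hNt, hvN, e1, e2, e3, -⟩ := exists_N hp hf hq hv hvq hk.ge
  refine ⟨N, hN, hNt, hvN, ?_⟩
  rw [hk] at e1 e2 e3 ⊢
  by_cases hp2 : p = 2
  · have h5 := e1 hp2
    subst hp2
    have hf3 : 3 ≤ f := by
      by_contra hlt
      have : f = 1 ∨ f = 2 := by omega
      rcases this with rfl | rfl <;> norm_num at hq <;> omega
    have h6 := two_pow_ge (show 2 ≤ f by omega)
    rw [← hq] at h6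
    have h8 : 8 ≤ q := by
      rw [hq]
      calc 8 = 2 ^ 3 := rfl
        _ ≤ 2 ^ f := Nat.pow_le_pow_right (by norm_num) hf3
    have h9 : 64 * q ≤ q ^ 3 := by
      have : q ^ 3 = q ^ 2 * q := by ring
      rw [this]
      exact Nat.mul_le_mul_right _ (by nlinarith only [h8])
    omega
  · have hp3 : 3 ≤ p := by
      have := hp.two_le
      omega
    have hq3 : 3 ^ f ≤ q := by rw [hq]; exact Nat.pow_le_pow_left hp3 f
    have hf2 := three_pow_ge f
    have hqo : Odd q := by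
      rw [hq]
      exact (hp.odd_of_ne_two hp2).pow
    have key : q ≠ 9 → 42 * f < q ^ 2 - q + 1 := by
      intro h9'
      rcases Nat.lt_or_ge q 21 with hlt | hge
      · have hf2' : f ≤ 2 := by
          by_contra hc
          push Not at hc
          have : 3 ^ 3 ≤ 3 ^ f := Nat.pow_le_pow_right (by norm_num) hc
          omega
        rcases Nat.lt_or_ge q 11 with h11 | h11
        · have : q = 7 := by
            obtain ⟨j, hj⟩ := hqo
            omega
          subst this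
          have hf1 : f ≤ 1 := by
            by_contra hc
            push Not at hc
            have : 3 ^ 2 ≤ 3 ^ f := Nat.pow_le_pow_right (by norm_num) hc
            omega
          omega
        · have : 11 * q ≤ q ^ 2 := by nlinarith only [h11]
          omega
      · have h22 : 21 * (q - 1) ≤ q ^ 2 - q := by
          obtain ⟨t, rfl⟩ := Nat.exists_eq_add_of_le hge
          rw [show (21 + t) ^ 2 = (21 + t) * (20 + t) + (21 + t) by ring, Nat.add_sub_cancel,
            show 21 + t - 1 = 20 + t by omega]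
          exact Nat.mul_le_mul_right _ (by omega)
        omega
    have hsq : q ≤ q ^ 2 := by nlinarith only []
    rcases Nat.even_or_odd (ee q v) with he | ho
    · have h10 := e3 hp2 he (by decide)
      have h11 : (q + 1) * (q ^ 2 - q + 1) = q ^ 3 + 1 := by
        obtain ⟨t, ht⟩ := Nat.exists_eq_add_of_le hsq
        rw [ht, Nat.add_sub_cancel_left]
        have : q ^ 3 = q * (q + t) := by rw [← ht]; ring
        rw [this]
        have h12 : q * q = q + t := by rw [← ht]; ring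
        linarith only [ht]
      have h12 : N = q ^ 2 - q + 1 := Nat.eq_of_mul_eq_mul_left (Nat.succ_pos q) (h10.trans h11.symm)
      have := key (fun h => h9 ⟨h, he⟩)
      omega
    · have h10 := e2 hp2 ho
      have h11 : (q - 1) * (q ^ 2 + q + 1) = q ^ 3 - 1 := by
        obtain ⟨t, rfl⟩ := Nat.exists_eq_add_of_le (show 1 ≤ q by omega)
        rw [Nat.add_sub_cancel_left]
        have : (1 + t) ^ 3 = t * ((1 + t) ^ 2 + (1 + t) + 1) + 1 := by ring
        rw [this, Nat.add_sub_cancel]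
      have h12 : N = q ^ 2 + q + 1 := Nat.eq_of_mul_eq_mul_left (show 0 < q - 1 by omega) (h10.trans h11.symm)
      by_cases h9' : q = 9
      · subst h9'
        have hf2' : f ≤ 2 := by
          by_contra hc
          push Not at hc
          have : 3 ^ 3 ≤ 3 ^ f := Nat.pow_le_pow_right (by norm_num) hc
          omega
        omega
      · have := key h9'
        omega

end exN

end Cfsg.Agent.H320.Der
end

-- part: H320/Der/Ntc
section
/-!
# `NTC` for the even-dimensional orthogonal groups (helper320, S3502)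

* `ntc_plus_five` : `PΩ⁺_{2m}(q)`, `m ≥ 5`
* `ntc_plus_four` : `PΩ⁺_8(q)`, `q ≥ 4`
* `ntc_minus` : `PΩ⁻_{2m}(q)`, except `(m, q) = (4, 2), (5, 2), (4, 3)`

More precisely each prime divisor `v` of `|T|` satisfies `Th T v`.
-/

set_option autoImplicit false
set_option linter.unusedSectionVars false

namespace Cfsg.Agent.H320.Der

open Cfsg.Agent.H439.Der Cfsg.Agent.H377 Cfsg.Agent.H72.AdjOrth

universe u

section

variable {F : Type u} [Field F] [Fintype F]

theorem eltS_tn {e N : ℕ} (he : 1 ≤ e) (hN : Odd N) (h : N ∣ tn (Nat.card F) e) : EltS F (eta e) (sg e) N := by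
  rw [tn] at h
  rw [eta, sg]
  split_ifs at h ⊢ with h1
  · obtain ⟨j, hj⟩ := h1
    exact eltS_minus (by omega) hN h
  · exact eltS_plus he h

/-- `q = p ^ f` and `f` is the number of automorphisms -/
theorem exists_pf (F : Type u) [Field F] [Fintype F] : ∃ p f : ℕ, p.Prime ∧ 1 ≤ f ∧ Nat.card F = p ^ f ∧
    Nat.card (F ≃+* F) = f := by
  obtain ⟨p, hp⟩ := CharP.exists F
  have hpp : p.Prime := CharP.char_is_prime F p
  have : Fact p.Prime := ⟨hpp⟩
  obtain ⟨n, -, hn⟩ := FiniteField.card F p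
  refine ⟨p, n, hpp, n.2, by rw [Nat.card_eq_fintype_card, hn],
    Cfsg.Agent.Lib.FieldAutCard.card_ringAut (p := p) n.2 hn⟩

variable {m i : ℕ} {δ : ℤ} {T : Type*} [Group T]

theorem Gp.wt (G : Gp F m δ i T) {v : ℕ} (hv : v.Prime) (hv2 : v ≠ 2) (hvq : ¬ v ∣ Nat.card F) (hd : v ∣ Nat.card T) :
    eta (ee (Nat.card F) v) < m ∨ (eta (ee (Nat.card F) v) = m ∧ sg (ee (Nat.card F) v) = δ) :=
  G.cls v hv hv2 hvq hd

theorem th_large (G : Gp F m δ i T) {v : ℕ} (hv : v.Prime) (hv2 : v ≠ 2) (hvq : ¬ v ∣ Nat.card F)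
    (hd : v ∣ Nat.card T) {N : ℕ} (hN : Odd N) (hNt : N ∣ tn (Nat.card F) (ee (Nat.card F) v)) (hvN : v ∣ N)
    (h : 2 * i * Nat.card (F ≃+* F) * (2 * eta (ee (Nat.card F) v) + 1) < N) : Th T v := by
  have he : 1 ≤ ee (Nat.card F) v := ee_pos hv hvq
  exact G.three (eta_pos he) (G.wt hv hv2 hvq hd) (sg_pm _).symm.symm hN (eltS_tn he hN hNt) hv hvN
    (count_of (eta_pos he) (two_eta_lt hv hv2 hvq) h)

theorem ee_unique {q v k : ℕ} (h : eta (ee q v) = k) (_ : 1 ≤ k) :
    (Even (ee q v) ∧ ee q v = 2 * k) ∨ (Odd (ee q v) ∧ ee q v = k) := by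
  rw [eta] at h
  split_ifs at h with h1
  · left
    refine ⟨h1, ?_⟩
    obtain ⟨j, hj⟩ := h1
    omega
  · exact Or.inr ⟨Nat.not_even_iff_odd.1 h1, h⟩

/-- index one -/
theorem th_one (G : Gp F m δ 1 T) (hex : ¬ (m = 4 ∧ δ = 1 ∧ Nat.card F = 3)) {v : ℕ} (hv : v.Prime)
    (hd : v ∣ Nat.card T)
    (h1 : ¬ (Nat.card F = 2 ∧ v ≠ 2 ∧ m ≤ eta (ee (Nat.card F) v) + 1 ∧ eta (ee (Nat.card F) v) ≤ 4))
    (h2 : ¬ (Nat.card F = 3 ∧ v ≠ 2 ∧ v ≠ 3 ∧ m ≤ eta (ee (Nat.card F) v) + 1 ∧ eta (ee (Nat.card F) v) = 3)) :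
    Th T v := by
  by_cases hw : v ≠ 2 → ¬ v ∣ Nat.card F → eta (ee (Nat.card F) v) + 2 ≤ m
  · exact th_wO G hv hd hw hex
  push Not at hw
  obtain ⟨hv2, hvq, hlt⟩ := hw
  have hm := G.four
  obtain ⟨p, f, hp, hf, hq, hf'⟩ := exists_pf F
  obtain ⟨N, hN, hNt, hvN, h⟩ := exists_N1 hp hf hq hv hvq (by omega) (fun h => h1 ⟨h.1, hv2, by omega, h.2⟩)
    (fun h => h2 ⟨h.1, hv2, fun h3 => hvq (by rw [h3, h.1]), by omega, h.2⟩)
  exact th_large G hv hv2 hvq hd hN hNt hvN (by rwa [hf'])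

theorem ee_eq_dvd {q v e : ℕ} (hq : 1 ≤ q) (h : ee q v = e) : v ∣ q ^ e - 1 := h ▸ dvd_pow_ee hq

theorem odd_prime_17 {v : ℕ} (hv : v.Prime) (h : v ∣ 2 ^ 8 - 1) (he : ee 2 v = 8) : v = 17 := by
  have h1 : v ∣ 3 * 5 * 17 := h
  rcases (Nat.Prime.dvd_mul hv).1 h1 with h2 | h2
  · exfalso
    have h3 : ee 2 v ∣ 4 := ee_dvd (by norm_num) (h2.trans (by norm_num))
    rw [he] at h3
    exact absurd h3 (by decide)
  · exact (Nat.prime_dvd_prime_iff_eq hv (by norm_num)).1 h2

/-- **`PΩ⁺_{2m}(q)`, `m ≥ 5`** -/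
theorem th_plus_five (G : Gp F m 1 1 T) (hm : 5 ≤ m) {v : ℕ} (hv : v.Prime) (hd : v ∣ Nat.card T) : Th T v := by
  have := G.fin
  by_cases h1 : Nat.card F = 2 ∧ v ≠ 2 ∧ m ≤ eta (ee (Nat.card F) v) + 1 ∧ eta (ee (Nat.card F) v) ≤ 4
  · obtain ⟨hq, hv2, h3, h4⟩ := h1
    have hη : eta (ee (Nat.card F) v) = 4 := by omega
    have hm5 : m = 5 := by omega
    subst hm5
    rw [hq] at hη h3 h4
    have hv17 : v = 17 := by
      rcases ee_unique hη (by norm_num) with ⟨-, h⟩ | ⟨ho, h⟩
      · exact odd_prime_17 hv (ee_eq_dvd (by norm_num) h) h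
      · rw [h] at ho
        exact absurd ho (by decide)
    subst hv17
    obtain ⟨p, f, hp, hf, hq', hf'⟩ := exists_pf F
    have hf1 : f = 1 := by
      rw [hq] at hq'
      by_contra hne
      have h5 : 2 ^ 2 ≤ p ^ f := (Nat.pow_le_pow_left hp.two_le 2).trans (Nat.pow_le_pow_right hp.pos (by omega))
      omega
    have hE : EltS F 4 (-1) 17 := eltS_minus (by norm_num) (by decide) (by rw [hq]; norm_num)
    have h6 : Tw T 17 := G.two (k := 4) (ε := -1) (by norm_num) (Or.inl (by norm_num)) (Or.inr rfl) (by decide)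
      (by norm_num) hE (by
        rw [hf', hf1, Nat.totient_prime (by norm_num)]
        norm_num)
    have h7 : Elt F 1 (-1) 3 := elt_tor_minus le_rfl (by rw [hq]; norm_num)
    have h8 := hE.elt.prod h7
    exact Th.of_two (a := 17) (b := 51) dvd_rfl ⟨3, rfl⟩ (by norm_num) h6 (G.of_odd (by decide) h8)
  · exact th_one G (by omega) hv hd h1 (by omega)

theorem ntc_of_th {T : Type*} [Group T] (h : ∀ v : ℕ, v.Prime → v ∣ Nat.card T → Th T v) : NTC T :=
  fun v hv hd => (h v hv hd).not_SCC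

theorem ntc_plus_five (hm : 5 ≤ m) : NTC (Cfsg.POmega F (Cfsg.quadFormPlus m F)) :=
  ntc_of_th fun _ => th_plus_five (gp_plus_five hm) hm

/-- **`PΩ⁻_{2m}(q)`** -/
theorem th_minus (G : Gp F m (-1) 1 T) (h42 : ¬ (m = 4 ∧ Nat.card F = 2)) (h52 : ¬ (m = 5 ∧ Nat.card F = 2))
    (h43 : ¬ (m = 4 ∧ Nat.card F = 3)) {v : ℕ} (hv : v.Prime) (hd : v ∣ Nat.card T) : Th T v := by
  have hm := G.four
  exact th_one G (by omega) hv hd (by omega) (by omega)

theorem ntc_minus (hm : 4 ≤ m) {a b : F}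
    (hab : ∀ z₁ z₂ : F, z₁ ^ 2 + a * z₁ * z₂ + b * z₂ ^ 2 = 0 → z₁ = 0 ∧ z₂ = 0)
    (h42 : ¬ (m = 4 ∧ Nat.card F = 2)) (h52 : ¬ (m = 5 ∧ Nat.card F = 2)) (h43 : ¬ (m = 4 ∧ Nat.card F = 3)) :
    NTC (Cfsg.POmega F (Cfsg.quadFormMinus (m - 1) F a b)) :=
  ntc_of_th fun _ => th_minus (gp_minus_all hm hab) h42 h52 h43

theorem mem_of_dvd_prod {v a b : ℕ} (hv : v.Prime) (h : v ∣ a * b) : v ∣ a ∨ v ∣ b := (Nat.Prime.dvd_mul hv).1 h

/-- **`PΩ⁺_8(q)`, `q ≥ 4`** -/
theorem th_plus_four (G : Gp F 4 1 3 T) (hq4 : 4 ≤ Nat.card F) {v : ℕ} (hv : v.Prime) (hd : v ∣ Nat.card T) :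
    Th T v := by
  have := G.fin
  by_cases hw : v ≠ 2 → ¬ v ∣ Nat.card F → eta (ee (Nat.card F) v) + 2 ≤ 4
  · exact th_wO G hv hd hw (by omega)
  push Not at hw
  obtain ⟨hv2, hvq, hlt⟩ := hw
  have : Fact v.Prime := ⟨hv⟩
  have hη : eta (ee (Nat.card F) v) = 3 := by
    rcases G.wt hv hv2 hvq hd with h | ⟨h, h'⟩
    · omega
    · exfalso
      rcases ee_unique h (by norm_num) with ⟨he, -⟩ | ⟨ho, h3⟩
      · rw [sg, if_pos he] at h'
        norm_num at h'
      · rw [h3] at ho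
        exact absurd ho (by decide)
  obtain ⟨p, f, hp, hf, hq, hf'⟩ := exists_pf F
  by_cases h7 : 7 ≤ Nat.card F ∧ ¬ (Nat.card F = 9 ∧ Even (ee (Nat.card F) v))
  · obtain ⟨N, hN, hNt, hvN, h⟩ := exists_N3 hp hf hq hv hvq hη h7.1 h7.2
    exact th_large G hv hv2 hvq hd hN hNt hvN (by rwa [hf'])
  have hval : Nat.card F = 4 ∨ Nat.card F = 5 ∨ (Nat.card F = 9 ∧ Even (ee (Nat.card F) v)) := by
    by_cases h9 : Nat.card F = 9 ∧ Even (ee (Nat.card F) v)
    · exact Or.inr (Or.inr h9)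
    · have h8 : Nat.card F < 7 := by
        by_contra hge
        exact h7 ⟨by omega, h9⟩
      have h6 : Nat.card F ≠ 6 := by
        intro h6
        rw [h6] at hq
        have h2 : 2 ∣ p ^ f := hq ▸ (by norm_num : 2 ∣ 6)
        have h3 : 3 ∣ p ^ f := hq ▸ (by norm_num : 3 ∣ 6)
        have h2' := (Nat.prime_dvd_prime_iff_eq Nat.prime_two hp).1 (Nat.prime_two.dvd_of_dvd_pow h2)
        have h3' := (Nat.prime_dvd_prime_iff_eq Nat.prime_three hp).1 (Nat.prime_three.dvd_of_dvd_pow h3)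
        omega
      omega
  have hfb : ∀ c, Nat.card F < 2 ^ (c + 1) → f ≤ c := by
    intro c hc
    by_contra hlt
    have h5 : 2 ^ (c + 1) ≤ p ^ f := (Nat.pow_le_pow_left hp.two_le _).trans (Nat.pow_le_pow_right hp.pos (by omega))
    omega
  rcases hval with h | h | ⟨h, he9⟩
  · -- `q = 4`
    have hf2 : f ≤ 2 := hfb 2 (by rw [h]; norm_num)
    rcases ee_unique hη (by norm_num) with ⟨-, he⟩ | ⟨-, he⟩
    · have hv13 : v = 13 := by
        rw [h] at he
        have h1 : v ∣ 4 ^ 6 - 1 := ee_eq_dvd (by norm_num) he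
        have h2 : v ∣ 315 * 13 := h1
        rcases mem_of_dvd_prod hv h2 with h3 | h3
        · exfalso
          have h4 : v ∣ 15 * 63 := h3.trans (by norm_num)
          rcases mem_of_dvd_prod hv h4 with h5 | h5
          · have h6 : ee 4 v ∣ 2 := ee_dvd (by norm_num) h5
            rw [he] at h6
            exact absurd h6 (by decide)
          · have h6 : ee 4 v ∣ 3 := ee_dvd (by norm_num) h5
            rw [he] at h6
            exact absurd h6 (by decide)
        · exact (Nat.prime_dvd_prime_iff_eq hv (by norm_num)).1 h3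
      subst hv13
      have hE : EltS F 3 (-1) 65 := eltS_minus (by norm_num) (by decide) (by rw [h]; norm_num)
      have h6 : Tw T 65 := G.two (k := 3) (ε := -1) (by norm_num) (Or.inl (by norm_num)) (Or.inr rfl) (by decide)
        (by norm_num) hE (by
          rw [hf', show (65 : ℕ).totient = 48 by decide]
          omega)
      exact Th.of_two (a := 65) (b := 13) ⟨5, rfl⟩ dvd_rfl (by norm_num) h6 (exists_prime_orderOf_dvd_card' 13 hd)
    · have hv7 : v = 7 := by
        rw [h] at he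
        have h1 : v ∣ 4 ^ 3 - 1 := ee_eq_dvd (by norm_num) he
        have h2 : v ∣ 9 * 7 := h1
        rcases mem_of_dvd_prod hv h2 with h3 | h3
        · exfalso
          have h4 : v ∣ 3 := hv.dvd_of_dvd_pow (show v ∣ 3 ^ 2 from h3)
          have h6 : ee 4 v ∣ 1 := ee_dvd (by norm_num) (by simpa using h4)
          rw [he] at h6
          exact absurd h6 (by decide)
        · exact (Nat.prime_dvd_prime_iff_eq hv (by norm_num)).1 h3
      subst hv7
      have hE : ∀ N, N ∣ 63 → Elt F 4 1 N := fun N hN => by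
        have h1 := (elt_tor_plus (F := F) (k := 3) (N := N) (by norm_num) (by rw [h]; exact hN)).add le_rfl
          (ε' := 1) (Or.inl rfl)
        simpa using h1
      exact Th.of_orders (a := 7) (b := 21) (c := 63) dvd_rfl ⟨3, rfl⟩ ⟨9, rfl⟩ (by norm_num) (by norm_num)
        (by norm_num) (exists_prime_orderOf_dvd_card' 7 hd) (G.of_odd (by decide) (hE 21 (by norm_num)))
        (G.of_odd (by decide) (hE 63 dvd_rfl))
  · -- `q = 5`
    have hf1 : f ≤ 2 := hfb 2 (by rw [h]; norm_num)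
    have hf1 : f ≤ 1 := by
      by_contra hlt
      have hf2 : f = 2 := by omega
      rw [hf2, h] at hq
      have h5 := (Nat.prime_dvd_prime_iff_eq hp Nat.prime_five).1 (hq ▸ dvd_pow_self p two_ne_zero)
      rw [h5] at hq
      omega
    rcases ee_unique hη (by norm_num) with ⟨-, he⟩ | ⟨-, he⟩
    · have hv7 : v = 7 := by
        rw [h] at he
        have h1 : v ∣ 5 ^ 6 - 1 := ee_eq_dvd (by norm_num) he
        have h2 : v ∣ (124 * 18) * 7 := h1
        rcases mem_of_dvd_prod hv h2 with h3 | h3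
        · exfalso
          rcases mem_of_dvd_prod hv h3 with h5 | h5
          · have h6 : ee 5 v ∣ 3 := ee_dvd (by norm_num) h5
            rw [he] at h6
            exact absurd h6 (by decide)
          · have h7' : v ∣ 2 * 3 ^ 2 := h5
            have h6 : ee 5 v ∣ 2 := by
              refine ee_dvd (by norm_num) ?_
              rcases mem_of_dvd_prod hv h7' with h8 | h8
              · exact h8.trans (by norm_num)
              · exact (hv.dvd_of_dvd_pow h8).trans (by norm_num)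
            rw [he] at h6
            exact absurd h6 (by decide)
        · exact (Nat.prime_dvd_prime_iff_eq hv (by norm_num)).1 h3
      subst hv7
      refine G.three (k := 3) (N := 63) (ε := -1) (by norm_num) (Or.inl (by norm_num)) (Or.inr rfl) (by decide)
        (eltS_minus (by norm_num) (by decide) (by rw [h]; norm_num)) hv (by norm_num) ?_
      rw [hf']
      omega
    · have hv31 : v = 31 := by
        rw [h] at he
        have h1 : v ∣ 5 ^ 3 - 1 := ee_eq_dvd (by norm_num) he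
        have h2 : v ∣ 4 * 31 := h1
        rcases mem_of_dvd_prod hv h2 with h3 | h3
        · exfalso
          have h6 : ee 5 v ∣ 1 := ee_dvd (by norm_num) (by simpa using h3)
          rw [he] at h6
          exact absurd h6 (by decide)
        · exact (Nat.prime_dvd_prime_iff_eq hv (by norm_num)).1 h3
      subst hv31
      have hE : EltS F 3 1 31 := eltS_plus (by norm_num) (by rw [h]; norm_num)
      have h6 : Tw T 31 := G.two (k := 3) (ε := 1) (by norm_num) (Or.inl (by norm_num)) (Or.inl rfl) (by decide)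
        (by norm_num) hE (by
          rw [hf', Nat.totient_prime (by norm_num)]
          omega)
      have h7' : Elt F 3 1 124 := elt_tor_plus (by norm_num) (by rw [h]; norm_num)
      have h8 := Elt.add_two (n₂ := 1) (ε₂ := 1) le_rfl (Or.inl rfl) h7' (by decide)
      exact Th.of_two (a := 31) (b := 62) dvd_rfl ⟨2, rfl⟩ (by norm_num) h6 (G.elt2 62 h8)
  · -- `q = 9`
    have hf3 : f ≤ 3 := hfb 3 (by rw [h]; norm_num)
    have hf2 : f ≤ 2 := by
      by_contra hlt
      have hf2 : f = 3 := by omega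
      rw [hf2, h] at hq
      have h5 : p ∣ 3 ^ 2 := by
        rw [show 3 ^ 2 = 9 by norm_num, hq]
        exact dvd_pow_self p (by norm_num)
      have h6 := (Nat.prime_dvd_prime_iff_eq hp Nat.prime_three).1 (hp.dvd_of_dvd_pow h5)
      rw [h6] at hq
      omega
    rcases ee_unique hη (by norm_num) with ⟨-, he⟩ | ⟨ho, -⟩
    · have hv73 : v = 73 := by
        rw [h] at he
        have h1 : v ∣ 9 ^ 6 - 1 := ee_eq_dvd (by norm_num) he
        have h2 : v ∣ (728 * 10) * 73 := h1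
        rcases mem_of_dvd_prod hv h2 with h3 | h3
        · exfalso
          rcases mem_of_dvd_prod hv h3 with h5 | h5
          · have h6 : ee 9 v ∣ 3 := ee_dvd (by norm_num) h5
            rw [he] at h6
            exact absurd h6 (by decide)
          · have h6 : ee 9 v ∣ 2 := ee_dvd (by norm_num) (h5.trans (by norm_num))
            rw [he] at h6
            exact absurd h6 (by decide)
        · exact (Nat.prime_dvd_prime_iff_eq hv (by norm_num)).1 h3
      subst hv73
      refine G.three (k := 3) (N := 365) (ε := -1) (by norm_num) (Or.inl (by norm_num)) (Or.inr rfl) (by decide)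
        (eltS_minus (by norm_num) (by decide) (by rw [h]; norm_num)) hv (by norm_num) ?_
      rw [hf']
      omega
    · exact absurd he9 (Nat.not_even_iff_odd.2 ho)

theorem ntc_plus_four (hq4 : 4 ≤ Nat.card F) : NTC (Cfsg.POmega F (Cfsg.quadFormPlus 4 F)) :=
  ntc_of_th fun _ => th_plus_four gp_plus_four hq4

end

end Cfsg.Agent.H320.Der
end

private theorem dce_b656ab03c604 : _root_.True := by
  try have : _root_.True := by simp only [_root_.Cfsg.Agent.H72.AdjOrth.ee.eq_1]
  try have : _root_.True := by simp only [_root_.Cfsg.Agent.H320.Der.EltS.congr_simp]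
  try have : _root_.True := by simp only [_root_.Cfsg.Agent.AutOrth.Main.oe.congr_simp]
  try have : _root_.True := by simp only [_root_.Cfsg.Agent.AutOrth.SemiSim.conjE.congr_simp]
  exact _root_.True.intro
end

-- part: H320/Der/Pair
section
prune_inst 0x52074043ae200000018a51072203e56de000400006b080089e20b420e81cd2320822f61bef011121bb684e5503b006811000010421000000a000000011801a080037246b349a10c640017808984000000000000000000000000000000010000000000000
set_option linter.all false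
open scoped Cfsg.Agent.FastGrp

/-!
# Classes of elements `x y`, `x` in a torus, `y` of prime order on the complement (helper320, S3502)
-/

set_option autoImplicit false
set_option linter.unusedSectionVars false

namespace Cfsg.Agent.H320.Der

open Polynomial Module Subgroup QuadraticMap Cfsg.Agent.H439.Der
open Cfsg.Agent.LieClassical.OrthCore Cfsg.Agent.LieClassical.OrthTrans
  Cfsg.Agent.H403.Classify Cfsg.Agent.H377 Cfsg.Agent.AutOrth.Main Cfsg.Agent.ClassicalGeometry.OrthAut1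
  Cfsg.Agent.LieClassical.QuadForms

section group

variable {T : Type*} [Group T]

theorem conj_mul {x y w : T} {N r : ℕ} (hN : N.Coprime r) (hx : x ^ N = 1) (hy : y ^ N = 1) (hw : w ^ r = 1)
    (hxw : Commute x w) (hyw : Commute y w) {φ : T ≃* T} (h : φ (x * w) = y * w) : φ x = y := by
  obtain ⟨u, hu1, hu2⟩ := Nat.chineseRemainder hN 1 0
  have hw' : w ^ u = 1 := by
    obtain ⟨c, hc⟩ := (Nat.modEq_zero_iff_dvd.1 hu2)
    rw [hc, pow_mul, hw, one_pow]
  have key : ∀ z : T, z ^ N = 1 → Commute z w → (z * w) ^ u = z := by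
    intro z hz hzw
    rw [hzw.mul_pow, hw', mul_one]
    have h1 : z ^ u = z ^ 1 := by
      rw [pow_eq_pow_iff_modEq]
      exact hu1.of_dvd (orderOf_dvd_of_pow_eq_one hz)
    rw [h1, pow_one]
  rw [← key x hx hxw, map_pow, h, key y hy hyw]

theorem dvd_orderOf_mul {x w : T} {N r s : ℕ} (hN : N.Coprime r) (hx : x ^ N = 1) (hw : orderOf w = r)
    (hxw : Commute x w) (hs : s ∣ orderOf x) : s * r ∣ orderOf (x * w) := by
  rw [hxw.orderOf_mul_eq_mul_orderOf_of_coprime (by
    rw [hw]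
    exact Nat.Coprime.coprime_dvd_left (orderOf_dvd_of_pow_eq_one hx) hN), hw]
  exact Nat.mul_dvd_mul_right hs r

theorem of_zpowers {g x w : T} (hgw : Commute g w) (hx : x ∈ zpowers g) : Commute x w := by
  obtain ⟨n, rfl⟩ := hx
  exact hgw.zpow_left n

theorem pow_of_zpowers {g x : T} {N : ℕ} (hg : orderOf g = N) (hx : x ∈ zpowers g) : x ^ N = 1 := by
  rw [← hg]
  exact orderOf_dvd_iff_pow_eq_one.1 (orderOf_dvd_of_mem_zpowers hx)

/-- three classes -/
theorem Th.mul_of {g x y z w : T} {N r s : ℕ} (hN : N.Coprime r) (hg : orderOf g = N) (hw : orderOf w = r)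
    (hgw : Commute g w) (hx : x ∈ zpowers g ∧ s ∣ orderOf x) (hy : y ∈ zpowers g ∧ s ∣ orderOf y)
    (hz : z ∈ zpowers g ∧ s ∣ orderOf z) (h1 : ∀ φ : T ≃* T, φ x ≠ y) (h2 : ∀ φ : T ≃* T, φ x ≠ z)
    (h3 : ∀ φ : T ≃* T, φ y ≠ z) : Th T (s * r) := by
  have hwr : w ^ r = 1 := by rw [← hw]; exact pow_orderOf_eq_one w
  refine ⟨x * w, y * w, z * w, ?_, ?_, ?_, fun φ h => h1 φ ?_, fun φ h => h2 φ ?_, fun φ h => h3 φ ?_⟩
  · exact dvd_orderOf_mul hN (pow_of_zpowers hg hx.1) hw (of_zpowers hgw hx.1) hx.2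
  · exact dvd_orderOf_mul hN (pow_of_zpowers hg hy.1) hw (of_zpowers hgw hy.1) hy.2
  · exact dvd_orderOf_mul hN (pow_of_zpowers hg hz.1) hw (of_zpowers hgw hz.1) hz.2
  · exact conj_mul hN (pow_of_zpowers hg hx.1) (pow_of_zpowers hg hy.1) hwr (of_zpowers hgw hx.1)
      (of_zpowers hgw hy.1) h
  · exact conj_mul hN (pow_of_zpowers hg hx.1) (pow_of_zpowers hg hz.1) hwr (of_zpowers hgw hx.1)
      (of_zpowers hgw hz.1) h
  · exact conj_mul hN (pow_of_zpowers hg hy.1) (pow_of_zpowers hg hz.1) hwr (of_zpowers hgw hy.1)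
      (of_zpowers hgw hz.1) h

/-- two classes of order `N r` -/
theorem Tw.mul_of {g x y w : T} {N r : ℕ} (hN : N.Coprime r) (hg : orderOf g = N) (hw : orderOf w = r)
    (hgw : Commute g w) (hx : x ∈ zpowers g ∧ N ∣ orderOf x) (hy : y ∈ zpowers g ∧ N ∣ orderOf y)
    (h1 : ∀ φ : T ≃* T, φ x ≠ y) : Tw T (N * r) := by
  have hwr : w ^ r = 1 := by rw [← hw]; exact pow_orderOf_eq_one w
  have key : ∀ x : T, x ∈ zpowers g ∧ N ∣ orderOf x → orderOf (x * w) = N * r := by
    intro x hx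
    have h2 : orderOf x = N := Nat.dvd_antisymm (by rw [← hg]; exact orderOf_dvd_of_mem_zpowers hx.1) hx.2
    rw [(of_zpowers hgw hx.1).orderOf_mul_eq_mul_orderOf_of_coprime (by rw [hw, h2]; exact hN), hw, h2]
  exact ⟨x * w, y * w, key x hx, key y hy, fun φ h => h1 φ
    (conj_mul hN (pow_of_zpowers hg hx.1) (pow_of_zpowers hg hy.1) hwr (of_zpowers hgw hx.1) (of_zpowers hgw hy.1) h)⟩

/-- `Three` from a missing order -/
theorem Th.three {R : Subgroup T} [Finite T] {n : ℕ} (h : Th T n) (hR : ∀ x ∈ R, orderOf x ≠ n) :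
    Three T R := by
  obtain ⟨x, y, z, hx, hy, hz, h1, h2, h3⟩ := h
  have key : ∀ x : T, n ∣ orderOf x → ∀ φ : T ≃* T, φ x ∉ R := by
    intro x hx φ hφ
    obtain ⟨c, hc⟩ := hx
    have hpos := orderOf_pos x
    have hc0 : c ≠ 0 := by
      rintro rfl
      omega
    refine hR (φ x ^ c) (R.pow_mem hφ c) ?_
    rw [orderOf_pow_of_dvd hc0 (by rw [MulEquiv.orderOf_eq, hc]; exact dvd_mul_left _ _), MulEquiv.orderOf_eq, hc,
      Nat.mul_div_cancel _ (Nat.pos_of_ne_zero hc0)]
  exact ⟨x, y, z, key x hx, key y hy, key z hz, h1, h2, h3⟩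

/-- `Three` from two classes of a missing order and another missing order -/
theorem Tw.three {R : Subgroup T} {a b : ℕ} (h : Tw T a) (hR : ∀ x ∈ R, orderOf x ≠ a) (hb : ∃ x : T, orderOf x = b)
    (hRb : ∀ x ∈ R, orderOf x ≠ b) (hab : a ≠ b) : Three T R := by
  obtain ⟨x, y, hx, hy, h1⟩ := h
  obtain ⟨z, hz⟩ := hb
  refine ⟨x, y, z, fun φ hφ => hR _ hφ ?_, fun φ hφ => hR _ hφ ?_, fun φ hφ => hRb _ hφ ?_, h1, fun φ hφ => hab ?_,
    fun φ hφ => hab ?_⟩
  · rw [MulEquiv.orderOf_eq, hx]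
  · rw [MulEquiv.orderOf_eq, hy]
  · rw [MulEquiv.orderOf_eq, hz]
  · rw [← hx, ← hz, ← hφ, MulEquiv.orderOf_eq]
  · rw [← hy, ← hz, ← hφ, MulEquiv.orderOf_eq]

end group

section

universe u

variable {F : Type u} [Field F] [Finite F]

theorem exists_E' {ι : Type} [Fintype ι] [DecidableEq ι] (Q : QuadraticForm F (ι → F)) (hG : _root_.Cfsg.Agent.LieClassical.OrthTrans.Good Q)
    (h5 : 5 ≤ Fintype.card ι) {V : Type*} [AddCommGroup V] [Module F V] (Q' : V → F) (e : (ι → F) ≃ₗ[F] V)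
    (he : ∀ u, Q' (e u) = Q u) (T : Module.End F V) (hT : ∀ v, Q' (T v) = Q' v) {N : ℕ} (hN : Odd N) (hTN : T ^ N = 1) :
    ∃ z : ↥(E Q), ∀ x, lin z x = e.symm (T (e x)) := by
  obtain ⟨k, hk⟩ := hN
  have hpow : ∀ (j : ℕ) (v : V), Q' ((T ^ j) v) = Q' v := by
    intro j
    induction j with
    | zero => intro v; rfl
    | succ j ih => intro v; rw [pow_succ, Module.End.mul_apply, ih, hT]
  have hTT : ∀ v, (T ^ (k + 1)) ((T ^ (k + 1)) v) = T v := by
    intro v
    rw [← Module.End.mul_apply, ← pow_add, show k + 1 + (k + 1) = N + 1 by omega, pow_succ, hTN, one_mul]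
  obtain ⟨z0, hz0⟩ := exists_omega Q hG.nondeg h5 Q' e he (T ^ (k + 1)) (hpow _)
  refine ⟨oe hG z0, fun x => ?_⟩
  rw [lin_apply, oe_apply, hz0, hTT]

theorem lin_pow_apply {ι : Type} [Fintype ι] [DecidableEq ι] {Q : QuadraticForm F (ι → F)} {V : Type*}
    [AddCommGroup V] [Module F V] {e : (ι → F) ≃ₗ[F] V} {T : Module.End F V} {z : ↥(E Q)}
    (hz : ∀ x, lin z x = e.symm (T (e x))) (j : ℕ) (x : ι → F) : (lin z ^ j) x = e.symm ((T ^ j) (e x)) := by
  induction j generalizing x with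
  | zero => simp only [_root_.pow_zero, _root_.Module.End.one_apply, _root_.LinearEquiv.symm_apply_apply]
  | succ j ih => rw [pow_succ, Module.End.mul_apply, ih, hz, pow_succ, Module.End.mul_apply, e.apply_symm_apply]

theorem orderOf_of_lin {ι : Type} [Fintype ι] [DecidableEq ι] {Q : QuadraticForm F (ι → F)} {V : Type*}
    [AddCommGroup V] [Module F V] {e : (ι → F) ≃ₗ[F] V} {T : Module.End F V} {z : ↥(E Q)}
    (hz : ∀ x, lin z x = e.symm (T (e x))) : orderOf z = orderOf T := by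
  rw [← orderOf_lin, orderOf_eq_orderOf_iff]
  intro n
  constructor
  · intro h
    refine LinearMap.ext fun v => ?_
    have h1 := lin_pow_apply hz n (e.symm v)
    rw [h, Module.End.one_apply, e.apply_symm_apply] at h1
    exact (e.symm.injective h1).symm
  · intro h
    refine LinearMap.ext fun x => ?_
    rw [lin_pow_apply hz, h]
    simp

/-- the pair of a torus element and an element on the complement -/
theorem torE_pair {ι : Type} [Fintype ι] [DecidableEq ι] {Q : QuadraticForm F (ι → F)} (hG : _root_.Cfsg.Agent.LieClassical.OrthTrans.Good Q)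
    (h5 : 5 ≤ Fintype.card ι) {m a b N r : ℕ} {δ ε ε' : ℤ} (hb : 1 ≤ b) (hab : a + b = m) (hδ : ε * ε' = δ)
    (hcl : ∀ {V : Type u} [AddCommGroup V] [Module F V] [Finite V], Module.finrank F V = 2 * m →
      ∀ Q' : QuadraticForm F V, Nondeg Q' → HasSign (⇑Q') m δ → ∃ e : (ι → F) ≃ₗ[F] V, ∀ u, Q' (e u) = Q u)
    (hN : Odd N) (hr : Odd r) (h : EltS F b ε N) (h' : Elt F a ε' r) :
    ∃ z y : ↥(E Q), orderOf z = N ∧ HasEV (lin z) N ∧ finrank F (LinearMap.range (lin z - 1)) ≤ 2 * b ∧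
      orderOf y = r ∧ Commute z y := by
  obtain ⟨hN0, Q1, g, hQ1, hs, hg, ho, hsr⟩ := h
  obtain ⟨hr0, Q2, g2, hQ2, hs2, hg2, ho2⟩ := h'
  have : Nonempty (Fin (2 * b)) := ⟨⟨0, by omega⟩⟩
  have hev : HasEV g N := hasEV_of_semi hN0 ho hsr
  have hgN : g ^ N = 1 := by rw [← ho]; exact pow_orderOf_eq_one g
  have hgr : g2 ^ r = 1 := by rw [← ho2]; exact pow_orderOf_eq_one g2
  have hs' := hs.prod hs2
  rw [hδ, show b + a = m by omega] at hs'
  obtain ⟨e, he⟩ := hcl (V := (Fin (2 * b) → F) × (Fin (2 * a) → F)) (by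
    rw [Module.finrank_prod, Module.finrank_fin_fun, Module.finrank_fin_fun]; omega) (sumQ Q1 Q2)
    (sumQ_nondeg hQ1 hQ2) hs'
  have hT1 : ∀ v, sumQ Q1 Q2 ((g.prodMap (1 : Module.End F (Fin (2 * a) → F))) v) = sumQ Q1 Q2 v := by
    intro v
    rw [sumQ_apply, sumQ_apply, LinearMap.prodMap_apply, hg]
    rfl
  have hT2 : ∀ v, sumQ Q1 Q2 (((1 : Module.End F (Fin (2 * b) → F)).prodMap g2) v) = sumQ Q1 Q2 v := by
    intro v
    rw [sumQ_apply, sumQ_apply, LinearMap.prodMap_apply, hg2]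
    rfl
  have hT1N : (g.prodMap (1 : Module.End F (Fin (2 * a) → F)) :
      Module.End F ((Fin (2 * b) → F) × (Fin (2 * a) → F))) ^ N = 1 := by
    rw [prodMap_pow', hgN, one_pow]
    rfl
  have hT2r : ((1 : Module.End F (Fin (2 * b) → F)).prodMap g2 :
      Module.End F ((Fin (2 * b) → F) × (Fin (2 * a) → F))) ^ r = 1 := by
    rw [prodMap_pow', hgr, one_pow]
    rfl
  obtain ⟨z, hz⟩ := exists_E' Q hG h5 (⇑(sumQ Q1 Q2)) e he _ hT1 hN hT1N
  obtain ⟨y, hy⟩ := exists_E' Q hG h5 (⇑(sumQ Q1 Q2)) e he _ hT2 hr hT2r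
  refine ⟨z, y, ?_, ?_, ?_, ?_, ?_⟩
  · rw [orderOf_of_lin hz]
    exact (orderOf_prodMap g 1).trans (by rw [orderOf_one, Nat.lcm_one_right, ho])
  · refine HasEV.embed (g := g)
      (i := (e.symm : _ →ₗ[F] (ι → F)).comp (LinearMap.inl F (Fin (2 * b) → F) (Fin (2 * a) → F)))
      (fun u v huv => ?_) ?_ hev
    · rw [LinearMap.comp_apply, LinearMap.comp_apply, LinearEquiv.coe_coe] at huv
      exact LinearMap.inl_injective (e.symm.injective huv)
    intro w
    rw [LinearMap.comp_apply, LinearMap.comp_apply, LinearEquiv.coe_coe, hz, e.apply_symm_apply]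
    simp
  · have h1 : LinearMap.range (lin z - 1) ≤
        LinearMap.range ((e.symm : _ →ₗ[F] (ι → F)).comp (LinearMap.inl F (Fin (2 * b) → F) (Fin (2 * a) → F))) := by
      rintro _ ⟨x, rfl⟩
      refine ⟨g (e x).1 - (e x).1, ?_⟩
      rw [LinearMap.comp_apply, LinearEquiv.coe_coe, LinearMap.sub_apply, hz, Module.End.one_apply]
      apply e.injective
      rw [e.apply_symm_apply]
      refine Eq.trans ?_ (map_sub e _ _).symm
      rw [e.apply_symm_apply]
      simp [LinearMap.prodMap_apply, Prod.ext_iff]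
    refine (Submodule.finrank_mono h1).trans ((LinearMap.finrank_range_le _).trans ?_)
    rw [Module.finrank_fin_fun]
  · rw [orderOf_of_lin hy]
    exact (orderOf_prodMap 1 g2).trans (by rw [orderOf_one, Nat.lcm_one_left, ho2])
  · apply lin_injective
    rw [map_mul, map_mul]
    refine LinearMap.ext fun x => ?_
    rw [Module.End.mul_apply, Module.End.mul_apply, hz, hy, hy, hz, e.apply_symm_apply, e.apply_symm_apply]
    simp only [LinearMap.prodMap_apply, _root_.Module.End.one_apply]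

theorem exists_th {ι : Type} [Fintype ι] [DecidableEq ι] {Q : QuadraticForm F (ι → F)} (hG : _root_.Cfsg.Agent.LieClassical.OrthTrans.Good Q)
    (h7 : 7 ≤ Fintype.card ι) {m a b i N r s : ℕ} {δ ε ε' : ℤ} (hi : Idx hG i) (hb : 1 ≤ b) (hab : a + b = m)
    (hδ : ε * ε' = δ)
    (hcl : ∀ {V : Type u} [AddCommGroup V] [Module F V] [Finite V], Module.finrank F V = 2 * m →
      ∀ Q' : QuadraticForm F V, Nondeg Q' → HasSign (⇑Q') m δ → ∃ e : (ι → F) ≃ₗ[F] V, ∀ u, Q' (e u) = Q u)
    (hN : Odd N) (hr : Odd r) (hNr : N.Coprime r) (h : EltS F b ε N) (h' : Elt F a ε' r) (hs : s.Prime) (hsN : s ∣ N)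
    (hc : 2 * (i * (Nat.card (F ≃+* F) * (2 * b))) < N - N / s) : Th (Cfsg.POmega F ⇑Q) (s * r) := by
  obtain ⟨z, y, hz, hev, hw, hy, hzy⟩ := torE_pair hG (by omega) hb hab hδ hcl hN hr h h'
  have := finite_P (Q := Q)
  obtain ⟨A, hA, hA'⟩ := hi
  have h7' : 7 ≤ finrank F (ι → F) := by rw [Module.finrank_fintype_fun_eq_card]; exact h7
  have h1 := orb_spec hG h7' hA' hN hz hev hw hs.one_lt
  have hz' : orderOf ((z : ↥(E Q)) : P Q) = N := by rw [orderOf_mk hG (by rwa [hz]), hz]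
  have hy' : orderOf ((y : ↥(E Q)) : P Q) = r := by rw [orderOf_mk hG (by rwa [hy]), hy]
  have h2 := card_sing (x := ((z : ↥(E Q)) : P Q)) hs hz' hsN
  obtain ⟨u, v, t, hu, hv, ht, h3, h4, h5⟩ := exists_three h1 (lt_of_le_of_lt
    (Nat.mul_le_mul_left 2 (Nat.mul_le_mul_right _ hA)) (lt_of_lt_of_le hc h2))
  have hcomm : Commute ((z : ↥(E Q)) : P Q) ((y : ↥(E Q)) : P Q) := by
    show ((z * y : ↥(E Q)) : P Q) = ((y * z : ↥(E Q)) : P Q)
    rw [hzy.eq]
  exact (Th.mul_of hNr hz' hy' hcomm hu hv ht h3 h4 h5).congr (pe hG).symm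

theorem exists_tw {ι : Type} [Fintype ι] [DecidableEq ι] {Q : QuadraticForm F (ι → F)} (hG : _root_.Cfsg.Agent.LieClassical.OrthTrans.Good Q)
    (h7 : 7 ≤ Fintype.card ι) {m a b i N r : ℕ} {δ ε ε' : ℤ} (hi : Idx hG i) (hb : 1 ≤ b) (hab : a + b = m)
    (hδ : ε * ε' = δ)
    (hcl : ∀ {V : Type u} [AddCommGroup V] [Module F V] [Finite V], Module.finrank F V = 2 * m →
      ∀ Q' : QuadraticForm F V, Nondeg Q' → HasSign (⇑Q') m δ → ∃ e : (ι → F) ≃ₗ[F] V, ∀ u, Q' (e u) = Q u)
    (hN : Odd N) (hN1 : 1 < N) (hr : Odd r) (hNr : N.Coprime r) (h : EltS F b ε N) (h' : Elt F a ε' r)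
    (hc : i * (Nat.card (F ≃+* F) * (2 * b)) < N.totient) : Tw (Cfsg.POmega F ⇑Q) (N * r) := by
  obtain ⟨z, y, hz, hev, hw, hy, hzy⟩ := torE_pair hG (by omega) hb hab hδ hcl hN hr h h'
  have := finite_P (Q := Q)
  obtain ⟨A, hA, hA'⟩ := hi
  have h7' : 7 ≤ finrank F (ι → F) := by rw [Module.finrank_fintype_fun_eq_card]; exact h7
  have h1 := orb_spec hG h7' hA' hN hz hev hw hN1
  have hz' : orderOf ((z : ↥(E Q)) : P Q) = N := by rw [orderOf_mk hG (by rwa [hz]), hz]
  have hy' : orderOf ((y : ↥(E Q)) : P Q) = r := by rw [orderOf_mk hG (by rwa [hy]), hy]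
  obtain ⟨u, v, hu, hv, h3⟩ := exists_two h1 (lt_of_le_of_lt
    (Nat.mul_le_mul_right _ hA) (lt_of_lt_of_le hc (card_gen hz')))
  have hcomm : Commute ((z : ↥(E Q)) : P Q) ((y : ↥(E Q)) : P Q) := by
    show ((z * y : ↥(E Q)) : P Q) = ((y * z : ↥(E Q)) : P Q)
    rw [hzy.eq]
  exact (Tw.mul_of hNr hz' hy' hcomm hu hv h3).congr (pe hG).symm

end

section plus

universe u

variable {F : Type u} [Field F] [Fintype F] {m : ℕ}

theorem th_plus {a b N r s : ℕ} {ε : ℤ} (hm : 5 ≤ m) (hb : 1 ≤ b) (hab : a + b = m) (hε : ε * ε = 1)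
    (hN : Odd N) (hr : Odd r) (hNr : N.Coprime r) (h : EltS F b ε N) (h' : Elt F a ε r) (hs : s.Prime) (hsN : s ∣ N)
    (hc : 2 * (Nat.card (F ≃+* F) * (2 * b)) < N - N / s) : Th (Cfsg.POmega F (Cfsg.quadFormPlus m F)) (s * r) := by
  rw [← coe_plusForm]
  refine exists_th (good_plus (F := F) (m := m) (by omega)) (by rw [Fintype.card_sum, Fintype.card_fin]; omega)
    (i := 1) (idx_one _ (by rw [Module.finrank_fintype_fun_eq_card, Fintype.card_sum, Fintype.card_fin]; omega)
    fun h => by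
      rw [Module.finrank_fintype_fun_eq_card, Fintype.card_sum, Fintype.card_fin] at h
      omega) hb hab hε ?_ hN hr hNr h h' hs hsN (by rwa [one_mul])
  intro V _ _ _ hV Q' hQ' hs
  obtain ⟨e, he⟩ := exists_plus (by omega) hV Q' hQ' hs
  exact ⟨e, fun u => by rw [he, coe_plusForm]⟩

theorem tw_plus {a b N r : ℕ} {ε : ℤ} (hm : 5 ≤ m) (hb : 1 ≤ b) (hab : a + b = m) (hε : ε * ε = 1)
    (hN : Odd N) (hN1 : 1 < N) (hr : Odd r) (hNr : N.Coprime r) (h : EltS F b ε N) (h' : Elt F a ε r)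
    (hc : Nat.card (F ≃+* F) * (2 * b) < N.totient) : Tw (Cfsg.POmega F (Cfsg.quadFormPlus m F)) (N * r) := by
  rw [← coe_plusForm]
  refine exists_tw (good_plus (F := F) (m := m) (by omega)) (by rw [Fintype.card_sum, Fintype.card_fin]; omega)
    (i := 1) (idx_one _ (by rw [Module.finrank_fintype_fun_eq_card, Fintype.card_sum, Fintype.card_fin]; omega)
    fun h => by
      rw [Module.finrank_fintype_fun_eq_card, Fintype.card_sum, Fintype.card_fin] at h
      omega) hb hab hε ?_ hN hN1 hr hNr h h' (by rwa [one_mul])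
  intro V _ _ _ hV Q' hQ' hs
  obtain ⟨e, he⟩ := exists_plus (by omega) hV Q' hQ' hs
  exact ⟨e, fun u => by rw [he, coe_plusForm]⟩

end plus

end Cfsg.Agent.H320.Der
end

-- part: H42/Otp/Mat
section
prune_inst 0x10000000000000
set_option linter.all false
open scoped Cfsg.Agent.FastGrp

/-!
# S3502, `PΩ⁺₈(3)`: explicit matrices of elements of orders 7, 14 (helper42)
-/

set_option autoImplicit false
set_option maxRecDepth 100000

namespace Cfsg.Agent.H42.Otp

open Cfsg.Agent.H503.El.O83 Matrix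

def A5 : M8 := Matrix.fromBlocks !![2,0,2,1; 0,0,1,2; 0,0,0,0; 1,0,2,1] !![1,2,0,1; 2,0,0,0; 0,0,1,1; 1,0,1,0] !![2,2,1,2; 2,1,1,2; 1,1,1,0; 2,2,0,0] !![2,0,0,1; 0,0,0,0; 2,1,0,2; 1,2,0,1]
def B5 : M8 := Matrix.fromBlocks !![0,2,2,0; 0,0,1,2; 2,1,2,0; 2,1,0,1] !![1,0,0,2; 0,0,1,1; 0,1,1,0; 2,1,0,1] !![2,1,1,2; 1,2,1,0; 1,1,0,1; 2,0,1,0] !![0,0,2,2; 2,0,1,1; 2,1,2,0; 0,2,0,1]
def A6 : M8 := Matrix.fromBlocks !![0,0,0,2; 0,1,0,0; 2,2,1,1; 1,2,1,1] !![1,0,0,0; 0,0,0,0; 0,0,1,2; 0,0,2,1] !![2,2,1,1; 2,0,0,0; 1,0,1,2; 1,0,2,2] !![0,0,2,1; 0,1,2,2; 0,0,1,1; 2,0,1,1]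
def B6 : M8 := Matrix.fromBlocks !![0,0,1,1; 1,2,1,2; 0,0,1,1; 2,0,1,1] !![0,1,0,0; 1,1,2,2; 0,2,2,1; 0,2,1,2] !![2,2,2,2; 2,0,1,1; 2,1,0,0; 2,1,0,2] !![0,1,0,2; 0,2,0,0; 1,1,1,1; 1,2,1,1]
def A7 : M8 := Matrix.fromBlocks !![1,2,0,0; 1,1,0,1; 2,1,0,1; 1,2,0,2] !![1,1,1,2; 1,2,0,0; 1,0,0,1; 2,0,1,2] !![1,1,0,1; 1,2,0,1; 0,0,1,1; 1,1,1,2] !![1,1,2,1; 2,1,1,2; 0,0,0,0; 0,1,1,2]
def B7 : M8 := Matrix.fromBlocks !![2,1,1,2; 1,0,2,2; 2,2,0,1; 2,1,1,2] !![2,0,0,1; 0,0,1,2; 0,1,1,1; 1,2,1,2] !![2,0,0,1; 0,0,0,0; 0,0,0,0; 1,0,0,2] !![2,1,2,2; 1,0,2,1; 1,2,0,1; 2,2,1,2]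
def A8 : M8 := Matrix.fromBlocks !![0,2,1,1; 0,1,0,0; 2,2,2,1; 0,2,1,1] !![1,1,1,0; 1,0,1,1; 1,1,1,0; 0,1,0,1] !![2,0,0,1; 0,0,0,0; 0,0,0,0; 1,0,0,2] !![0,0,2,0; 2,1,2,2; 1,0,2,1; 1,0,1,1]
def B8 : M8 := Matrix.fromBlocks !![1,2,0,2; 1,2,2,2; 1,2,2,2; 2,1,1,1] !![2,1,0,1; 1,0,0,1; 0,0,0,0; 1,1,0,0] !![2,1,1,1; 1,2,0,0; 1,0,1,1; 1,0,1,2] !![1,1,1,2; 2,2,2,1; 0,2,2,1; 2,2,2,1]
def A9 : M8 := Matrix.fromBlocks !![2,1,0,0; 0,1,1,2; 1,2,0,1; 1,1,1,0] !![1,1,2,1; 1,2,1,0; 2,1,2,2; 1,0,2,0] !![0,0,0,0; 0,2,1,2; 0,1,1,2; 0,2,2,1] !![2,0,1,1; 1,1,2,1; 0,1,0,1; 0,2,1,0]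
def B9 : M8 := Matrix.fromBlocks !![2,0,2,1; 0,0,0,0; 1,2,1,0; 1,2,1,0] !![1,1,0,1; 1,2,1,2; 0,1,1,1; 1,2,1,2] !![1,2,1,0; 2,1,0,0; 1,0,0,1; 0,0,1,1] !![2,0,1,1; 0,0,2,2; 2,0,1,1; 1,0,0,0]

theorem A5_sq : A5 * A5 = 1 := by set_option synthInstance.maxSize 20000 in open scoped Cfsg.Agent.Lib.MatDec in decide +kernel
theorem B5_sq : B5 * B5 = 1 := by set_option synthInstance.maxSize 20000 in open scoped Cfsg.Agent.Lib.MatDec in decide +kernel
theorem A6_sq : A6 * A6 = 1 := by set_option synthInstance.maxSize 20000 in open scoped Cfsg.Agent.Lib.MatDec in decide +kernel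
theorem B6_sq : B6 * B6 = 1 := by set_option synthInstance.maxSize 20000 in open scoped Cfsg.Agent.Lib.MatDec in decide +kernel
theorem A7_sq : A7 * A7 = 1 := by set_option synthInstance.maxSize 20000 in open scoped Cfsg.Agent.Lib.MatDec in decide +kernel
theorem B7_sq : B7 * B7 = 1 := by set_option synthInstance.maxSize 20000 in open scoped Cfsg.Agent.Lib.MatDec in decide +kernel
theorem A8_sq : A8 * A8 = 1 := by set_option synthInstance.maxSize 20000 in open scoped Cfsg.Agent.Lib.MatDec in decide +kernel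
theorem B8_sq : B8 * B8 = 1 := by set_option synthInstance.maxSize 20000 in open scoped Cfsg.Agent.Lib.MatDec in decide +kernel
theorem A9_sq : A9 * A9 = 1 := by set_option synthInstance.maxSize 20000 in open scoped Cfsg.Agent.Lib.MatDec in decide +kernel
theorem B9_sq : B9 * B9 = 1 := by set_option synthInstance.maxSize 20000 in open scoped Cfsg.Agent.Lib.MatDec in decide +kernel

theorem A5_j : A5.transpose * J8 * A5 = J8 := by set_option synthInstance.maxSize 20000 in open scoped Cfsg.Agent.Lib.MatDec in decide +kernel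
theorem B5_j : B5.transpose * J8 * B5 = J8 := by set_option synthInstance.maxSize 20000 in open scoped Cfsg.Agent.Lib.MatDec in decide +kernel
theorem A6_j : A6.transpose * J8 * A6 = J8 := by set_option synthInstance.maxSize 20000 in open scoped Cfsg.Agent.Lib.MatDec in decide +kernel
theorem B6_j : B6.transpose * J8 * B6 = J8 := by set_option synthInstance.maxSize 20000 in open scoped Cfsg.Agent.Lib.MatDec in decide +kernel
theorem A7_j : A7.transpose * J8 * A7 = J8 := by set_option synthInstance.maxSize 20000 in open scoped Cfsg.Agent.Lib.MatDec in decide +kernel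
theorem B7_j : B7.transpose * J8 * B7 = J8 := by set_option synthInstance.maxSize 20000 in open scoped Cfsg.Agent.Lib.MatDec in decide +kernel
theorem A8_j : A8.transpose * J8 * A8 = J8 := by set_option synthInstance.maxSize 20000 in open scoped Cfsg.Agent.Lib.MatDec in decide +kernel
theorem B8_j : B8.transpose * J8 * B8 = J8 := by set_option synthInstance.maxSize 20000 in open scoped Cfsg.Agent.Lib.MatDec in decide +kernel
theorem A9_j : A9.transpose * J8 * A9 = J8 := by set_option synthInstance.maxSize 20000 in open scoped Cfsg.Agent.Lib.MatDec in decide +kernel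
theorem B9_j : B9.transpose * J8 * B9 = J8 := by set_option synthInstance.maxSize 20000 in open scoped Cfsg.Agent.Lib.MatDec in decide +kernel

/-- order 14 -/
def Y5 : M8 := A5 * B5 * A5 * B5
/-- `Z5 ^ 14 = -1` -/
def Z5 : M8 := (A6 * B6 * A6 * B6) * (A7 * B7 * A7 * B7)
/-- the conjugating matrix -/
def G5 : M8 := (A8 * B8 * A8 * B8) * (A9 * B9 * A9 * B9)

/-- the seventh power of a matrix, in few multiplications -/
def p7 (M : M8) : M8 := M * ((M * M) * ((M * M) * (M * M)))

theorem p7_eq (M : M8) : p7 M = M ^ 7 := by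
  unfold p7
  simp only [← pow_two, ← pow_mul, ← pow_add, ← pow_succ']
  rfl

theorem Y5_a : Y5 * Y5 ≠ 1 ∧ Y5 * Y5 ≠ -1 ∧ p7 Y5 ≠ 1 ∧ p7 Y5 ≠ -1 := by (delta p7 Y5; set_option synthInstance.maxSize 20000 in open scoped Cfsg.Agent.Lib.MatDec in decide +kernel)
theorem Y5_b : p7 Y5 * p7 Y5 = 1 := by (delta p7 Y5; set_option synthInstance.maxSize 20000 in open scoped Cfsg.Agent.Lib.MatDec in decide +kernel)
theorem Z5_a : Z5 * Z5 ≠ -1 := by (delta Z5; set_option synthInstance.maxSize 20000 in open scoped Cfsg.Agent.Lib.MatDec in decide +kernel)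
theorem Z5_b : p7 Z5 * p7 Z5 = -1 := by (delta p7 Z5; set_option synthInstance.maxSize 20000 in open scoped Cfsg.Agent.Lib.MatDec in decide +kernel)
end Cfsg.Agent.H42.Otp
end

-- part: H42/Otp/Seven
section
prune_inst 0x10000000000000
set_option linter.all false
open scoped Cfsg.Agent.FastGrp

/-!
# S3502, `PΩ⁺₈(3)`: a subgroup of order prime to 7 misses three classes (helper42)
-/

set_option autoImplicit false

namespace Cfsg.Agent.H42.Otp

open Subgroup Cfsg.Agent.H503.El.O83 Cfsg.Agent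

/-- the elements -/
def y5 : S8 := comOf A5 B5 A5_sq B5_sq A5_j B5_j
def z5 : S8 := comOf A6 B6 A6_sq B6_sq A6_j B6_j * comOf A7 B7 A7_sq B7_sq A7_j B7_j
def g5 : S8 := comOf A8 B8 A8_sq B8_sq A8_j B8_j * comOf A9 B9 A9_sq B9_sq A9_j B9_j

theorem rho_y5 : rho y5 = Y5 := rho_comOf _ _ _ _ _ _
theorem rho_z5 : rho z5 = Z5 := by
  unfold z5
  rw [map_mul, rho_comOf, rho_comOf, Z5]
attribute [irreducible] y5 z5 g5
attribute [local irreducible] Y5 Z5 G5

theorem pr_eq_one {a : S8} (h : rho a = 1 ∨ rho a = -1) : pr a = 1 := by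
  have h1 : a ∈ center S8 := by
    rw [mem_center_iff]
    intro b
    apply rho_injective
    rw [map_mul, map_mul]
    rcases h with h | h <;> rw [h]
    · rw [mul_one, one_mul]
    · rw [mul_neg, neg_mul, mul_one, one_mul]
  exact (QuotientGroup.eq_one_iff a).2 h1

theorem of_pr_eq_one {a : S8} (h : pr a = 1) : rho a = 1 ∨ rho a = -1 := by
  have h1 : pr 1 = pr a := by rw [h, map_one]
  have h2 := pr_eq h1
  rwa [map_one] at h2

theorem order_y5 : orderOf (pr y5) = 14 := by
  rw [orderOf_eq_iff (by norm_num)]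
  have h14 : pr y5 ^ 14 = 1 := by
    rw [← map_pow]
    apply pr_eq_one
    left
    rw [map_pow, rho_y5, show 14 = 7 + 7 from rfl, pow_add, ← p7_eq, Y5_b]
  refine ⟨h14, fun m hm hm0 hpow => ?_⟩
  -- the order divides `gcd m 14`
  have h1 : orderOf (pr y5) ∣ Nat.gcd m 14 := Nat.dvd_gcd (orderOf_dvd_of_pow_eq_one hpow) (orderOf_dvd_of_pow_eq_one h14)
  have h2 : Nat.gcd m 14 ∣ 2 ∨ Nat.gcd m 14 ∣ 7 := by interval_cases m <;> decide
  rcases h2 with h2 | h2
  · have h3 := orderOf_dvd_iff_pow_eq_one.1 (h1.trans h2)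
    rw [← map_pow] at h3
    rcases of_pr_eq_one h3 with h4 | h4 <;> rw [map_pow, rho_y5, pow_two] at h4
    · exact Y5_a.1 h4
    · exact Y5_a.2.1 h4
  · have h3 := orderOf_dvd_iff_pow_eq_one.1 (h1.trans h2)
    rw [← map_pow] at h3
    rcases of_pr_eq_one h3 with h4 | h4 <;> rw [map_pow, rho_y5, ← p7_eq] at h4
    · exact Y5_a.2.2.1 h4
    · exact Y5_a.2.2.2 h4

theorem z5_pow : rho z5 ^ 14 = -1 := by
  rw [rho_z5, show 14 = 7 + 7 from rfl, pow_add, ← p7_eq, Z5_b]

theorem order_z5 : orderOf (pr z5) = 14 := by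
  rw [orderOf_eq_iff (by norm_num)]
  have h14 : pr z5 ^ 14 = 1 := by
    rw [← map_pow]
    apply pr_eq_one
    right
    rw [map_pow, z5_pow]
  refine ⟨h14, fun m hm hm0 hpow => ?_⟩
  have h1 : orderOf (pr z5) ∣ Nat.gcd m 14 := Nat.dvd_gcd (orderOf_dvd_of_pow_eq_one hpow) (orderOf_dvd_of_pow_eq_one h14)
  have h2 : Nat.gcd m 14 ∣ 2 ∨ Nat.gcd m 14 ∣ 7 := by interval_cases m <;> decide
  rcases h2 with h2 | h2
  · have h3 := orderOf_dvd_iff_pow_eq_one.1 (h1.trans h2)
    rw [← map_pow] at h3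
    rcases of_pr_eq_one h3 with h4 | h4 <;> rw [map_pow] at h4
    · have h5 := z5_pow
      rw [show 14 = 2 * 7 from rfl, pow_mul, h4, one_pow] at h5
      exact neg_one_ne h5.symm
    · rw [rho_z5, pow_two] at h4
      exact Z5_a h4
  · have h3 := orderOf_dvd_iff_pow_eq_one.1 (h1.trans h2)
    rw [← map_pow] at h3
    have h5 := z5_pow
    rw [show 14 = 7 * 2 from rfl, pow_mul, ← map_pow] at h5
    rcases of_pr_eq_one h3 with h4 | h4 <;> rw [h4] at h5
    · rw [one_pow] at h5; exact neg_one_ne h5.symm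
    · rw [neg_one_sq] at h5; exact neg_one_ne h5.symm

/-- the two classes of elements of order 14 -/
theorem y5_z5 (g : T8) : g * pr y5 * g⁻¹ ≠ pr z5 := by
  intro h
  obtain ⟨g', rfl⟩ := pr_surjective g
  rw [← map_inv, ← map_mul, ← map_mul] at h
  have h1 : rho (g' * y5 * g'⁻¹) ^ 14 = 1 := by
    rw [← map_pow, conj_pow, map_mul, map_mul, map_pow, rho_y5, show 14 = 7 + 7 from rfl, pow_add, ← p7_eq, Y5_b,
      mul_one, ← map_mul, mul_inv_cancel, map_one]
  have h2 := z5_pow
  rcases pr_eq h with h3 | h3 <;> rw [h3] at h2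
  · rw [h1] at h2; exact neg_one_ne h2.symm
  · rw [Even.neg_pow (by decide), h1] at h2; exact neg_one_ne h2.symm

theorem order_x5 : orderOf (pr y5 ^ 2) = 7 := by
  rw [orderOf_pow, order_y5]
  rfl

/-- **(B)** -/
theorem threeT_seven (R : Subgroup T8) (h : ¬ 7 ∣ Nat.card R) : H439.Der.ThreeT T8 R := by
  have key : ∀ x : T8, 7 ∣ orderOf x → ∀ g : T8, g * x * g⁻¹ ∉ R := by
    intro x hx g hg
    apply h
    have h1 : orderOf (⟨g * x * g⁻¹, hg⟩ : R) ∣ Nat.card R := orderOf_dvd_natCard _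
    rw [Subgroup.orderOf_mk, ← MulAut.conj_apply, MulEquiv.orderOf_eq] at h1
    exact hx.trans h1
  have hne : ∀ x y : T8, orderOf x ≠ orderOf y → ∀ g : T8, g * x * g⁻¹ ≠ y := by
    intro x y hxy g hg
    apply hxy
    rw [← hg, ← MulAut.conj_apply, MulEquiv.orderOf_eq]
  have k1 := key (pr y5 ^ 2) (by rw [order_x5])
  have k2 := key (pr y5) (by rw [order_y5]; norm_num)
  have k3 := key (pr z5) (by rw [order_z5]; norm_num)
  have k4 := hne (pr y5 ^ 2) (pr y5) (by rw [order_x5, order_y5]; norm_num)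
  have k5 := hne (pr y5 ^ 2) (pr z5) (by rw [order_x5, order_z5]; norm_num)
  unfold H439.Der.ThreeT
  exact ⟨pr y5 ^ 2, pr y5, pr z5, k1, k2, k3, k4, k5, y5_z5⟩

end Cfsg.Agent.H42.Otp

private theorem dce_74b112fb92a2 : _root_.True := by
  try have : _root_.True := by simp only [_root_.Cfsg.Agent.H42.Otp.G5.eq_1]
  try have : _root_.True := by simp only [_root_.Cfsg.Agent.H42.Otp.Z5.eq_1]
  exact _root_.True.intro
end

-- part: H149/Der/SevenO83
section
prune_inst 0x56030044ec000000000a58471201e12a2000400000800000822020007884c6000822860882001021a2080050031004810000090004000000400000001180180000012048149a108600006000100000000000000000000000000000000000000000000000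
set_option linter.all false
open scoped Cfsg.Agent.FastGrp

/-!
# `PΩ⁺₈(3)`: elements of order 7 (helper149)

* `cent_seven` : centralizers and normalizers of the subgroups of order 7
* `no_three` : a subgroup of order 7 normalizes no non-trivial 3-subgroup
-/

set_option autoImplicit false
set_option linter.unusedSectionVars false
set_option linter.style.haveILetI false

namespace Cfsg.Agent.H149.Der.O8

open Module QuadraticMap Cfsg.Agent.H182.Cent Cfsg.Agent.H134.CentPow Cfsg.Agent.H134.OmegaThree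
open Cfsg.Agent.ClassicalGeometry.SpinorSign Cfsg.Agent.ClassicalGeometry.OmegaIndex
open Cfsg.Agent.LieClassical.OrthForms

section

variable {F : Type} [Field F] [Fintype F] {ι : Type} [Fintype ι] [DecidableEq ι]

/-- The data used. -/
structure Dat7 (Q : QuadraticForm F (ι → F)) : Prop where
  dat : Dat Q
  dim : Fintype.card ι = 8
  zero7 : Nat.card {v : ι → F // Q v = 0} % 7 = 1
  one7 : Nat.card {v : ι → F // Q v = 1} % 7 = 4

variable {Q : QuadraticForm F (ι → F)} {x : Cfsg.Omega F ⇑Q}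

private theorem rho_mul' (a b : Cfsg.Omega F ⇑Q) : rho (⇑Q) (a * b) = rho (⇑Q) a * rho (⇑Q) b := (rho ⇑Q).map_mul a b

private theorem rho_comm {a b : Cfsg.Omega F ⇑Q} (h : Commute a b) : Commute (rho (⇑Q) a) (rho (⇑Q) b) :=
  (rho_mul' a b).symm.trans ((congrArg (rho (⇑Q)) h.eq).trans (rho_mul' b a))

private theorem rho_seven (hx : x ^ 7 = 1) : rho (⇑Q) x ^ 7 = 1 :=
  ((rho ⇑Q).map_pow x 7).symm.trans ((congrArg (rho (⇑Q)) hx).trans (rho ⇑Q).map_one)

theorem Dat7.seven_ne (D : Dat7 Q) : ((7 : ℕ) : F) ≠ 0 := by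
  intro h
  have h3 := D.dat.three
  have h1 : (1 : F) = 0 := by
    have h4 : (7 : F) = 0 := by exact_mod_cast h
    linear_combination h4 - 2 * h3
  exact one_ne_zero h1

theorem Dat7.finrank (D : Dat7 Q) : finrank F (ι → F) = 8 := by
  rw [Module.finrank_fintype_fun_eq_card, D.dim]

theorem Dat7.isoP (D : Dat7 Q) (hx : x ^ 7 = 1) (hx1 : x ≠ 1) : IsoP (sform_polar Q) (rho (⇑Q) x) 7 where
  nondeg := D.dat.nd
  isom := rho_polar Q x
  prime := by norm_num
  ne_two := by norm_num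
  pow := rho_seven hx
  char := D.seven_ne
  ne_one := fun h1 => hx1 (rho_injective _ (by rw [h1, map_one]))

/-- invariant subspaces without fixed vectors -/
theorem Dat7.inv_dim (D : Dat7 Q) (hx : x ^ 7 = 1) {Z : Submodule F (ι → F)} (hZ : _root_.Cfsg.Agent.H182.Cent.Inv (rho (⇑Q) x) Z)
    (hfix : ∀ z ∈ Z, rho (⇑Q) x z = z → z = 0) : Module.finrank F Z = 0 ∨ Module.finrank F Z = 6 := by
  have hxr : (rho (⇑Q) x) ^ 7 = 1 := rho_seven hx
  have hdvd := dvd_pow_sub_one (by norm_num : Nat.Prime 7) hxr hZ hfix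
  rw [D.dat.card] at hdvd
  have hle : Module.finrank F Z ≤ Module.finrank F (ι → F) := Submodule.finrank_le Z
  rw [D.finrank] at hle
  generalize Module.finrank F Z = n at *
  interval_cases n
  all_goals first | (left; rfl) | (right; rfl) | omega

theorem Dat7.finrank_Y (D : Dat7 Q) (hx : x ^ 7 = 1) (hx1 : x ≠ 1) :
    Module.finrank F (IsoP.Y (sform_polar Q) (rho (⇑Q) x)) = 6 := by
  have hX := D.isoP hx hx1
  rcases D.inv_dim hx hX.invY (fun z hz => hX.fixY hz) with h | h
  · exact absurd (Submodule.finrank_eq_zero.1 h) hX.Y_ne_bot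
  · exact h

theorem Dat7.finrank_N (D : Dat7 Q) (hx : x ^ 7 = 1) (hx1 : x ≠ 1) :
    Module.finrank F (fixS (rho (⇑Q) x)) = 2 := by
  have h1 := (D.isoP hx hx1).finrank_add
  rw [D.finrank_Y hx hx1, D.finrank] at h1
  omega

/-- `Y` is irreducible -/
theorem Dat7.irr (D : Dat7 Q) (hx : x ^ 7 = 1) (hx1 : x ≠ 1) {Z : Submodule F (ι → F)} (hZ : _root_.Cfsg.Agent.H182.Cent.Inv (rho (⇑Q) x) Z)
    (hle : Z ≤ IsoP.Y (sform_polar Q) (rho (⇑Q) x)) : Z = ⊥ ∨ Z = IsoP.Y (sform_polar Q) (rho (⇑Q) x) := by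
  have hX := D.isoP hx hx1
  rcases D.inv_dim hx hZ (fun z hz => hX.fixY (hle hz)) with h | h
  · exact Or.inl (Submodule.finrank_eq_zero.1 h)
  · exact Or.inr (Submodule.eq_of_le_of_finrank_eq hle (by rw [h, D.finrank_Y hx hx1]))

/-- the fixed points of `x` on the vectors of norm `e` -/
theorem Dat7.count (D : Dat7 Q) (hx : x ^ 7 = 1) (e : F) :
    Nat.card {v : ι → F // Q v = e ∧ rho (⇑Q) x v = v} % 7 = Nat.card {v : ι → F // Q v = e} % 7 := by
  classical
  haveI : Fact (Nat.Prime 7) := ⟨by norm_num⟩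
  let f : Function.End {v : ι → F // Q v = e} := fun v => ⟨rho (⇑Q) x v, by rw [rho_isometry, v.2]⟩
  have hf : ∀ (k : ℕ) (v : {v : ι → F // Q v = e}), (((f ^ k) v : {v : ι → F // Q v = e}) : ι → F) =
      ((rho (⇑Q) x) ^ k) v := by
    intro k
    induction k with
    | zero => intro v; rfl
    | succ k ih =>
      intro v
      rw [pow_succ, pow_succ]
      change (((f ^ k) (f v) : {v : ι → F // Q v = e}) : ι → F) = _
      rw [ih]
      rfl
  have hxr : (rho (⇑Q) x) ^ 7 = 1 := rho_seven hx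
  have hf13 : f ^ 7 ^ 1 = 1 := by
    rw [pow_one]
    funext v
    apply Subtype.ext
    rw [hf, hxr]
    rfl
  have h1 := Equiv.Perm.card_fixedPoints_modEq hf13
  have h2 : Fintype.card (Function.fixedPoints f) = Nat.card {v : ι → F // Q v = e ∧ rho (⇑Q) x v = v} := by
    rw [← Nat.card_eq_fintype_card]
    refine Nat.card_congr ⟨fun v => ⟨v.1.1, v.1.2, congrArg Subtype.val v.2⟩,
      fun v => ⟨⟨v.1, v.2.1⟩, Subtype.ext v.2.2⟩, fun v => rfl, fun v => rfl⟩
  rw [h2, ← Nat.card_eq_fintype_card] at h1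
  exact h1.symm

/-- the fixed space is anisotropic -/
theorem Dat7.aniso (D : Dat7 Q) (hx : x ^ 7 = 1) (hx1 : x ≠ 1) {v : ι → F} (hv : rho (⇑Q) x v = v) (h0 : Q v = 0) :
    v = 0 := by
  classical
  by_contra hne
  have hc0 := D.count hx 0
  have hc1 := D.count hx 1
  rw [D.zero7] at hc0
  rw [D.one7] at hc1
  have hvv : v ≠ -v := by
    intro h
    apply hne
    have h3 : (2 : F) • v = 0 := by
      rw [two_smul]
      nth_rw 2 [h]
      exact add_neg_cancel v
    exact (smul_eq_zero.1 h3).resolve_left D.dat.two_ne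
  -- three fixed singular vectors
  have h3 : 3 ≤ Nat.card {w : ι → F // Q w = 0 ∧ rho (⇑Q) x w = w} := by
    let g : Fin 3 → {w : ι → F // Q w = 0 ∧ rho (⇑Q) x w = w} :=
      ![⟨0, map_zero Q, map_zero _⟩, ⟨v, h0, hv⟩, ⟨-v, by rw [QuadraticMap.map_neg, h0], by rw [map_neg, hv]⟩]
    have hg : Function.Injective g := by
      intro i j hij
      have h4 := congrArg Subtype.val hij
      fin_cases i <;> fin_cases j
      · rfl
      · exact absurd h4.symm hne
      · exact absurd (neg_eq_zero.1 h4.symm) hne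
      · exact absurd h4 hne
      · rfl
      · exact absurd h4 hvv
      · exact absurd (neg_eq_zero.1 h4) hne
      · exact absurd h4.symm hvv
      · rfl
    have h5 := Nat.card_le_card_of_injective g hg
    rwa [Nat.card_fin] at h5
  -- all the fixed vectors
  have h9 : Nat.card ({w : ι → F // Q w = 0 ∧ rho (⇑Q) x w = w} ⊕ {w : ι → F // Q w = 1 ∧ rho (⇑Q) x w = w}) ≤ 9 := by
    have h4 : Nat.card ({w : ι → F // Q w = 0 ∧ rho (⇑Q) x w = w} ⊕ {w : ι → F // Q w = 1 ∧ rho (⇑Q) x w = w}) ≤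
        Nat.card (fixS (rho (⇑Q) x)) := by
      refine Nat.card_le_card_of_injective
        (Sum.elim (fun w => ⟨w.1, mem_fixS.2 w.2.2⟩) (fun w => ⟨w.1, mem_fixS.2 w.2.2⟩)) ?_
      rintro (a | a) (b | b) hab
      · have := congrArg Subtype.val hab
        exact congrArg Sum.inl (Subtype.ext this)
      · exfalso
        have h6 : (a : ι → F) = b := congrArg Subtype.val hab
        have h7 := a.2.1
        rw [h6, b.2.1] at h7
        exact one_ne_zero h7
      · exfalso
        have h6 : (a : ι → F) = b := congrArg Subtype.val hab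
        have h7 := a.2.1
        rw [h6, b.2.1] at h7
        exact one_ne_zero h7.symm
      · have := congrArg Subtype.val hab
        exact congrArg Sum.inr (Subtype.ext this)
    refine h4.trans ?_
    rw [Module.natCard_eq_pow_finrank (K := F), D.dat.card, D.finrank_N hx hx1]
    norm_num
  rw [Nat.card_sum] at h9
  omega

/-- endomorphisms of square `1` commuting with `x` are signs on `Y` -/
theorem Dat7.sgn (D : Dat7 Q) (hx : x ^ 7 = 1) (hx1 : x ≠ 1) {h : Module.End F (ι → F)} (hh : Commute h (rho (⇑Q) x))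
    (hY : ∀ v ∈ IsoP.Y (sform_polar Q) (rho (⇑Q) x), h v ∈ IsoP.Y (sform_polar Q) (rho (⇑Q) x))
    (h2 : ∀ v ∈ IsoP.Y (sform_polar Q) (rho (⇑Q) x), h (h v) = v) :
    (∀ v ∈ IsoP.Y (sform_polar Q) (rho (⇑Q) x), h v = v) ∨ ∀ v ∈ IsoP.Y (sform_polar Q) (rho (⇑Q) x), h v = -v := by
  have hX := D.isoP hx hx1
  have hinv : _root_.Cfsg.Agent.H182.Cent.Inv (rho (⇑Q) x) (LinearMap.ker (h - 1) ⊓ IsoP.Y (sform_polar Q) (rho (⇑Q) x)) :=
    (inv_ker (hh.sub_left (Commute.one_left _))).inf hX.invY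
  rcases D.irr hx hx1 hinv inf_le_right with h3 | h3
  · right
    intro v hv
    have h4 : v + h v ∈ LinearMap.ker (h - 1) ⊓ IsoP.Y (sform_polar Q) (rho (⇑Q) x) := by
      refine ⟨?_, Submodule.add_mem _ hv (hY v hv)⟩
      change h (v + h v) - (v + h v) = 0
      rw [map_add, h2 v hv, add_comm]
      exact sub_self _
    rw [h3, Submodule.mem_bot] at h4
    exact eq_neg_of_add_eq_zero_right h4
  · left
    intro v hv
    rw [← h3] at hv
    have h4 : h v - v = 0 := hv.1
    exact sub_eq_zero.1 h4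

theorem Dat7.mem_Y (D : Dat7 Q) (hx : x ^ 7 = 1) (hx1 : x ≠ 1) {a : Cfsg.Omega F ⇑Q} (ha : Commute a x) :
    ∀ v ∈ IsoP.Y (sform_polar Q) (rho (⇑Q) x), rho (⇑Q) a v ∈ IsoP.Y (sform_polar Q) (rho (⇑Q) x) :=
  (D.isoP hx hx1).inv_Y (rho_comm ha) (rho_polar Q a)

theorem mem_N {a : Cfsg.Omega F ⇑Q} (ha : Commute a x) {v : ι → F} (hv : v ∈ fixS (rho (⇑Q) x)) :
    rho (⇑Q) a v ∈ fixS (rho (⇑Q) x) := by
  rw [mem_fixS] at hv ⊢
  have h1 : (rho (⇑Q) x * rho (⇑Q) a) v = (rho (⇑Q) a * rho (⇑Q) x) v := by rw [← rho_mul', ← rho_mul', ha.eq]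
  rw [Module.End.mul_apply, Module.End.mul_apply, hv] at h1
  exact h1

theorem Dat7.dec (D : Dat7 Q) (hx : x ^ 7 = 1) (hx1 : x ≠ 1) (v : ι → F) :
    ∃ a ∈ fixS (rho (⇑Q) x), ∃ b ∈ IsoP.Y (sform_polar Q) (rho (⇑Q) x), a + b = v := by
  have hv : v ∈ fixS (rho (⇑Q) x) ⊔ IsoP.Y (sform_polar Q) (rho (⇑Q) x) := by
    rw [(D.isoP hx hx1).compl.2.sup_eq_top]; exact Submodule.mem_top
  exact Submodule.mem_sup.1 hv

/-- an involution of `Ω` trivial on `Y` is `±1` on the fixed space -/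
theorem Dat7.invol (D : Dat7 Q) (hx : x ^ 7 = 1) (hx1 : x ≠ 1) {t : Cfsg.Omega F ⇑Q} (ht : t * t = 1)
    (hc : Commute t x) (hs : ∀ v ∈ IsoP.Y (sform_polar Q) (rho (⇑Q) x), rho (⇑Q) t v = v) :
    t = 1 ∨ ∀ v ∈ fixS (rho (⇑Q) x), rho (⇑Q) t v = -v := by
  have hX := D.isoP hx hx1
  set T := rho (⇑Q) t with hT
  have hTT : T * T = 1 := by rw [hT, ← rho_mul', ht, (rho ⇑Q).map_one]
  have hTv : ∀ v, T (T v) = v := fun v => by rw [← Module.End.mul_apply, hTT]; rfl
  have h2 := D.dat.two_ne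
  let Ep : Submodule F (ι → F) := LinearMap.ker (T - 1)
  let Em : Submodule F (ι → F) := LinearMap.ker (T + 1)
  have hEp : ∀ v, v ∈ Ep ↔ T v = v := fun v => by
    rw [LinearMap.mem_ker, LinearMap.sub_apply, sub_eq_zero]; rfl
  have hEm : ∀ v, v ∈ Em ↔ T v = -v := fun v => by
    rw [LinearMap.mem_ker, LinearMap.add_apply, add_eq_zero_iff_eq_neg]; rfl
  have hcompl : IsCompl Ep Em := by
    refine ⟨?_, ?_⟩
    · rw [disjoint_iff, Submodule.eq_bot_iff]
      rintro v ⟨h3, h4⟩
      have h3' := (hEp v).1 h3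
      have h4' := (hEm v).1 h4
      rw [h3'] at h4'
      have h5 : (2 : F) • v = 0 := by
        rw [two_smul]
        nth_rw 2 [h4']
        exact add_neg_cancel v
      exact (smul_eq_zero.1 h5).resolve_left h2
    · rw [codisjoint_iff, Submodule.eq_top_iff']
      intro v
      refine Submodule.mem_sup.2 ⟨(2 : F)⁻¹ • (v + T v), ?_, (2 : F)⁻¹ • (v - T v), ?_, ?_⟩
      · rw [hEp, map_smul, map_add, hTv, add_comm]
      · rw [hEm, map_smul, map_sub, hTv, ← smul_neg, neg_sub]
      · rw [← smul_add, show v + T v + (v - T v) = (2 : F) • v by rw [two_smul]; abel, smul_smul,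
          inv_mul_cancel₀ h2, one_smul]
  have hdet : LinearMap.det T = 1 := by
    have h3 := ((mem_Omega_iff h2 Q D.dat.nondeg (by rcases D.dat.dim with h | h <;> omega) one_ne_zero
      (t : Cfsg.isometryGroup F ⇑Q)).1 t.2).1
    rw [← LinearMap.det_toLin'] at h3
    exact h3
  have heven : Even (Module.finrank F Em) := by
    have h3 := Cfsg.Agent.OddHalf.NI3.Bad.Lin.det_of_isCompl T hcompl (a := 1) (b := -1)
      (fun v hv => by rw [one_smul]; exact (hEp v).1 hv) (fun v hv => by rw [neg_one_smul]; exact (hEm v).1 hv)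
    rw [hdet, one_pow, one_mul] at h3
    by_contra hodd
    rw [Nat.not_even_iff_odd] at hodd
    rw [hodd.neg_one_pow] at h3
    exact h2 (by linear_combination h3)
  have hsum : Module.finrank F Ep + Module.finrank F Em = 8 := by
    rw [Submodule.finrank_add_eq_of_isCompl hcompl, D.finrank]
  have hY6 := D.finrank_Y hx hx1
  have hle : IsoP.Y (sform_polar Q) (rho (⇑Q) x) ≤ Ep := fun v hv => (hEp v).2 (hs v hv)
  have h6 := Submodule.finrank_mono hle
  by_cases h0 : Module.finrank F Em = 0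
  · left
    apply rho_injective (⇑Q)
    rw [map_one]
    apply LinearMap.ext
    intro v
    have h3 : Em = ⊥ := Submodule.finrank_eq_zero.1 h0
    have h4 : Ep = ⊤ := by
      have := hcompl.sup_eq_top
      rwa [h3, sup_bot_eq] at this
    have h5 : v ∈ Ep := by rw [h4]; exact Submodule.mem_top
    exact (hEp v).1 h5
  · right
    obtain ⟨k, hk⟩ := heven
    have hE : Module.finrank F Ep = 6 := by omega
    have hYE : IsoP.Y (sform_polar Q) (rho (⇑Q) x) = Ep :=
      Submodule.eq_of_le_of_finrank_eq hle (by rw [hY6, hE])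
    intro v hv
    have h3 : v + T v ∈ Ep := by rw [hEp, map_add, hTv, add_comm]
    rw [← hYE] at h3
    have h4 : v + T v = 0 :=
      hX.fixY h3 (mem_fixS.1 (Submodule.add_mem _ hv (mem_N hc hv)))
    exact eq_neg_of_add_eq_zero_right h4

/-- two elements of `Ω` of square `-1` commuting with `x`: the product is a sign on `Y` -/
theorem Dat7.two_sq (D : Dat7 Q) (hx : x ^ 7 = 1) (hx1 : x ≠ 1) {a b : Cfsg.Omega F ⇑Q} (ha : Commute a x)
    (hb : Commute b x) (ha2 : rho (⇑Q) a * rho (⇑Q) a = -1) (hb2 : rho (⇑Q) b * rho (⇑Q) b = -1)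
    (hab : rho (⇑Q) b * rho (⇑Q) a = rho (⇑Q) a * rho (⇑Q) b ∨ rho (⇑Q) b * rho (⇑Q) a = -(rho (⇑Q) a * rho (⇑Q) b)) :
    (∀ v ∈ IsoP.Y (sform_polar Q) (rho (⇑Q) x), rho (⇑Q) (a * b) v = v) ∨
      ∀ v ∈ IsoP.Y (sform_polar Q) (rho (⇑Q) x), rho (⇑Q) (a * b) v = -v := by
  have hX := D.isoP hx hx1
  set A := rho (⇑Q) a with hA
  set B := rho (⇑Q) b with hB
  have hA2 : ∀ v, A (A v) = -v := fun v => by rw [← Module.End.mul_apply, ha2]; rfl
  have hB2 : ∀ v, B (B v) = -v := fun v => by rw [← Module.End.mul_apply, hb2]; rfl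
  rcases hab with h | h
  · have hv : ∀ v, B (A v) = A (B v) := fun v => by rw [← Module.End.mul_apply, h]; rfl
    refine D.sgn hx hx1 (rho_comm (ha.mul_left hb)) (D.mem_Y hx hx1 (ha.mul_left hb)) fun v _ => ?_
    rw [rho_mul', Module.End.mul_apply, Module.End.mul_apply, ← hA, ← hB, hv, hB2, map_neg, map_neg, hA2, neg_neg]
  · exfalso
    have hv : ∀ v, B (A v) = -A (B v) := fun v => by rw [← Module.End.mul_apply, h]; rfl
    have h3 : (3 : F) = 0 := D.dat.three
    have key := D.sgn hx hx1 (h := A + B) ((rho_comm ha).add_left (rho_comm hb))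
      (fun v hv => Submodule.add_mem _ (D.mem_Y hx hx1 ha v hv) (D.mem_Y hx hx1 hb v hv)) (fun v _ => by
        rw [LinearMap.add_apply, LinearMap.add_apply, map_add, map_add, hA2, hB2, hv]
        have h4 : (3 : F) • v = 0 := by rw [h3, zero_smul]
        have h5 : v + v + v = 0 := by
          rw [← h4]
          have : (3 : F) = 1 + 1 + 1 := by norm_num
          rw [this, add_smul, add_smul, one_smul]
        have h6 : -v + A (B v) + (-A (B v) + -v) = v - (v + v + v) := by abel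
        rw [h6, h5, sub_zero])
    obtain ⟨v, hv0, hv1⟩ := (Submodule.ne_bot_iff _).1 hX.Y_ne_bot
    -- `B = ± 1 - A` on `Y`
    obtain ⟨e, he⟩ : ∃ e : F, ∀ v ∈ IsoP.Y (sform_polar Q) (rho (⇑Q) x), A v + B v = e • v := by
      rcases key with key | key
      · exact ⟨1, fun v hv => by rw [one_smul]; exact key v hv⟩
      · exact ⟨-1, fun v hv => by rw [neg_one_smul]; exact key v hv⟩
    have h4 := he v hv0
    have h5 := he (A v) (D.mem_Y hx hx1 ha v hv0)
    have h6 : B (A v) = A (B v) := by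
      have h7 : B (A v) = e • A v - A (A v) := by rw [← h5]; abel
      have h8 : B v = e • v - A v := by rw [← h4]; abel
      rw [h7, h8, map_sub, map_smul]
    rw [hv] at h6
    have h7 : (2 : F) • A (B v) = 0 := by
      rw [two_smul]
      nth_rw 1 [← h6]
      exact neg_add_cancel _
    have h8 : A (B v) = 0 := (smul_eq_zero.1 h7).resolve_left D.dat.two_ne
    apply hv1
    have h9 : B v = 0 := by
      have := hA2 (B v)
      rw [h8, map_zero] at this
      exact neg_eq_zero.1 this.symm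
    have := hB2 v
    rw [h9, map_zero] at this
    exact neg_eq_zero.1 this.symm

/-! ### The projective group -/

seal _root_.Finset.sum _root_.dotProduct in
/-- at most four involutions (and `1`) commuting with an element of order 7 form a group -/
theorem Dat7.card_le_four (D : Dat7 Q) {s : Cfsg.POmega F ⇑Q} (hs : orderOf s = 7)
    (E : Subgroup (Cfsg.POmega F ⇑Q)) (hE : ∀ e ∈ E, e * e = 1) (hc : ∀ e ∈ E, Commute e s) : Nat.card E ≤ 4 := by
  classical
  obtain ⟨x, hxs, hx⟩ := exists_lift D.dat.center_sq (by norm_num : Nat.Prime 7) (by norm_num) s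
    (by rw [← hs]; exact pow_orderOf_eq_one s)
  have hx1 : x ≠ 1 := by
    rintro rfl
    rw [← hxs, QuotientGroup.mk_one, orderOf_one] at hs
    omega
  have hX := D.isoP hx hx1
  obtain ⟨v0, hv0, hv1⟩ := (Submodule.ne_bot_iff _).1 hX.Y_ne_bot
  obtain ⟨z0, hz0⟩ := D.dat.neg D.dim
  have hz0c : z0 ∈ Subgroup.center (Cfsg.Omega F ⇑Q) := (D.dat.center z0).2 (Or.inr hz0)
  -- lifts commute with `x`
  have hcl : ∀ a : Cfsg.Omega F ⇑Q, (a : Cfsg.POmega F ⇑Q) ∈ E → Commute a x := by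
    intro a ha
    refine commute_lift D.dat.center_sq (by norm_num : Nat.Prime 7) (by norm_num) hx ?_
    rw [hxs]
    exact hc _ ha
  have hsq : ∀ a : Cfsg.Omega F ⇑Q, (a : Cfsg.POmega F ⇑Q) ∈ E →
      rho (⇑Q) a * rho (⇑Q) a = 1 ∨ rho (⇑Q) a * rho (⇑Q) a = -1 := by
    intro a ha
    rw [← rho_mul', ← D.dat.center, ← QuotientGroup.eq_one_iff, QuotientGroup.mk_mul]
    exact hE _ ha
  let P : Cfsg.POmega F ⇑Q → Prop := fun e => ∃ a : Cfsg.Omega F ⇑Q, (a : Cfsg.POmega F ⇑Q) = e ∧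
    ∀ v ∈ IsoP.Y (sform_polar Q) (rho (⇑Q) x), rho (⇑Q) a v = v
  -- signs on `Y`
  have hP : ∀ a : Cfsg.Omega F ⇑Q, ((∀ v ∈ IsoP.Y (sform_polar Q) (rho (⇑Q) x), rho (⇑Q) a v = v) ∨
      ∀ v ∈ IsoP.Y (sform_polar Q) (rho (⇑Q) x), rho (⇑Q) a v = -v) → P (a : Cfsg.POmega F ⇑Q) := by
    rintro a (ha | ha)
    · exact ⟨a, rfl, ha⟩
    · refine ⟨z0 * a, ?_, fun v hv => ?_⟩
      · rw [QuotientGroup.mk_mul, (QuotientGroup.eq_one_iff z0).2 hz0c, one_mul]
      · rw [rho_mul', Module.End.mul_apply, ha v hv, hz0]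
        exact neg_neg v
  have c1 : ∀ a : Cfsg.Omega F ⇑Q, (a : Cfsg.POmega F ⇑Q) ∈ E → ¬ P (a : Cfsg.POmega F ⇑Q) →
      rho (⇑Q) a * rho (⇑Q) a = -1 := by
    intro a ha hPa
    rcases hsq a ha with h | h
    · exfalso
      apply hPa
      apply hP
      exact D.sgn hx hx1 (rho_comm (hcl a ha)) (D.mem_Y hx hx1 (hcl a ha)) fun v _ => by
        rw [← Module.End.mul_apply, h]; rfl
    · exact h
  have c2 : ∀ e f : Cfsg.POmega F ⇑Q, e ∈ E → f ∈ E → P e → P f → e ≠ 1 → f ≠ 1 → e = f := by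
    have key : ∀ a : Cfsg.Omega F ⇑Q, (a : Cfsg.POmega F ⇑Q) ∈ E → (a : Cfsg.POmega F ⇑Q) ≠ 1 →
        (∀ v ∈ IsoP.Y (sform_polar Q) (rho (⇑Q) x), rho (⇑Q) a v = v) →
        ∀ v ∈ fixS (rho (⇑Q) x), rho (⇑Q) a v = -v := by
      intro a ha ha1 hY
      have h1 : a * a = 1 := by
        apply rho_injective (⇑Q)
        rw [rho_mul', (rho ⇑Q).map_one]
        rcases hsq a ha with h | h
        · exact h
        · exfalso
          have h2 : (rho (⇑Q) a * rho (⇑Q) a) v0 = -v0 := by rw [h]; rfl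
          rw [Module.End.mul_apply, hY v0 hv0, hY v0 hv0] at h2
          apply hv1
          have h3 : (2 : F) • v0 = 0 := by
            rw [two_smul]
            nth_rw 2 [h2]
            exact add_neg_cancel v0
          exact (smul_eq_zero.1 h3).resolve_left D.dat.two_ne
      rcases D.invol hx hx1 h1 (hcl a ha) hY with h2 | h2
      · exfalso
        apply ha1
        rw [h2]
        rfl
      · exact h2
    rintro _ _ he hf ⟨a, rfl, ha⟩ ⟨b, rfl, hb⟩ he1 hf1
    have h1 := key a he he1 ha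
    have h2 := key b hf hf1 hb
    have h3 : a = b := by
      apply rho_injective (⇑Q)
      apply LinearMap.ext
      intro v
      obtain ⟨n, hn, y, hy, rfl⟩ := D.dec hx hx1 v
      rw [map_add, map_add, h1 n hn, h2 n hn, ha y hy, hb y hy]
    rw [h3]
  have c3 : ∀ e f : Cfsg.POmega F ⇑Q, e ∈ E → f ∈ E → ¬ P e → ¬ P f → P (e * f) := by
    intro e f he hf hPe hPf
    obtain ⟨a, rfl⟩ := QuotientGroup.mk_surjective e
    obtain ⟨b, rfl⟩ := QuotientGroup.mk_surjective f
    have ha2 := c1 a he hPe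
    have hb2 := c1 b hf hPf
    have hcomm : (b : Cfsg.POmega F ⇑Q) * a = a * b := by
      have h1 := hE _ (E.mul_mem he hf)
      have h2 := hE _ he
      have h3 := hE _ hf
      have h4 : ∀ y : Cfsg.POmega F ⇑Q, y * y = 1 → y⁻¹ = y := fun y hy => (inv_eq_of_mul_eq_one_left hy :)
      (simp +singlePass only [← h4 _ h1]; simp only [mul_inv_rev]; simp only [h4 _ h2]; simp only [h4 _ h3])
    have hz : (b * a)⁻¹ * (a * b) ∈ Subgroup.center (Cfsg.Omega F ⇑Q) := by
      rw [← QuotientGroup.eq, QuotientGroup.mk_mul, QuotientGroup.mk_mul, hcomm]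
    have h5 : rho (⇑Q) a * rho (⇑Q) b = rho (⇑Q) b * rho (⇑Q) a * rho (⇑Q) ((b * a)⁻¹ * (a * b)) := by
      rw [← rho_mul', ← rho_mul', ← rho_mul']
      congr 1
      group
    have h6 := D.two_sq hx hx1 (hcl a he) (hcl b hf) ha2 hb2 (by
      rcases (D.dat.center _).1 hz with h | h
      · left
        rw [h, mul_one] at h5
        exact h5.symm
      · right
        apply LinearMap.ext
        intro v
        have h7 := LinearMap.congr_fun h5 v
        rw [h] at h7
        have h8 : rho (⇑Q) a (rho (⇑Q) b v) = rho (⇑Q) b (rho (⇑Q) a (-v)) := h7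
        rw [map_neg, map_neg] at h8
        change rho (⇑Q) b (rho (⇑Q) a v) = -rho (⇑Q) a (rho (⇑Q) b v)
        rw [h8, neg_neg])
    rw [← QuotientGroup.mk_mul]
    exact hP _ h6
  -- counting
  obtain ⟨t, ht⟩ : ∃ t : Cfsg.POmega F ⇑Q, ∀ e ∈ E, P e → e = 1 ∨ e = t := by
    by_cases h : ∃ t ∈ E, P t ∧ t ≠ 1
    · obtain ⟨t, htE, htP, ht1⟩ := h
      refine ⟨t, fun e he hPe => ?_⟩
      by_cases he1 : e = 1
      · exact Or.inl he1
      · exact Or.inr (c2 e t he htE hPe htP he1 ht1)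
    · push Not at h
      exact ⟨1, fun e he hPe => Or.inl (h e he hPe)⟩
  obtain ⟨f, hf⟩ : ∃ f : Cfsg.POmega F ⇑Q, ∀ e ∈ E, ¬ P e → e = f ∨ e = t * f := by
    by_cases h : ∃ f ∈ E, ¬ P f
    · obtain ⟨f, hfE, hfP⟩ := h
      refine ⟨f, fun e he hPe => ?_⟩
      have h1 : f * f = 1 := hE f hfE
      rcases ht (e * f) (E.mul_mem he hfE) (c3 e f he hfE hPe hfP) with h2 | h2
      · left
        rw [← mul_one e, ← h1, ← mul_assoc, h2, one_mul]
      · right
        rw [← h2, mul_assoc, h1, mul_one]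
    · push Not at h
      exact ⟨1, fun e he hPe => absurd (h e he) hPe⟩
  have hsub : (E : Set (Cfsg.POmega F ⇑Q)) ⊆ (({1, t, f, t * f} : Finset (Cfsg.POmega F ⇑Q)) : Set _) := by
    intro e he
    simp only [Finset.coe_insert, Finset.coe_singleton, Set.mem_insert_iff, Set.mem_singleton_iff]
    by_cases hPe : P e
    · rcases ht e he hPe with h | h
      · exact Or.inl h
      · exact Or.inr (Or.inl h)
    · rcases hf e he hPe with h | h
      · exact Or.inr (Or.inr (Or.inl h))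
      · exact Or.inr (Or.inr (Or.inr h))
  calc Nat.card E = (E : Set (Cfsg.POmega F ⇑Q)).ncard := rfl
    _ ≤ (({1, t, f, t * f} : Finset (Cfsg.POmega F ⇑Q)) : Set (Cfsg.POmega F ⇑Q)).ncard :=
        Set.ncard_le_ncard hsub (Finset.finite_toSet _)
    _ = ({1, t, f, t * f} : Finset (Cfsg.POmega F ⇑Q)).card := Set.ncard_coe_finset _
    _ ≤ 4 := Finset.card_le_four

theorem Dat7.char_three (D : Dat7 Q) : CharP F 3 := by
  obtain ⟨c, hc⟩ := CharP.exists F
  have hcp : c.Prime := CharP.char_is_prime F c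
  have h1 : c ∣ 3 := (CharP.cast_eq_zero_iff F c 3).1 (by exact_mod_cast D.dat.three)
  rwa [(Nat.prime_dvd_prime_iff_eq hcp Nat.prime_three).1 h1] at hc

theorem Dat7.finite_omega : Finite (Cfsg.Omega F ⇑Q) := by
  have hfinE : Finite (Module.End F (ι → F)) := Finite.of_injective (fun a : Module.End F (ι → F) => (a : (ι → F) → (ι → F)))
    DFunLike.coe_injective
  exact Finite.of_injective _ (rho_injective (⇑Q))

/-- a 3-group normalized by `x` is trivial -/
theorem Dat7.lin_three (D : Dat7 Q) (hx : x ^ 7 = 1) (hx1 : x ≠ 1) (M : Subgroup (Cfsg.Omega F ⇑Q)) (hM3 : IsPGroup 3 M)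
    (hMx : ∀ k ∈ M, x⁻¹ * k * x ∈ M) : ∀ k ∈ M, k = 1 := by
  haveI : Fact (Nat.Prime 3) := ⟨by norm_num⟩
  haveI : CharP F 3 := D.char_three
  haveI : Finite (Cfsg.Omega F ⇑Q) := Dat7.finite_omega
  have hX := D.isoP hx hx1
  -- the fixed space
  let W : Submodule F (ι → F) :=
    { carrier := {v | ∀ k ∈ M, rho (⇑Q) k v = v}
      zero_mem' := fun k _ => map_zero _
      add_mem' := fun {a b} ha hb k hk => by rw [map_add, ha k hk, hb k hk]
      smul_mem' := fun c v hv k hk => by rw [map_smul, hv k hk] }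
  have hW : ∀ v, v ∈ W ↔ ∀ k ∈ M, rho (⇑Q) k v = v := fun v => Iff.rfl
  have hWx : _root_.Cfsg.Agent.H182.Cent.Inv (rho (⇑Q) x) W := by
    intro v hv k hk
    have h1 : rho (⇑Q) k (rho (⇑Q) x v) = rho (⇑Q) x (rho (⇑Q) (x⁻¹ * k * x) v) := by
      rw [← Module.End.mul_apply, ← Module.End.mul_apply, ← rho_mul', ← rho_mul']
      congr 2
      group
    rw [h1, hv _ (hMx k hk)]
  have hWp : _root_.Cfsg.Agent.H182.Cent.Inv (rho (⇑Q) x) (perp (sform_polar Q) W) :=
    inv_perp (sform_polar Q) (rho_polar Q x) (by norm_num : 0 < 7) hX.pow hWx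
  -- the radical is trivial
  have hsing : ∀ v ∈ W ⊓ perp (sform_polar Q) W, Q v = 0 := by
    rintro v ⟨h1, h2⟩
    have h3 : polar (⇑Q) v v = 0 := h2 v h1
    rw [polar_self, two_smul, ← two_mul] at h3
    exact (mul_eq_zero.1 h3).resolve_left D.dat.two_ne
  have hradfix : ∀ v ∈ W ⊓ perp (sform_polar Q) W, rho (⇑Q) x v = v → v = 0 := fun v hv h =>
    D.aniso hx hx1 h (hsing v hv)
  have hrad : W ⊓ perp (sform_polar Q) W = ⊥ := by
    have h1 := D.inv_dim hx (hWx.inf hWp) hradfix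
    rcases h1 with h1 | h1
    · exact Submodule.finrank_eq_zero.1 h1
    · exfalso
      have h2 : _root_.Cfsg.Agent.H182.Cent.Inv (rho (⇑Q) x) ((W ⊓ perp (sform_polar Q) W) ⊓ IsoP.Y (sform_polar Q) (rho (⇑Q) x)) :=
        (hWx.inf hWp).inf hX.invY
      rcases D.irr hx hx1 h2 inf_le_right with h3 | h3
      · have h4 := Submodule.finrank_add_finrank_le_of_disjoint (disjoint_iff.2 h3)
        rw [h1, D.finrank_Y hx hx1, D.finrank] at h4
        omega
      · have h4 : IsoP.Y (sform_polar Q) (rho (⇑Q) x) ≤ W ⊓ perp (sform_polar Q) W := by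
          rw [← h3]; exact inf_le_left
        apply hX.Y_ne_bot
        rw [Submodule.eq_bot_iff]
        intro v hv
        refine hX.nonDegY v hv fun w hw => ?_
        exact (h4 hv).2 w (h4 hw).1
  have hnd : NonDeg (polar ⇑Q) W := by
    intro v hv h
    have h1 : v ∈ W ⊓ perp (sform_polar Q) W := ⟨hv, fun w hw => h w hw⟩
    rw [hrad] at h1
    exact (Submodule.mem_bot F).1 h1
  -- the orthogonal complement is trivial
  have hperp : perp (sform_polar Q) W = ⊥ := by
    by_contra h0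
    have hinv' : ∀ g ∈ M, ∀ v ∈ perp (sform_polar Q) W, rho (⇑Q) g v ∈ perp (sform_polar Q) W := by
      intro g hg v hv
      rw [mem_perp] at hv ⊢
      intro w hw
      have h1 : rho (⇑Q) g w = w := (hW w).1 hw g hg
      have h2 := rho_polar Q g v w
      rw [h1, hv w hw] at h2
      exact h2
    obtain ⟨ρ, hρ⟩ : ∃ ρ : Representation F M (ι → F), ∀ (g : M) (v : ι → F), ρ g v = rho (⇑Q) (g : Cfsg.Omega F ⇑Q) v :=
      ⟨(rho (⇑Q)).comp M.subtype, fun _ _ => rfl⟩
    have hinv : ∀ g : M, ∀ v ∈ perp (sform_polar Q) W, ρ g v ∈ perp (sform_polar Q) W := by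
      intro g v hv
      rw [hρ]
      exact hinv' g g.2 v hv
    obtain ⟨v, hv, hv0, hvf⟩ := Cfsg.Agent.Lib.PGroupFixedVector.exists_mem_ne_zero_fixed_rep hM3 ρ
      (perp (sform_polar Q) W) hinv h0
    apply hv0
    have h1 : v ∈ W ⊓ perp (sform_polar Q) W := ⟨(hW v).2 fun k hk => by
      rw [← hρ ⟨k, hk⟩]
      exact hvf ⟨k, hk⟩, hv⟩
    rw [hrad] at h1
    exact (Submodule.mem_bot F).1 h1
  have hall : ∀ v, v ∈ W := by
    intro v
    obtain ⟨z, hz, h1⟩ := exists_proj (sform_polar Q) hnd v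
    rw [hperp, Submodule.mem_bot, sub_eq_zero] at h1
    rwa [h1]
  intro k hk
  apply rho_injective (⇑Q)
  rw [map_one]
  apply LinearMap.ext
  intro v
  exact (hW v).1 (hall v) k hk

private theorem no_three_abs {G : Type} [Group G] [Finite G] (hsq : ∀ z ∈ Subgroup.center G, z * z = 1)
    (hZ : Nat.card (Subgroup.center G) ≤ 2) {x : G} {s : G ⧸ Subgroup.center G} (hxs : (x : G ⧸ Subgroup.center G) = s)
    (hs : orderOf s = 7) (E : Subgroup (G ⧸ Subgroup.center G)) (hE : IsPGroup 3 E) (hn : ∀ e ∈ E, s * e * s⁻¹ ∈ E)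
    (hlin : ∀ M : Subgroup G, IsPGroup 3 M → (∀ k ∈ M, x⁻¹ * k * x ∈ M) → ∀ k ∈ M, k = 1) : E = ⊥ := by
  classical
  haveI : Fact (Nat.Prime 3) := ⟨by norm_num⟩
  set π : G →* G ⧸ Subgroup.center G := QuotientGroup.mk' (Subgroup.center G) with hπ
  have hexp : ∀ k : G, π k ∈ E → ∃ n : ℕ, (k * k) ^ 3 ^ n = 1 := by
    intro k hk
    obtain ⟨n, hn⟩ := hE ⟨π k, hk⟩
    refine ⟨n, ?_⟩
    have h1 : π k ^ 3 ^ n = 1 := congrArg Subtype.val hn
    rw [← map_pow] at h1
    have h2 : k ^ 3 ^ n ∈ Subgroup.center G := (QuotientGroup.eq_one_iff _).1 h1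
    rw [(Commute.refl k).mul_pow]
    exact hsq _ h2
  set K : Subgroup G := E.comap π with hK
  have hZ0 : 0 < Nat.card (Subgroup.center G) := Nat.card_pos
  have hcK : Nat.card K = Nat.card E * Nat.card (Subgroup.center G) := by
    have h1 : K.index = E.index := Subgroup.index_comap_of_surjective E (QuotientGroup.mk'_surjective _)
    have h2 := Subgroup.card_mul_index K
    have h3 := Subgroup.card_mul_index E
    have h4 := Subgroup.card_eq_card_quotient_mul_card_subgroup (Subgroup.center G)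
    have h5 : Nat.card (G ⧸ Subgroup.center G) = Nat.card (G ⧸ Subgroup.center G) := rfl
    have h6 : 0 < E.index := Nat.pos_of_ne_zero Subgroup.index_ne_zero_of_finite
    rw [h4, ← h5, ← h3, h1] at h2
    have h7 : Nat.card K * E.index = Nat.card E * Nat.card (Subgroup.center G) * E.index := by
      rw [h2]; ring
    exact Nat.eq_of_mul_eq_mul_right h6 h7
  obtain ⟨m, hm⟩ := (IsPGroup.iff_card (p := 3)).1 hE
  -- a normal Sylow 3-subgroup of `K`
  obtain ⟨R⟩ : Nonempty (Sylow 3 K) := inferInstance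
  have hRi : (R : Subgroup K).index = 1 ∨ (R : Subgroup K).index = 2 := by
    have h1 : (R : Subgroup K).index ∣ Nat.card K := Subgroup.index_dvd_card _
    have h2 : ¬ 3 ∣ (R : Subgroup K).index := R.not_dvd_index
    rw [hcK, hm] at h1
    have h3 : ((R : Subgroup K).index).Coprime (3 ^ m) :=
      Nat.Coprime.pow_right _ ((Nat.Prime.coprime_iff_not_dvd Nat.prime_three).2 h2).symm
    have h4 := Nat.le_of_dvd hZ0 (h3.dvd_of_dvd_mul_left h1)
    have h5 : (R : Subgroup K).index ≠ 0 := Subgroup.index_ne_zero_of_finite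
    omega
  have hRn : ((R : Subgroup K).Normal :) := by
    rcases hRi with h | h
    · rw [Subgroup.index_eq_one.1 h]; infer_instance
    · exact Subgroup.normal_of_index_eq_two h
  have hin : ∀ k : K, (∃ n : ℕ, k ^ 3 ^ n = 1) → k ∈ (R : Subgroup K) := by
    rintro k ⟨n, hn⟩
    have h1 : IsPGroup 3 (Subgroup.zpowers k) := by
      rintro ⟨y, j, rfl⟩
      refine ⟨n, Subtype.ext ?_⟩
      change (k ^ j) ^ 3 ^ n = 1
      (simp only [← zpow_natCast]; simp only [← zpow_mul]; (conv => enter [@2, @6]; rw [mul_comm]); simp only [zpow_mul]; simp only [zpow_natCast]; simp only [hn]; simp only [one_zpow])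
    obtain ⟨R', hR'⟩ := h1.exists_le_sylow
    have h2 : R' = R := by
      have := Sylow.unique_of_normal R hRn
      exact Subsingleton.elim _ _
    rw [h2] at hR'
    exact hR' (Subgroup.mem_zpowers k)
  -- as a subgroup of `Ω`
  set M : Subgroup G := (R : Subgroup K).map K.subtype with hM
  have hM3 : IsPGroup 3 M := R.2.map _
  have hMiff : ∀ k : G, k ∈ M ↔ π k ∈ E ∧ ∃ n : ℕ, k ^ 3 ^ n = 1 := by
    intro k
    constructor
    · intro hk
      obtain ⟨k', hk', rfl⟩ := hk
      refine ⟨k'.2, ?_⟩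
      obtain ⟨n, hn⟩ := R.2 ⟨k', hk'⟩
      refine ⟨n, ?_⟩
      have h1 : (k' : K) ^ 3 ^ n = 1 := congrArg Subtype.val hn
      exact congrArg Subtype.val h1
    · rintro ⟨hk, n, hn⟩
      exact ⟨⟨k, hk⟩, hin _ ⟨n, Subtype.ext hn⟩, rfl⟩
  have hMx : ∀ k ∈ M, x⁻¹ * k * x ∈ M := by
    intro k hk
    rw [hMiff] at hk ⊢
    obtain ⟨hk1, n, hkn⟩ := hk
    constructor
    · -- `s⁻¹ e s ∈ E`
      have h1 : ∀ j : ℕ, s ^ j * π k * (s ^ j)⁻¹ ∈ E := by
        intro j
        induction j with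
        | zero => simpa using hk1
        | succ j ih =>
          have := hn _ ih
          rw [pow_succ']
          have h2 : s * s ^ j * π k * (s * s ^ j)⁻¹ = s * (s ^ j * π k * (s ^ j)⁻¹) * s⁻¹ := by group
          rw [h2]
          exact this
      have h2 := h1 6
      have h3 : s ^ 6 = s⁻¹ := by
        have h4 : s ^ 7 = 1 := by rw [← hs]; exact pow_orderOf_eq_one s
        rw [eq_inv_iff_mul_eq_one, ← pow_succ]
        exact h4
      rw [h3, inv_inv] at h2
      have h4 : π (x⁻¹ * k * x) = s⁻¹ * π k * s := by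
        simp only [map_mul, map_mul, map_inv, ← hxs]
        rfl
      rw [h4]
      exact h2
    · refine ⟨n, ?_⟩
      have h1 : (x⁻¹ * k * x) ^ 3 ^ n = x⁻¹ * k ^ 3 ^ n * x := by
        have := conj_pow (i := 3 ^ n) (a := x⁻¹) (b := k)
        rw [inv_inv] at this
        exact this
      rw [h1, hkn, mul_one, inv_mul_cancel]
  have hMone := hlin M hM3 hMx
  rw [Subgroup.eq_bot_iff_forall]
  intro e he
  obtain ⟨k, rfl⟩ := QuotientGroup.mk_surjective e
  obtain ⟨n, hn⟩ := hexp k he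
  have h1 : k * k = 1 := hMone _ ((hMiff _).2 ⟨by
    rw [map_mul]
    exact E.mul_mem he he, n, hn⟩)
  obtain ⟨j, hj⟩ := hE ⟨_, he⟩
  have h2 : (k : G ⧸ Subgroup.center G) ^ 3 ^ j = 1 := congrArg Subtype.val hj
  have h3 : (k : G ⧸ Subgroup.center G) ^ 2 = 1 := by
    rw [pow_two, ← QuotientGroup.mk_mul, h1]
    rfl
  have h4 : Nat.Coprime (3 ^ j) 2 := Nat.Coprime.pow_left _ (by norm_num)
  have h5 := (pow_gcd_eq_one (a := (k : G ⧸ Subgroup.center G))).2 ⟨h2, h3⟩
  rwa [h4.gcd_eq_one, pow_one] at h5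


seal _root_.Finset.sum _root_.dotProduct in
/-- an element of order 7 normalizes no non-trivial 3-subgroup -/
theorem Dat7.no_three (D : Dat7 Q) {s : Cfsg.POmega F ⇑Q} (hs : orderOf s = 7)
    (E : Subgroup (Cfsg.POmega F ⇑Q)) (hE : IsPGroup 3 E) (hn : ∀ e ∈ E, s * e * s⁻¹ ∈ E) : E = ⊥ := by
  classical
  obtain ⟨x, hxs, hx⟩ := exists_lift D.dat.center_sq (by norm_num : Nat.Prime 7) (by norm_num) s
    (by rw [← hs]; exact pow_orderOf_eq_one s)
  have hx1 : x ≠ 1 := by
    rintro rfl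
    rw [← hxs, QuotientGroup.mk_one, orderOf_one] at hs
    omega
  haveI hfin : Finite (Cfsg.Omega F ⇑Q) := Dat7.finite_omega
  -- the order of the centre
  have hZ : Nat.card (Subgroup.center (Cfsg.Omega F ⇑Q)) ≤ 2 := by
    have h1 : ∀ z : Subgroup.center (Cfsg.Omega F ⇑Q), rho (⇑Q) z = 1 ∨ rho (⇑Q) z = -1 := fun z =>
      (D.dat.center _).1 z.2
    let g : Subgroup.center (Cfsg.Omega F ⇑Q) → Bool := fun z => decide (rho (⇑Q) (z : Cfsg.Omega F ⇑Q) = 1)
    have hg : Function.Injective g := by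
      intro a b hab
      have h2 : (rho (⇑Q) (a : Cfsg.Omega F ⇑Q) = 1) ↔ (rho (⇑Q) (b : Cfsg.Omega F ⇑Q) = 1) := by
        simpa only [g, decide_eq_decide] using hab
      apply Subtype.ext
      apply rho_injective (⇑Q)
      rcases h1 a with h3 | h3
      · rw [h3, h2.1 h3]
      · rcases h1 b with h4 | h4
        · rw [h4, h2.2 h4]
        · rw [h3, h4]
    have h2 := Nat.card_le_card_of_injective g hg
    rwa [Nat.card_eq_fintype_card (α := Bool), Fintype.card_bool] at h2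
  exact no_three_abs D.dat.center_sq hZ hxs hs E hE hn (D.lin_three hx hx1)

end

end Cfsg.Agent.H149.Der.O8
end

-- part: H44/Der/Diag_mg
section
set_option linter.all false
open scoped Cfsg.Agent.FastGrp

-- part: H44/Der/Base
section
/-!
# Small unitary groups, three classes of derangements (S3502): tools (helper44)
-/

set_option autoImplicit false
set_option linter.unusedSectionVars false

namespace Cfsg.Agent.H44.Der

open Subgroup Cfsg Cfsg.Geo Cfsg.Agent.H439.Der Cfsg.Agent.H938.Sax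
open Cfsg.Agent.LieClassical.HermBasic Cfsg.Agent.LieClassical.HermSiegel Cfsg.Agent.LieClassical.SUBasic
open Cfsg.Agent.ClassicalGeometry.PSUAutBasic
open Cfsg.Agent.H251.GeoU (pre)
open scoped Matrix MatrixGroups

section abstract

variable {T : Type*} [Group T] {M R : Subgroup T}

/-- If the proper subgroups which are not `Three` are `Two` and have all the same order, the strong row holds. -/
theorem rowS_of_card [Finite T] {N : ℕ} (h : ∀ R : Subgroup T, R ≠ ⊤ → Three T R ∨ (Two T R ∧ Nat.card R = N)) :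
    RowS T := by
  refine RowS.of_coatoms fun M hM => ?_
  rcases h M hM.1 with h1 | ⟨h1, h2⟩
  · exact Or.inl h1
  · right
    refine ⟨h1, fun R hR => ?_⟩
    rcases h R (hR.trans hM.lt_top).ne with h3 | ⟨h3, h4⟩
    · exact h3
    · exfalso
      have h5 := Subgroup.eq_of_le_of_card_ge hR.le (by rw [h4, h2])
      exact hR.ne h5

theorem miss_of_pow {x y : T} {k : ℕ} (hx : ∀ φ : T ≃* T, φ x ∉ M) (h : y ^ k = x) : ∀ φ : T ≃* T, φ y ∉ M := by
  intro φ hφ
  apply hx φ
  rw [← h, map_pow]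
  exact M.pow_mem hφ k

/-- three missing elements of different orders -/
theorem three_of_ne {x y z : T} (hx : ∀ φ : T ≃* T, φ x ∉ R) (hy : ∀ φ : T ≃* T, φ y ∉ R) (hz : ∀ φ : T ≃* T, φ z ∉ R)
    (hxy : orderOf x ≠ orderOf y) (hxz : orderOf x ≠ orderOf z) (hyz : orderOf y ≠ orderOf z) : Three T R := by
  refine ⟨x, y, z, hx, hy, hz, fun φ h => hxy ?_, fun φ h => hxz ?_, fun φ h => hyz ?_⟩
  all_goals rw [← h, orderOf_mulEquiv]

theorem not_mem_of_card {x : T} {v : ℕ} (hv : ¬ v ∣ Nat.card M) (hx : v ∣ orderOf x) : ∀ φ : T ≃* T, φ x ∉ M :=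
  not_mem_of_dvd hv hx

end abstract

section unitary

variable {F : Type*} [Field F] [Fintype F] {n q : ℕ}

/-- the matrices of the lifts of the images of `X` under automorphisms -/
def Rel (q : ℕ) (X Y : Matrix (Fin n) (Fin n) F) : Prop :=
  ∃ (A B : Matrix (Fin n) (Fin n) F) (ρ : F ≃+* F) (c : F), A * B = 1 ∧ c ^ n = 1 ∧ c ^ (q + 1) = 1 ∧
    Y = c • (A * X.map ρ * B)

/-- no lift of an image of `x` is in `H` -/
def Miss' (x : SU n F q) (H : Subgroup (GL (Fin n) F)) : Prop :=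
  ∀ y : SU n F q, Rel q (mat x) (mat y) → H918.suHom n F q y ∉ H

theorem mem_pre {M : Subgroup (PSU n F q)} {y : SU n F q} (h : pr n F q y ∈ M) : H918.suHom n F q y ∈ pre M :=
  ⟨y, h, rfl⟩

theorem of_mem_pre {M : Subgroup (PSU n F q)} {y : SU n F q} (h : H918.suHom n F q y ∈ pre M) : pr n F q y ∈ M := by
  obtain ⟨z, hz, h1⟩ := h
  rw [← H918.suHom_injective h1]
  exact hz

theorem miss (hF : Fintype.card F = q ^ 2) (hn : 3 ≤ n) (h32 : ¬ (n = 3 ∧ q = 2)) {M : Subgroup (PSU n F q)}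
    {x : SU n F q} (h : Miss' x (pre M)) (φ : PSU n F q ≃* PSU n F q) : φ (pr n F q x) ∉ M := by
  intro hφ
  obtain ⟨y, hy⟩ := pr_surjective (φ (pr n F q x))
  have h1 : pr n F q y ∈ M := by rw [hy]; exact hφ
  exact h y (H251.Small.aut_mat hF hn h32 φ hy.symm) (mem_pre h1)

theorem isMaximalIn_pre {M : Subgroup (PSU n F q)} (hM : IsCoatom M) :
    IsMaximalIn (Cfsg.GU n F q ⊓ specialLinear (Fin n) F) (pre M) := by
  refine ⟨lt_of_le_of_ne (H251.GeoU.pre_le M) fun h => hM.1 ?_, fun K hK1 hK2 => ?_⟩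
  · rw [eq_top_iff]
    intro x _
    obtain ⟨y, rfl⟩ := pr_surjective x
    exact of_mem_pre (by rw [h]; exact H918.suHom_mem y)
  · have hcen : ∀ z ∈ Subgroup.center (SU n F q), H918.suHom n F q z ∈ pre M := by
      intro z hz
      refine mem_pre ?_
      rw [pr_eq_one_iff.2 hz]
      exact M.one_mem
    let M' : Subgroup (PSU n F q) := (K.comap (H918.suHom n F q)).map (pr n F q)
    have hle : M ≤ M' := by
      intro x hx
      obtain ⟨y, rfl⟩ := pr_surjective x
      exact ⟨y, hK1 (mem_pre hx), rfl⟩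
    rcases hM.le_iff.1 hle with h1 | h1
    · right
      refine le_antisymm hK2 fun g hg => ?_
      obtain ⟨y, rfl⟩ := H918.exists_suHom hg
      have h2 : pr n F q y ∈ M' := by rw [h1]; exact Subgroup.mem_top _
      obtain ⟨y', hy', h3⟩ := h2
      obtain ⟨z, hz, rfl⟩ := exists_center_mul h3
      rw [map_mul]
      exact K.mul_mem hy' (hK1 (hcen z hz))
    · left
      refine le_antisymm (fun g hg => ?_) hK1
      obtain ⟨y, rfl⟩ := H918.exists_suHom (hK2 hg)
      refine mem_pre ?_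
      rw [← h1]
      exact ⟨y, hg, rfl⟩

end unitary

end Cfsg.Agent.H44.Der
end

-- part: H44/Der/Diag
section
/-!
# Diagonal elements and totally isotropic subspaces (helper44)
-/

set_option autoImplicit false
set_option linter.unusedSectionVars false

namespace Cfsg.Agent.H44.Der

open Subgroup Cfsg Cfsg.Geo Module
open Cfsg.Agent.LieClassical.HermBasic Cfsg.Agent.LieClassical.HermSiegel Cfsg.Agent.LieClassical.SUBasic
open Cfsg.Agent.ClassicalGeometry.PSUAutBasic
open Cfsg.Agent.H251.GeoU (pre)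
open scoped Matrix MatrixGroups

variable {F : Type*} [Field F] [Fintype F] {n q : ℕ}

theorem act_of_stab {y : SU n F q} {W : Submodule F (Fin n → F)} {K : Subgroup (GL (Fin n) F)}
    (h : H918.suHom n F q y ∈ subspaceStabilizer W ⊓ K) : ∀ w ∈ W, act y w ∈ W := by
  intro w hw
  exact (H918.mem_subspaceStabilizer.1 h.1 w).1 hw

section vec

variable {A B : Matrix (Fin n) (Fin n) F} {b : Fin n → F}

theorem mulVec_A (hAB : A * B = 1) (z : Fin n → F) : B *ᵥ (A *ᵥ z) = z := by
  rw [Matrix.mulVec_mulVec, _root_.mul_eq_one_comm.1 hAB, Matrix.one_mulVec]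

theorem mulVec_B (hAB : A * B = 1) (z : Fin n → F) : A *ᵥ (B *ᵥ z) = z := by
  rw [Matrix.mulVec_mulVec, hAB, Matrix.one_mulVec]

theorem act_A {y : SU n F q} (hAB : A * B = 1) (hy : mat y = A * Matrix.diagonal b * B) (z : Fin n → F) :
    act y (A *ᵥ z) = A *ᵥ (fun i => b i * z i) := by
  rw [act_def, hy, ← Matrix.mulVec_mulVec, mulVec_A hAB, ← Matrix.mulVec_mulVec]
  congr 1
  funext i
  rw [Matrix.mulVec_diagonal]

/-- invariant subspaces are invariant under the spectral projections -/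
theorem proj_mem {y : SU n F q} (hAB : A * B = 1) (hy : mat y = A * Matrix.diagonal b * B)
    {W : Submodule F (Fin n → F)} (hinv : ∀ w ∈ W, act y w ∈ W) [DecidableEq F] (s : Finset F) :
    ∀ v ∈ W, A *ᵥ (fun i => (∏ μ ∈ s, (b i - μ)) * (B *ᵥ v) i) ∈ W := by
  induction s using Finset.induction_on with
  | empty =>
    intro v hv
    simp only [Finset.prod_empty, one_mul]
    rw [show (fun i => (B *ᵥ v) i) = B *ᵥ v from rfl, mulVec_B hAB]
    exact hv
  | insert ν s hν ih =>
    intro v hv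
    have h1 := ih v hv
    have h2 := hinv _ h1
    rw [act_A hAB hy] at h2
    have h3 := W.sub_mem h2 (W.smul_mem ν h1)
    rw [← Matrix.mulVec_smul, ← Matrix.mulVec_sub] at h3
    convert h3 using 2
    funext i
    simp only [Pi.sub_apply, Pi.smul_apply, smul_eq_mul]
    rw [Finset.prod_insert hν]
    ring

theorem iso_of_diag (hF : Fintype.card F = q ^ 2) {y : SU n F q} (hAB : A * B = 1)
    (hy : mat y = A * Matrix.diagonal b * B)
    (hb : ∀ i, b i ^ (q + 1) = 1) {i j : Fin n} (hij : b i ≠ b j) :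
    hermForm n F q (A *ᵥ Pi.single i 1) (A *ᵥ Pi.single j 1) = 0 := by
  have h1 : ∀ k, act y (A *ᵥ Pi.single k 1) = b k • (A *ᵥ Pi.single k 1) := by
    intro k
    rw [act_A hAB hy, ← Matrix.mulVec_smul]
    congr 1
    funext l
    by_cases h : l = k
    · subst h
      simp
    · simp [h]
  have h2 := herm_act y (A *ᵥ Pi.single i 1) (A *ᵥ Pi.single j 1)
  rw [h1, h1, herm_smul_left, herm_smul_right] at h2
  by_contra hne
  apply hij
  have h3 : b i * b j ^ q = 1 := by
    apply mul_right_cancel₀ hne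
    rw [one_mul]
    linear_combination h2
  have h4 : b j * b j ^ q = 1 := by rw [← pow_succ', hb]
  have h5 : b j ^ q ≠ 0 := by
    intro h0
    rw [h0, mul_zero] at h4
    exact zero_ne_one h4
  exact mul_right_cancel₀ h5 (h3.trans h4.symm)

theorem single_sum (z : Fin n → F) : A *ᵥ z = ∑ i, z i • (A *ᵥ Pi.single i 1) := by
  funext k
  rw [Finset.sum_apply]
  simp only [Pi.smul_apply, Matrix.mulVec_single_one, smul_eq_mul, Matrix.col_apply]
  rw [Matrix.mulVec, dotProduct]
  exact Finset.sum_congr rfl fun i _ => mul_comm _ _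

theorem nonisotropic_of_diag (hF : Fintype.card F = q ^ 2) {y : SU n F q} (hAB : A * B = 1)
    (hy : mat y = A * Matrix.diagonal b * B)
    (hb : ∀ i, b i ^ (q + 1) = 1) {j : Fin n} (hj : ∀ i, i ≠ j → b i ≠ b j) :
    hermForm n F q (A *ᵥ Pi.single j 1) (A *ᵥ Pi.single j 1) ≠ 0 := by
  intro h0
  have h1 : A *ᵥ Pi.single j 1 ≠ 0 := by
    intro h
    have h2 := mulVec_A hAB (Pi.single j (1 : F))
    rw [h, Matrix.mulVec_zero] at h2
    have h3 := congrFun h2 j
    simp at h3
  obtain ⟨v, hv⟩ := exists_herm_ne_zero hF h1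
  apply hv
  rw [← mulVec_B hAB v, single_sum (A := A) (B *ᵥ v), herm_sum_right hF]
  apply Finset.sum_eq_zero
  intro i _
  rw [herm_smul_right]
  by_cases h : i = j
  · subst h
    rw [h0, mul_zero]
  · rw [iso_of_diag hF hAB hy hb (Ne.symm (hj i h)), mul_zero]

/-- **Invariant totally isotropic subspaces of a diagonalizable element.** -/
theorem finrank_of_diag (hF : Fintype.card F = q ^ 2) {y : SU n F q} (hAB : A * B = 1)
    (hy : mat y = A * Matrix.diagonal b * B)
    (hb : ∀ i, b i ^ (q + 1) = 1) {J : Finset (Fin n)} (hJ : ∀ j ∈ J, ∀ i, i ≠ j → b i ≠ b j)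
    {W : Submodule F (Fin n → F)} (hinv : ∀ w ∈ W, act y w ∈ W)
    (hW : IsTotallySingularFor (hermForm n F q) W) : 2 * finrank F W + J.card ≤ n := by
  classical
  have key : ∀ j ∈ J, ∀ v ∈ W, (B *ᵥ v) j = 0 := by
    intro j hj v hv
    by_contra hne
    have h1 := proj_mem hAB hy hinv ((Finset.univ.image b).erase (b j)) v hv
    have h2 : (fun i => (∏ μ ∈ (Finset.univ.image b).erase (b j), (b i - μ)) * (B *ᵥ v) i) =
        ((∏ μ ∈ (Finset.univ.image b).erase (b j), (b j - μ)) * (B *ᵥ v) j) • (Pi.single j 1 : Fin n → F) := by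
      funext i
      by_cases h : i = j
      · subst h
        simp
      · rw [Finset.prod_eq_zero (i := b i)]
        · simp [h]
        · rw [Finset.mem_erase]
          exact ⟨hJ j hj i h, Finset.mem_image_of_mem _ (Finset.mem_univ _)⟩
        · rw [sub_self]
    rw [h2, Matrix.mulVec_smul] at h1
    have h3 : (∏ μ ∈ (Finset.univ.image b).erase (b j), (b j - μ)) * (B *ᵥ v) j ≠ 0 := by
      refine mul_ne_zero ?_ hne
      rw [Finset.prod_ne_zero_iff]
      intro μ hμ
      rw [Finset.mem_erase] at hμ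
      rw [sub_ne_zero]
      exact hμ.1.symm
    have h4 := (W.smul_mem_iff h3).1 h1
    exact nonisotropic_of_diag hF hAB hy hb (hJ j hj) (hW _ h4 _ h4)
  have hperp : ∀ j ∈ J, ∀ v ∈ W, hermForm n F q (A *ᵥ Pi.single j 1) v = 0 := by
    intro j hj v hv
    rw [← mulVec_B hAB v, single_sum (A := A) (B *ᵥ v), herm_sum_right hF]
    apply Finset.sum_eq_zero
    intro i _
    rw [herm_smul_right]
    by_cases h : i = j
    · subst h
      rw [key i hj v hv, zero_pow_q hF, zero_mul]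
    · rw [iso_of_diag hF hAB hy hb (Ne.symm (hJ j hj i h)), mul_zero]
  have hB := H950.frm_herm hF n
  set U : Submodule F (Fin n → F) := Submodule.span F (Set.range fun j : J => A *ᵥ Pi.single (j : Fin n) 1) with hU
  have hUcard : finrank F U = J.card := by
    rw [hU, finrank_span_eq_card]
    · simp
    · have h1 : LinearIndependent F (fun j : Fin n => A *ᵥ (Pi.single j 1 : Fin n → F)) := by
        rw [Fintype.linearIndependent_iff]
        intro g hg i
        rw [← single_sum] at hg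
        have h2 := mulVec_A hAB g
        rw [hg, Matrix.mulVec_zero] at h2
        rw [← h2]
        rfl
      exact h1.comp _ Subtype.val_injective
  have hUW : U ≤ hB.perp W := by
    rw [hU, Submodule.span_le]
    rintro _ ⟨j, rfl⟩
    intro w hw
    exact hperp j j.2 w hw
  have hdis : W ⊓ U = ⊥ := by
    rw [eq_bot_iff]
    rintro v ⟨hvW, hvU⟩
    rw [SetLike.mem_coe, hU, Submodule.mem_span_range_iff_exists_fun] at hvU
    obtain ⟨c, hc⟩ := hvU
    have h1 : v = A *ᵥ (fun i => if h : i ∈ J then c ⟨i, h⟩ else 0) := by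
      rw [single_sum, ← hc]
      rw [← Finset.sum_subset (Finset.subset_univ J)]
      · rw [← Finset.sum_coe_sort J]
        apply Finset.sum_congr rfl
        intro j _
        rw [dif_pos j.2]
      · intro i _ hi
        rw [dif_neg hi, zero_smul]
    have h2 : (fun i => if h : i ∈ J then c ⟨i, h⟩ else 0) = 0 := by
      funext i
      by_cases h : i ∈ J
      · have h3 := key i h v hvW
        rw [h1, mulVec_A hAB] at h3
        exact h3
      · simp [h]
    rw [h1, h2, Matrix.mulVec_zero]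
    exact Submodule.zero_mem _
  have h5 := hB.finrank_perp_inf' (H950.nd_top hF n) (le_top (a := W))
  rw [inf_top_eq, finrank_top, finrank_fin_fun] at h5
  have h6 : finrank F ↥(W ⊔ U) ≤ finrank F ↥(hB.perp W) := by
    apply Submodule.finrank_mono
    exact sup_le hW hUW
  have h7 := Submodule.finrank_sup_add_finrank_inf_eq W U
  rw [hdis, finrank_bot] at h7
  omega

end vec

theorem rel_diag {a : Fin n → F} (ha : ∀ i, a i ^ (q + 1) = 1) {x y : SU n F q} (hx : mat x = Matrix.diagonal a)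
    (h : Rel q (mat x) (mat y)) : ∃ (A B : Matrix (Fin n) (Fin n) F) (b : Fin n → F), A * B = 1 ∧
      mat y = A * Matrix.diagonal b * B ∧ (∀ i, b i ^ (q + 1) = 1) ∧ (∀ i j, b i = b j ↔ a i = a j) := by
  obtain ⟨A, B, ρ, c, h1, h2, h3, h4⟩ := h
  have hc : c ≠ 0 := by
    rintro rfl
    rw [zero_pow (Nat.succ_ne_zero q)] at h3
    exact zero_ne_one h3
  refine ⟨A, B, fun i => c * ρ (a i), h1, ?_, fun i => ?_, fun i j => ?_⟩
  · rw [h4, hx, Matrix.diagonal_map (map_zero ρ), ← Matrix.smul_mul, ← Matrix.mul_smul]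
    congr 2
    ext i j
    by_cases h : i = j
    · subst h
      simp
    · simp [h]
  · rw [mul_pow, h3, one_mul, ← map_pow, ha, map_one]
  · rw [mul_right_inj' hc, EmbeddingLike.apply_eq_iff_eq]

/-- **Missing of diagonal elements in stabilizers of totally isotropic subspaces.** -/
theorem miss_diag_iso (hF : Fintype.card F = q ^ 2) {a : Fin n → F} (ha : ∀ i, a i ^ (q + 1) = 1) {x : SU n F q}
    (hx : mat x = Matrix.diagonal a) {J : Finset (Fin n)} (hJ : ∀ j ∈ J, ∀ i, i ≠ j → a i ≠ a j)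
    {W : Submodule F (Fin n → F)} (hW : IsTotallySingularFor (hermForm n F q) W) (hd : n < 2 * finrank F W + J.card)
    {K : Subgroup (GL (Fin n) F)} : Miss' x (subspaceStabilizer W ⊓ K) := by
  intro y hy hm
  obtain ⟨A, B, b, h1, h2, h3, h4⟩ := rel_diag ha hx hy
  have h5 := finrank_of_diag hF h1 h2 h3 (J := J) (fun j hj i hij h => hJ j hj i hij ((h4 i j).1 h))
    (act_of_stab hm) hW
  omega

end Cfsg.Agent.H44.Der
end

-- part: H44/Der/Syl
section
/-!
# Small Sylow subgroups (helper44)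
-/

set_option autoImplicit false

namespace Cfsg.Agent.H44.Der

open Subgroup

variable {G : Type*} [Group G] [Finite G]

omit [Finite G] in
theorem orderOf_cj (g x : G) : orderOf (g * x * g⁻¹) = orderOf x :=
  orderOf_injective (MulAut.conj g).toMonoidHom (MulAut.conj g).injective x

theorem exists_conj_mem {p : ℕ} [Fact p.Prime] (S : Sylow p G) {x : G} {k : ℕ} (hx : orderOf x = p ^ k) :
    ∃ g : G, g * x * g⁻¹ ∈ S := by
  have h1 : IsPGroup p (zpowers x) := IsPGroup.of_card (n := k) (by rw [Nat.card_zpowers, hx])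
  obtain ⟨Q, hQ⟩ := h1.exists_le_sylow
  obtain ⟨g, hg⟩ := MulAction.exists_smul_eq G Q S
  refine ⟨g, ?_⟩
  rw [← hg]
  exact ⟨x, hQ (mem_zpowers x), rfl⟩

/-- two elements of the same prime order in a cyclic group -/
theorem mem_of_cyclic {z s t : G} {n : ℕ} (hs : s ∈ zpowers z) (ht : t ∈ zpowers z) (hos : orderOf s = n)
    (hot : orderOf t = n) : t ∈ zpowers s := by
  have h1 : zpowers (⟨s, hs⟩ : zpowers z) = zpowers ⟨t, ht⟩ := by
    apply OddOrderLocal.CyclicSub.eq_of_card_eq_of_isCyclic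
    rw [Nat.card_zpowers, Nat.card_zpowers, Subgroup.orderOf_mk, Subgroup.orderOf_mk, hos, hot]
  have h2 : (⟨t, ht⟩ : zpowers z) ∈ zpowers (⟨s, hs⟩ : zpowers z) := by
    rw [h1]
    exact mem_zpowers _
  obtain ⟨k, hk⟩ := h2
  exact ⟨k, congrArg Subtype.val hk⟩

theorem card_dvd_of_not {p m : ℕ} [Fact p.Prime] (S : Sylow p G) (h : ¬ p ^ (m + 1) ∣ Nat.card G) :
    Nat.card S ∣ p ^ m := by
  obtain ⟨k, hk⟩ := IsPGroup.iff_card.1 S.2
  have h1 : Nat.card S ∣ Nat.card G := Subgroup.card_subgroup_dvd_card _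
  have h2 : Nat.card S = p ^ k := hk
  rw [h2] at h1 ⊢
  apply pow_dvd_pow
  by_contra hcon
  push Not at hcon
  exact h ((pow_dvd_pow p hcon).trans h1)

theorem zpowers_eq {S : Subgroup G} {x : G} (hx : x ∈ S) (h : Nat.card S ∣ orderOf x) : zpowers x = S := by
  apply Subgroup.eq_of_le_of_card_ge
  · rw [zpowers_le]
    exact hx
  · rw [Nat.card_zpowers]
    exact Nat.le_of_dvd (orderOf_pos x) h

theorem three_cases {s t : G} (h : t ∈ zpowers s) (hs : orderOf s = 3) (ht : orderOf t = 3) : t = s ∨ t = s⁻¹ := by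
  classical
  rw [mem_zpowers_iff_mem_range_orderOf, hs] at h
  simp only [Finset.mem_image, Finset.mem_range] at h
  obtain ⟨k, hk, rfl⟩ := h
  interval_cases k
  · rw [pow_zero, orderOf_one] at ht
    omega
  · left; rw [pow_one]
  · right
    rw [eq_inv_iff_mul_eq_one, ← pow_succ]
    have := pow_orderOf_eq_one s
    rw [hs] at this
    exact this

omit [Finite G] in
theorem isConj_of {x y g h : G} (e : g * x * g⁻¹ = h * y * h⁻¹) : IsConj x y := by
  have h1 : IsConj x (g * x * g⁻¹) := isConj_iff.2 ⟨g, rfl⟩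
  have h2 : IsConj y (h * y * h⁻¹) := isConj_iff.2 ⟨h, rfl⟩
  rw [e] at h1
  exact h1.trans h2.symm

theorem nine_dvd {s t : G} (hs : orderOf s = 3) (ht : orderOf t = 3) (h1 : ¬ IsConj s t) (h2 : ¬ IsConj s⁻¹ t) :
    9 ∣ Nat.card G := by
  by_contra hcon
  have : Fact (Nat.Prime 3) := ⟨Nat.prime_three⟩
  let S : Sylow 3 G := default
  have hS := card_dvd_of_not (m := 1) S (by norm_num; exact hcon)
  obtain ⟨g, hg⟩ := exists_conj_mem S (k := 1) (x := s) (by rw [hs, pow_one])
  obtain ⟨h, hh⟩ := exists_conj_mem S (k := 1) (x := t) (by rw [ht, pow_one])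
  have o1 : orderOf (g * s * g⁻¹) = 3 := by rw [orderOf_cj, hs]
  have o2 : orderOf (h * t * h⁻¹) = 3 := by rw [orderOf_cj, ht]
  have h3 := zpowers_eq (S := (S : Subgroup G)) hg (by rw [o1]; simpa using hS)
  have h4 : h * t * h⁻¹ ∈ zpowers (g * s * g⁻¹) := by rw [h3]; exact hh
  rcases three_cases h4 o1 o2 with h5 | h5
  · exact h1 (isConj_of h5.symm)
  · apply h2
    apply isConj_of (g := g) (h := h)
    rw [h5]
    group

theorem twentyseven_dvd {y s t : G} (hy : orderOf y = 9) (hs : orderOf s = 3) (ht : orderOf t = 3)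
    (h1 : ¬ IsConj s t) (h2 : ¬ IsConj s⁻¹ t) : 27 ∣ Nat.card G := by
  by_contra hcon
  have : Fact (Nat.Prime 3) := ⟨Nat.prime_three⟩
  let S : Sylow 3 G := default
  have hS := card_dvd_of_not (m := 2) S (by norm_num; exact hcon)
  obtain ⟨g, hg⟩ := exists_conj_mem S (k := 1) (x := s) (by rw [hs, pow_one])
  obtain ⟨h, hh⟩ := exists_conj_mem S (k := 1) (x := t) (by rw [ht, pow_one])
  obtain ⟨k, hk⟩ := exists_conj_mem S (k := 2) (x := y) (by rw [hy]; norm_num)
  have o1 : orderOf (g * s * g⁻¹) = 3 := by rw [orderOf_cj, hs]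
  have o2 : orderOf (h * t * h⁻¹) = 3 := by rw [orderOf_cj, ht]
  have o3 : orderOf (k * y * k⁻¹) = 9 := by rw [orderOf_cj, hy]
  have h3 := zpowers_eq (S := (S : Subgroup G)) hk (by rw [o3]; simpa using hS)
  have hg' : g * s * g⁻¹ ∈ zpowers (k * y * k⁻¹) := by rw [h3]; exact hg
  have hh' : h * t * h⁻¹ ∈ zpowers (k * y * k⁻¹) := by rw [h3]; exact hh
  have h4 := mem_of_cyclic hg' hh' o1 o2
  rcases three_cases h4 o1 o2 with h5 | h5
  · exact h1 (isConj_of h5.symm)
  · apply h2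
    apply isConj_of (g := g) (h := h)
    rw [h5]
    group

/-- elements of order 4 with different squares -/
theorem sixteen_dvd {x y : G} (hx : orderOf x = 4) (hy : orderOf y = 4) (h : ¬ IsConj (x ^ 2) (y ^ 2)) :
    16 ∣ Nat.card G := by
  classical
  by_contra hcon
  have : Fact (Nat.Prime 2) := ⟨Nat.prime_two⟩
  let S : Sylow 2 G := default
  have hS := card_dvd_of_not (m := 3) S (by norm_num; exact hcon)
  obtain ⟨g, hg⟩ := exists_conj_mem S (k := 2) (x := x) (by rw [hx]; norm_num)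
  obtain ⟨k, hk⟩ := exists_conj_mem S (k := 2) (x := y) (by rw [hy]; norm_num)
  have o1 : orderOf (g * x * g⁻¹) = 4 := by rw [orderOf_cj, hx]
  have o2 : orderOf (k * y * k⁻¹) = 4 := by rw [orderOf_cj, hy]
  set x' : (S : Subgroup G) := ⟨g * x * g⁻¹, hg⟩ with hx'
  set y' : (S : Subgroup G) := ⟨k * y * k⁻¹, hk⟩ with hy'
  have ox : orderOf x' = 4 := by rw [hx', Subgroup.orderOf_mk, o1]
  have oy : orderOf y' = 4 := by rw [hy', Subgroup.orderOf_mk, o2]
  have h1 := (zpowers x').card_mul_index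
  rw [Nat.card_zpowers, ox] at h1
  have hS8 : Nat.card (S : Subgroup G) ∣ 8 := by simpa using hS
  rw [← h1] at hS8
  have h2 : (zpowers x').index ∣ 2 := by
    have : 4 * (zpowers x').index ∣ 4 * 2 := hS8
    exact Nat.dvd_of_mul_dvd_mul_left (by norm_num) this
  have h3 : y' ^ 2 ∈ zpowers x' := by
    rcases (Nat.dvd_prime Nat.prime_two).1 h2 with h4 | h4
    · rw [Subgroup.index_eq_one.1 h4]
      exact Subgroup.mem_top _
    · have hn := Subgroup.normal_of_index_eq_two h4
      have := (zpowers x').pow_index_mem y'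
      rwa [h4] at this
  have o3 : orderOf (y' ^ 2) = 2 := by rw [orderOf_pow' _ (by norm_num), oy]; rfl
  have o4 : orderOf (x' ^ 2) = 2 := by rw [orderOf_pow' _ (by norm_num), ox]; rfl
  have h5 := mem_of_cyclic (n := 2) ((zpowers x').pow_mem (mem_zpowers x') 2) h3 o4 o3
  have h6 : y' ^ 2 = x' ^ 2 := by
    rw [mem_zpowers_iff_mem_range_orderOf, o4] at h5
    simp only [Finset.mem_image, Finset.mem_range] at h5
    obtain ⟨j, hj, hj'⟩ := h5
    interval_cases j
    · rw [pow_zero] at hj'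
      rw [← hj', orderOf_one] at o3
      omega
    · rw [pow_one] at hj'
      exact hj'.symm
  apply h
  have h7 := congrArg Subtype.val h6
  rw [Subgroup.coe_pow, Subgroup.coe_pow] at h7
  apply isConj_of (g := g) (h := k)
  change (k * y * k⁻¹) ^ 2 = (g * x * g⁻¹) ^ 2 at h7
  rw [conj_pow, conj_pow] at h7
  exact h7.symm

/-- an element of order 8 and an element of order 4 -/
theorem sixteen_dvd' {x y : G} (hx : orderOf x = 8) (hy : orderOf y = 4) (h1 : ¬ IsConj (x ^ 2) y)
    (h2 : ¬ IsConj (x ^ 6) y) : 16 ∣ Nat.card G := by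
  classical
  by_contra hcon
  have : Fact (Nat.Prime 2) := ⟨Nat.prime_two⟩
  let S : Sylow 2 G := default
  have hS := card_dvd_of_not (m := 3) S (by norm_num; exact hcon)
  obtain ⟨g, hg⟩ := exists_conj_mem S (k := 3) (x := x) (by rw [hx]; norm_num)
  obtain ⟨k, hk⟩ := exists_conj_mem S (k := 2) (x := y) (by rw [hy]; norm_num)
  have o1 : orderOf (g * x * g⁻¹) = 8 := by rw [orderOf_cj, hx]
  have o2 : orderOf (k * y * k⁻¹) = 4 := by rw [orderOf_cj, hy]
  have h3 := zpowers_eq (S := (S : Subgroup G)) hg (by rw [o1]; simpa using hS)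
  have h4 : k * y * k⁻¹ ∈ zpowers (g * x * g⁻¹) := by rw [h3]; exact hk
  have o3 : orderOf ((g * x * g⁻¹) ^ 2) = 4 := by rw [orderOf_pow' _ (by norm_num), o1]; rfl
  have h5 := mem_of_cyclic (n := 4) ((zpowers (g * x * g⁻¹)).pow_mem (mem_zpowers _) 2) h4 o3 o2
  rw [mem_zpowers_iff_mem_range_orderOf, o3] at h5
  simp only [Finset.mem_image, Finset.mem_range] at h5
  obtain ⟨j, hj, hj'⟩ := h5
  rw [← pow_mul, conj_pow] at hj'
  interval_cases j
  · simp only [mul_zero, pow_zero] at hj'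
    have : k * y * k⁻¹ = 1 := by rw [← hj']; group
    rw [this, orderOf_one] at o2
    omega
  · exact h1 (isConj_of hj')
  · have h6 : orderOf (g * x ^ (2 * 2) * g⁻¹) = 4 := by rw [hj', o2]
    rw [← conj_pow, orderOf_pow' _ (by norm_num), o1] at h6
    norm_num at h6
  · exact h2 (isConj_of hj')

end Cfsg.Agent.H44.Der
end
end
end

-- part: H587/Der34/Psl34_mg
section
prune_inst 0x10000000000000
set_option linter.all false
open scoped Cfsg.Agent.FastGrp

-- part: H587/Der34/Free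
section
/-!
# Free actions, normalisers of Sylow subgroups of prime order, Frattini (helper587)
-/

set_option autoImplicit false

namespace Cfsg.Agent.H587.Der34

open Subgroup

/-- a free action -/
theorem card_dvd_of_free {A β : Type*} [Group A] [Finite A] [MulAction A β] [Finite β]
    (h : ∀ b : β, MulAction.stabilizer A b = ⊥) : Nat.card A ∣ Nat.card β := by
  have e := MulAction.selfEquivOrbitsQuotientProd h
  rw [Nat.card_congr e, Nat.card_prod]
  exact dvd_mul_left _ _

theorem card_ne_one_subtype {M : Type*} [Group M] [Finite M] : Nat.card {m : M // m ≠ 1} = Nat.card M - 1 := by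
  classical
  have h1 := Nat.card_congr (Equiv.sumCompl (fun m : M => m = 1))
  rw [Nat.card_sum] at h1
  have h2 : Nat.card {m : M // m = 1} = 1 := by
    rw [Nat.card_eq_one_iff_unique]
    exact ⟨⟨fun a b => Subtype.ext (a.2.trans b.2.symm)⟩, ⟨⟨1, rfl⟩⟩⟩
  have h3 : Nat.card {m : M // ¬ m = 1} = Nat.card {m : M // m ≠ 1} := rfl
  omega

section

variable {G : Type*} [Group G]

/-- `A` normalises `M` -/
def Nrm (A M : Subgroup G) : Prop := ∀ a ∈ A, ∀ m ∈ M, a * m * a⁻¹ ∈ M

/-- the action on the nontrivial elements -/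
abbrev actNe {A M : Subgroup G} (h : Nrm A M) : MulAction A {m : M // m ≠ 1} where
  smul a m := ⟨⟨a * (m : M) * (a : G)⁻¹, h a a.2 _ m.1.2⟩, fun h1 => m.2 (by
    have h2 : (a : G) * (m : M) * (a : G)⁻¹ = 1 := congrArg Subtype.val h1
    have h3 : ((m : M) : G) = 1 := by
      have h4 : ((m : M) : G) = (a : G)⁻¹ * ((a : G) * (m : M) * (a : G)⁻¹) * a := by group
      rw [h4, h2]
      group
    exact Subtype.ext h3)⟩
  one_smul m := Subtype.ext (Subtype.ext (by
    show ((1 : A) : G) * (m : M) * ((1 : A) : G)⁻¹ = (m : M)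
    simp only [_root_.OneMemClass.coe_one, _root_.ne_eq, _root_.one_mul, _root_.inv_one, _root_.mul_one]))
  mul_smul a b m := Subtype.ext (Subtype.ext (by
    show ((a * b : A) : G) * (m : M) * ((a * b : A) : G)⁻¹ = (a : G) * ((b : G) * (m : M) * (b : G)⁻¹) * (a : G)⁻¹
    rw [Subgroup.coe_mul]
    group))

/-- a group acting freely on the nontrivial elements of a subgroup -/
theorem dvd_of_conj_free [Finite G] {A M : Subgroup G} (hAM : Nrm A M)
    (hfree : ∀ a ∈ A, ∀ m ∈ M, m ≠ 1 → a * m * a⁻¹ = m → a = 1) : Nat.card A ∣ Nat.card M - 1 := by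
  let _ := actNe hAM
  rw [← card_ne_one_subtype]
  refine card_dvd_of_free fun b => ?_
  rw [eq_bot_iff]
  intro a ha
  have h1 : a • b = b := ha
  have h2 : (a : G) * ((b : M) : G) * (a : G)⁻¹ = (b : M) :=
    congrArg (fun x : {m : M // m ≠ 1} => ((x : M) : G)) h1
  rw [mem_bot]
  exact Subtype.ext (hfree a a.2 _ b.1.2 (fun h3 => b.2 (Subtype.ext h3)) h2)

/-- the number of Sylow subgroups: a subgroup `P` of order `p ^ k` and index prime to `p` -/
theorem index_normalizer_mod [Finite G] {p : ℕ} [hp : Fact p.Prime] {P : Subgroup G} (hP : IsPGroup p P)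
    (hi : ¬ p ∣ P.index) : (normalizer (P : Set G)).index % p = 1 := by
  have h1 := (hP.toSylow hi).card_eq_index_normalizer
  have h2 := card_sylow_modEq_one p G
  rw [h1] at h2
  have h3 : (normalizer (P : Set G)).index ≡ 1 [MOD p] := h2
  rw [Nat.ModEq, Nat.mod_eq_of_lt hp.out.one_lt] at h3
  exact h3

/-- **Burnside**: a complement of a self-centralising Sylow subgroup in its own normaliser -/
theorem exists_complement [Finite G] {p : ℕ} [hp : Fact p.Prime] {P : Subgroup G} (hP : IsPGroup p P)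
    (hi : ¬ p ∣ P.index) (hc : normalizer (P : Set G) ≤ centralizer (P : Set G)) :
    ∃ K : Subgroup G, K.Normal ∧ K.index = Nat.card P := by
  refine ⟨(MonoidHom.transferSylow (hP.toSylow hi) hc).ker, inferInstance, ?_⟩
  exact (MonoidHom.ker_transferSylow_isComplement' (hP.toSylow hi) hc).symm.index_eq_card

/-- **Frattini**: if `K` is normal of index divisible by `p`, then an element of order `p` normalises a
Sylow `q`-subgroup of `K` -/
theorem frattini_elt [Finite G] {p q : ℕ} [hp : Fact p.Prime] [hq : Fact q.Prime] {K : Subgroup G} [K.Normal]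
    (hK : p ∣ K.index) : ∃ (g : G) (Z : Subgroup G), orderOf g = p ∧ Z ≤ K ∧ IsPGroup q Z ∧
      ¬ q ∣ Z.relIndex K ∧ Nrm (zpowers g) Z := by
  obtain ⟨P⟩ : Nonempty (Sylow q K) := inferInstance
  have h1 := P.normalizer_sup_eq_top
  set N := normalizer ((P.map K.subtype : Subgroup G) : Set G) with hN
  have h2 : K.relIndex N = K.index := by
    rw [← relIndex_top_right, ← h1]
    exact (relIndex_sup_right N K).symm
  have h3 : p ∣ Nat.card N := by
    rw [← h2] at hK
    exact hK.trans (relIndex_dvd_card K N)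
  obtain ⟨g, hg⟩ := exists_prime_orderOf_dvd_card' p h3
  refine ⟨g, P.map K.subtype, by rw [orderOf_coe, hg], ?_, P.2.map _, ?_, ?_⟩
  · rintro _ ⟨k, -, rfl⟩
    exact k.2
  · have h4 : (P.map K.subtype : Subgroup G).relIndex K = (P : Subgroup K).index := by
      rw [relIndex, subgroupOf, comap_map_eq_self_of_injective K.subtype_injective]
    rw [h4]
    exact P.not_dvd_index
  · rintro a ha m hm
    have ha' : a ∈ N := (zpowers_le.2 g.2) ha
    exact (mem_normalizer_iff.1 ha' m).1 hm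

/-- the order of the normaliser of a self-centralising subgroup of prime order -/
theorem card_normalizer_dvd [Finite G] {p : ℕ} (hp : p.Prime) {x : G} (hx : orderOf x = p)
    (hc : Nat.card (centralizer ({x} : Set G)) ∣ p) :
    Nat.card (normalizer (zpowers x : Set G)) ∣ p * (p - 1) := by
  have hP : IsCyclic (zpowers x) := inferInstance
  have key := card_dvd_of_injective _ (QuotientGroup.kerLift_injective (zpowers x).normalizerMonoidHom)
  rw [normalizerMonoidHom_ker, ← index, hP.card_mulAut, Nat.card_zpowers, hx, Nat.totient_prime hp] at key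
  rw [← ((centralizer (zpowers x : Set G)).subgroupOf (normalizer (zpowers x : Set G))).card_mul_index]
  refine Nat.mul_dvd_mul ?_ key
  refine Dvd.dvd.trans ?_ hc
  refine card_dvd_of_injective
    (((normalizer (zpowers x : Set G)).subtype.comp
      ((centralizer (zpowers x : Set G)).subgroupOf (normalizer (zpowers x : Set G))).subtype).codRestrict
        (centralizer ({x} : Set G)) fun g => ?_) ?_
  · have hg : ((g : normalizer (zpowers x : Set G)) : G) ∈ centralizer (zpowers x : Set G) := g.2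
    rw [mem_centralizer_singleton_iff]
    exact (mem_centralizer_iff.1 hg x (mem_zpowers x)).symm
  · intro a b hab
    have h1 : ((a : normalizer (zpowers x : Set G)) : G) = ((b : normalizer (zpowers x : Set G)) : G) :=
      congrArg (fun y : centralizer ({x} : Set G) => (y : G)) hab
    exact Subtype.ext (Subtype.ext h1)

end

end Cfsg.Agent.H587.Der34
end

-- part: H587/Der34/Loc
section
/-!
# Groups with the local structure of `L₃(4)`: the orders (helper587)
-/

set_option autoImplicit false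
set_option linter.unusedSectionVars false

namespace Cfsg.Agent.H587.Der34

open Subgroup

/-- local conditions, inherited by subgroups -/
structure Loc (G : Type*) [Group G] : Prop where
  dvd : Nat.card G ∣ 20160
  c3 : ∀ x : G, orderOf x = 3 → Nat.card (centralizer ({x} : Set G)) ∣ 9
  c5 : ∀ x : G, orderOf x = 5 → Nat.card (centralizer ({x} : Set G)) ∣ 5
  c7 : ∀ x : G, orderOf x = 7 → Nat.card (centralizer ({x} : Set G)) ∣ 7
  n5 : ∀ x c : G, orderOf x = 5 → c * x * c⁻¹ ≠ x ^ 2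
  n7 : ∀ x c : G, orderOf x = 7 → c * x * c⁻¹ ≠ x⁻¹
  zq : ∀ Q : Subgroup G, Nat.card Q = 64 → Nat.card (center Q) = 4

theorem card_cent_dvd {G H : Type*} [Group G] [Group H] [Finite H] (f : G →* H) (hf : Function.Injective f) (x : G) :
    Nat.card (centralizer ({x} : Set G)) ∣ Nat.card (centralizer ({f x} : Set H)) := by
  refine card_dvd_of_injective ((f.comp (centralizer ({x} : Set G)).subtype).codRestrict
    (centralizer ({f x} : Set H)) fun g => ?_) fun a b hab => ?_
  · rw [mem_centralizer_singleton_iff]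
    have h1 := mem_centralizer_singleton_iff.1 g.2
    show f g * f x = f x * f g
    rw [← map_mul, ← map_mul, h1]
  · exact Subtype.ext (hf (congrArg (fun y : centralizer ({f x} : Set H) => (y : H)) hab))

theorem Loc.of_injective {G H : Type*} [Group G] [Group H] [Finite H] (h : Loc H) (f : G →* H)
    (hf : Function.Injective f) : Loc G := by
  have ho : ∀ x : G, orderOf (f x) = orderOf x := fun x => orderOf_injective f hf x
  refine ⟨(card_dvd_of_injective f hf).trans h.dvd, fun x hx => (card_cent_dvd f hf x).trans (h.c3 _ (by rw [ho, hx])),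
    fun x hx => (card_cent_dvd f hf x).trans (h.c5 _ (by rw [ho, hx])),
    fun x hx => (card_cent_dvd f hf x).trans (h.c7 _ (by rw [ho, hx])), fun x c hx hc => ?_, fun x c hx hc => ?_,
    fun Q hQ => ?_⟩
  · exact h.n5 (f x) (f c) (by rw [ho, hx]) (by rw [← map_inv, ← map_mul, ← map_mul, hc, map_pow])
  · exact h.n7 (f x) (f c) (by rw [ho, hx]) (by rw [← map_inv, ← map_mul, ← map_mul, hc, map_inv])
  · let e := Q.equivMapOfInjective f hf
    rw [← h.zq (Q.map f) (by rw [← Nat.card_congr e.toEquiv, hQ])]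
    exact Nat.card_congr (Subgroup.centerCongr e).toEquiv

namespace Loc

variable {G : Type*} [Group G] [Finite G] (h : Loc G)

include h

theorem sub (R : Subgroup G) : Loc R := h.of_injective R.subtype R.subtype_injective

theorem comm3 {x y : G} (hx : orderOf x = 3) (hxy : y * x = x * y) : orderOf y ∣ 9 :=
  (orderOf_dvd_natCard _ (mem_centralizer_singleton_iff.2 hxy)).trans (h.c3 x hx)

theorem comm5 {x y : G} (hx : orderOf x = 5) (hxy : y * x = x * y) : orderOf y ∣ 5 :=
  (orderOf_dvd_natCard _ (mem_centralizer_singleton_iff.2 hxy)).trans (h.c5 x hx)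

theorem comm7 {x y : G} (hx : orderOf x = 7) (hxy : y * x = x * y) : orderOf y ∣ 7 :=
  (orderOf_dvd_natCard _ (mem_centralizer_singleton_iff.2 hxy)).trans (h.c7 x hx)

/-- a `3'`-group acting on a `3`-group -/
theorem three_free {A Z : Subgroup G} (hA : Nat.Coprime (Nat.card A) 3) (hZ : IsPGroup 3 Z) (hAZ : Nrm A Z) :
    Nat.card A ∣ Nat.card Z - 1 := by
  refine dvd_of_conj_free hAZ fun a ha m hm hm1 hc => ?_
  -- an element of order 3
  obtain ⟨k, hk⟩ := (IsPGroup.iff_orderOf.1 hZ) ⟨m, hm⟩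
  have hk' : orderOf m = 3 ^ k := by rw [← hk, ← Subgroup.orderOf_coe]
  have hk0 : k ≠ 0 := by
    rintro rfl
    exact hm1 (orderOf_eq_one_iff.1 (by rw [hk', pow_zero]))
  obtain ⟨j, rfl⟩ := Nat.exists_eq_succ_of_ne_zero hk0
  have h3 : orderOf (m ^ 3 ^ j) = 3 := by
    rw [orderOf_pow_of_dvd (by positivity) (by rw [hk']; exact pow_dvd_pow 3 (Nat.le_succ j)), hk', Nat.pow_succ,
      Nat.mul_div_cancel_left _ (by positivity)]
  have h4 : a * m = m * a := by
    have h5 : a * m * a⁻¹ * a = m * a := by rw [hc]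
    rwa [inv_mul_cancel_right] at h5
  have h6 : a * m ^ 3 ^ j = m ^ 3 ^ j * a := ((show Commute a m from h4).pow_right _).eq
  have h7 := h.comm3 h3 h6
  have h8 : orderOf a ∣ Nat.card A := orderOf_dvd_natCard _ ha
  have h9 : Nat.Coprime (orderOf a) 9 := by
    have h10 : Nat.Coprime (orderOf a) 3 := Nat.Coprime.coprime_dvd_left h8 hA
    exact (show (9 : ℕ) = 3 ^ 2 by norm_num) ▸ Nat.Coprime.pow_right 2 h10
  exact orderOf_eq_one_iff.1 (Nat.eq_one_of_dvd_coprimes h9 dvd_rfl h7)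

theorem card_three {Z : Subgroup G} (hZ : IsPGroup 3 Z) (h1 : Z ≠ ⊥) : Nat.card Z = 3 ∨ Nat.card Z = 9 := by
  have := Fact.mk Nat.prime_three
  obtain ⟨k, hk⟩ := IsPGroup.iff_card.1 hZ
  have h2 : 3 ^ k ∣ 20160 := hk ▸ (card_subgroup_dvd_card Z).trans h.dvd
  have h3 : k ≤ 2 := by
    by_contra hcon
    push Not at hcon
    have h4 : 3 ^ 3 ∣ 20160 := (pow_dvd_pow 3 hcon).trans h2
    norm_num at h4
  have h4 : k ≠ 0 := by
    rintro rfl
    rw [pow_zero] at hk
    exact h1 (card_eq_one.1 hk)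
  have h5 : k = 1 ∨ k = 2 := by omega
  rcases h5 with rfl | rfl
  · left; rw [hk]; norm_num
  · right; rw [hk]; norm_num

/-- no element of order 5 or 7 normalises a nontrivial `3`-group -/
theorem no_norm {p : ℕ} (hp : p = 5 ∨ p = 7) {g : G} (hg : orderOf g = p) {Z : Subgroup G} (hZ : IsPGroup 3 Z)
    (h1 : Z ≠ ⊥) (hN : Nrm (zpowers g) Z) : False := by
  have h2 := h.three_free (A := zpowers g) (by rw [Nat.card_zpowers, hg]; rcases hp with rfl | rfl <;> norm_num) hZ hN
  rw [Nat.card_zpowers, hg] at h2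
  rcases hp with rfl | rfl <;> rcases h.card_three hZ h1 with h3 | h3 <;> rw [h3] at h2 <;> norm_num at h2

/-- a normal subgroup of index divisible by 5 or 7 is a `3'`-group -/
theorem no_three {p : ℕ} (hp : p = 5 ∨ p = 7) {K : Subgroup G} [K.Normal] (hK : p ∣ K.index) :
    ¬ 3 ∣ Nat.card K := by
  intro h3
  have := Fact.mk (show p.Prime by rcases hp with rfl | rfl <;> norm_num)
  have := Fact.mk Nat.prime_three
  obtain ⟨g, Z, hg, hZK, hZ, hZi, hN⟩ := frattini_elt (p := p) (q := 3) hK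
  refine h.no_norm hp hg hZ ?_ hN
  rintro rfl
  rw [relIndex_bot_left] at hZi
  exact hZi h3

omit h in
/-- conjugates in `⟨x⟩` -/
theorem conj_pow_lt {x g : G} {p : ℕ} (hx : orderOf x = p) (hg : g ∈ normalizer (zpowers x : Set G)) :
    ∃ k < p, g * x * g⁻¹ = x ^ k := by
  classical
  have h1 : g * x * g⁻¹ ∈ zpowers x := (mem_normalizer_iff.1 hg x).1 (mem_zpowers x)
  rw [mem_zpowers_iff_mem_range_orderOf, Finset.mem_image] at h1
  obtain ⟨k, hk, h2⟩ := h1
  rw [Finset.mem_range, hx] at hk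
  exact ⟨k, hk, h2.symm⟩

omit h in
theorem conj_iter {x g : G} {k : ℕ} (hg : g * x * g⁻¹ = x ^ k) (n : ℕ) : g ^ n * x * (g ^ n)⁻¹ = x ^ k ^ n := by
  induction n with
  | zero => simp
  | succ n ih =>
    have h1 : g ^ (n + 1) * x * (g ^ (n + 1))⁻¹ = g ^ n * (g * x * g⁻¹) * (g ^ n)⁻¹ := by
      rw [pow_succ]; group
    rw [h1, hg, ← conj_pow, ih, ← pow_mul, pow_succ]

/-- the automorphisms induced on a subgroup of order 5 -/
theorem conj_five {x g : G} (hx : orderOf x = 5) (hg : g ∈ normalizer (zpowers x : Set G)) :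
    g * x * g⁻¹ = x ∨ g * x * g⁻¹ = x⁻¹ := by
  obtain ⟨k, hk, h1⟩ := conj_pow_lt hx hg
  have h5 : x ^ 5 = 1 := by rw [← hx]; exact pow_orderOf_eq_one x
  have hx1 : x ≠ 1 := by
    rintro rfl
    rw [orderOf_one] at hx
    norm_num at hx
  interval_cases k
  · exfalso
    rw [pow_zero] at h1
    apply hx1
    have h2 : x = g⁻¹ * (g * x * g⁻¹) * g := by group
    rw [h2, h1]
    group
  · left; rw [h1, pow_one]
  · exact absurd h1 (h.n5 x g hx)
  · exfalso
    have h2 := conj_iter h1 3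
    apply h.n5 x (g ^ 3) hx
    rw [h2, show (3 ^ 3 : ℕ) = 5 * 5 + 2 by norm_num, pow_add, pow_mul, h5, one_pow, one_mul]
  · right
    rw [h1]
    exact eq_inv_of_mul_eq_one_left (by rw [← pow_succ, h5])

theorem norm_five {x : G} (hx : orderOf x = 5) : Nat.card (normalizer (zpowers x : Set G)) ∣ 10 := by
  have h1 := card_normalizer_dvd (by norm_num) hx (h.c5 x hx)
  set N := normalizer (zpowers x : Set G) with hN
  have h4 : ¬ 4 ∣ Nat.card N := by
    intro h4
    have := Fact.mk Nat.prime_two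
    obtain ⟨S, hS⟩ := Sylow.exists_subgroup_card_pow_prime (G := N) 2 (n := 2) (by simpa only [_root_.Nat.reducePow] using h4)
    have hS' : Nat.card S = 4 := by rw [hS]; norm_num
    have hinj : Function.Injective (fun s : S => (⟨((s : N) : G) * x * ((s : N) : G)⁻¹, by
        rcases h.conj_five hx (s : N).2 with h2 | h2
        · rw [h2]; exact Set.mem_insert _ _
        · rw [h2]; exact Set.mem_insert_of_mem _ rfl⟩ : ({x, x⁻¹} : Set G))) := by
      intro s t hst
      have h2 : ((s : N) : G) * x * ((s : N) : G)⁻¹ = ((t : N) : G) * x * ((t : N) : G)⁻¹ :=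
        congrArg (fun y : ({x, x⁻¹} : Set G) => (y : G)) hst
      have h3 : (((t⁻¹ * s : S) : N) : G) * x = x * (((t⁻¹ * s : S) : N) : G) := by
        show ((t : N) : G)⁻¹ * ((s : N) : G) * x = x * (((t : N) : G)⁻¹ * ((s : N) : G))
        have h5 : ((s : N) : G) * x = ((t : N) : G) * x * ((t : N) : G)⁻¹ * ((s : N) : G) := by
          rw [← h2]; group
        rw [mul_assoc, h5]
        group
      have h5 := h.comm5 hx h3
      have h6 : orderOf (((t⁻¹ * s : S) : N) : G) ∣ 4 := by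
        rw [Subgroup.orderOf_coe, Subgroup.orderOf_coe, ← hS']
        exact _root_.orderOf_dvd_natCard _
      have h7 : orderOf (((t⁻¹ * s : S) : N) : G) = 1 := Nat.eq_one_of_dvd_coprimes (by norm_num) h5 h6
      have h8 : t⁻¹ * s = 1 := Subtype.ext (Subtype.ext (orderOf_eq_one_iff.1 h7))
      exact (inv_mul_eq_one.1 h8).symm
    have h2 := Nat.card_le_card_of_injective _ hinj
    rw [hS'] at h2
    have h3 : Nat.card ({x, x⁻¹} : Set G) ≤ 2 := by
      rw [Nat.card_coe_set_eq]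
      exact (Set.ncard_insert_le _ _).trans (by rw [Set.ncard_singleton])
    exact absurd (h2.trans h3) (by norm_num)
  have h5 : 5 * (5 - 1) = 20 := by norm_num
  rw [h5] at h1
  have h6 : ∀ n ∈ Nat.divisors 20, ¬ 4 ∣ n → n ∣ 10 := by decide
  exact h6 _ (Nat.mem_divisors.2 ⟨h1, by norm_num⟩) h4

theorem norm_seven {x : G} (hx : orderOf x = 7) : Nat.card (normalizer (zpowers x : Set G)) ∣ 21 := by
  have h1 := card_normalizer_dvd (by norm_num) hx (h.c7 x hx)
  set N := normalizer (zpowers x : Set G) with hN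
  have h7 : x ^ 7 = 1 := by rw [← hx]; exact pow_orderOf_eq_one x
  have h4 : ¬ 2 ∣ Nat.card N := by
    intro h4
    have := Fact.mk Nat.prime_two
    obtain ⟨s, hs⟩ := exists_prime_orderOf_dvd_card' 2 h4
    have hs' : orderOf (s : G) = 2 := by rw [Subgroup.orderOf_coe, hs]
    obtain ⟨k, hk, h2⟩ := conj_pow_lt hx s.2
    have h3 := conj_iter h2 2
    have h5 : (s : G) ^ 2 = 1 := by rw [← hs']; exact pow_orderOf_eq_one _
    rw [h5] at h3
    have h6 : x ^ k ^ 2 = x ^ 1 := by rw [← h3]; group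
    rw [pow_inj_mod, hx] at h6
    have h8 : k = 1 ∨ k = 6 := by
      interval_cases k <;> norm_num at h6 <;> norm_num
    rcases h8 with rfl | rfl
    · have h9 : (s : G) * x = x * (s : G) := by
        rw [pow_one] at h2
        have : (s : G) * x * (s : G)⁻¹ * s = x * s := by rw [h2]
        rwa [inv_mul_cancel_right] at this
      have h10 := h.comm7 hx h9
      rw [hs'] at h10
      norm_num at h10
    · apply h.n7 x s hx
      rw [h2]
      exact eq_inv_of_mul_eq_one_left (by rw [← pow_succ, h7])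
  have h5 : 7 * (7 - 1) = 42 := by norm_num
  rw [h5] at h1
  have h6 : ∀ n ∈ Nat.divisors 42, ¬ 2 ∣ n → n ∣ 21 := by decide
  exact h6 _ (Nat.mem_divisors.2 ⟨h1, by norm_num⟩) h4

end Loc

end Cfsg.Agent.H587.Der34
end

-- part: H587/Der34/Ord
section
/-!
# Groups with the local structure of `L₃(4)`: the possible orders (helper587)
-/

set_option autoImplicit false
set_option linter.unusedSectionVars false

namespace Cfsg.Agent.H587.Der34

open Subgroup

namespace Loc

variable {G : Type*} [Group G] [Finite G] (h : Loc G)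

include h

theorem not_dvd_index {p k : ℕ} (hk : ¬ p * k ∣ 20160) {P : Subgroup G} (hP : Nat.card P = k) : ¬ p ∣ P.index := by
  intro h1
  apply hk
  refine Dvd.dvd.trans ?_ h.dvd
  rw [← P.card_mul_index, hP, mul_comm]
  exact Nat.mul_dvd_mul_left _ h1

/-- a cyclic subgroup of prime order which is its own normaliser has a normal complement -/
theorem compl_of_norm {p : ℕ} (hp : p.Prime) (hk : ¬ p * p ∣ 20160) {x : G} (hx : orderOf x = p)
    (hn : Nat.card (normalizer (zpowers x : Set G)) = p) : ∃ K : Subgroup G, K.Normal ∧ K.index = p := by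
  have := Fact.mk hp
  have h1 : Nat.card (zpowers x) = p := by rw [Nat.card_zpowers, hx]
  have h2 : IsPGroup p (zpowers x) := IsPGroup.of_card (n := 1) (by rw [h1, pow_one])
  have h3 : (zpowers x : Subgroup G) = normalizer (zpowers x : Set G) :=
    Subgroup.eq_of_le_of_card_ge le_normalizer (by rw [h1, hn])
  obtain ⟨K, hK, hKi⟩ := exists_complement h2 (h.not_dvd_index hk h1) (by
    intro g hg
    rw [← h3] at hg
    rw [mem_centralizer_iff]
    intro y hy
    obtain ⟨i, rfl⟩ := mem_zpowers_iff.1 hg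
    obtain ⟨j, rfl⟩ := mem_zpowers_iff.1 hy
    rw [← zpow_add, ← zpow_add, add_comm])
  exact ⟨K, hK, by rw [hKi, h1]⟩

/-- **orders divisible by 5** -/
theorem five (h5 : 5 ∣ Nat.card G) (h7 : ¬ 7 ∣ Nat.card G) :
    Nat.card G ∈ ({5, 10, 80, 160, 60, 360, 960} : Finset ℕ) := by
  have := Fact.mk Nat.prime_five
  obtain ⟨x, hx⟩ := exists_prime_orderOf_dvd_card' 5 h5
  have h1 : Nat.card (zpowers x) = 5 := by rw [Nat.card_zpowers, hx]
  have hP : IsPGroup 5 (zpowers x) := IsPGroup.of_card (n := 1) (by rw [h1, pow_one])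
  have hi := h.not_dvd_index (p := 5) (by norm_num) h1
  have hmod := index_normalizer_mod hP hi
  have hN := h.norm_five hx
  have h5N : 5 ∣ Nat.card (normalizer (zpowers x : Set G)) := by
    rw [← h1]; exact card_dvd_of_le le_normalizer
  have hmul := (normalizer (zpowers x : Set G)).card_mul_index
  have hcop : Nat.card G ∣ 2880 := by
    have h2 : Nat.card G ∣ 7 * 2880 := by have := h.dvd; norm_num only []; exact this
    exact (Nat.Coprime.dvd_of_dvd_mul_left (((Nat.Prime.coprime_iff_not_dvd (by norm_num)).2 h7).symm) h2)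
  have hcases : Nat.card (normalizer (zpowers x : Set G)) = 5 ∨ Nat.card (normalizer (zpowers x : Set G)) = 10 := by
    have h6 : ∀ n ∈ Nat.divisors 10, 5 ∣ n → n = 5 ∨ n = 10 := by decide
    exact h6 _ (Nat.mem_divisors.2 ⟨hN, by norm_num⟩) h5N
  rcases hcases with hc | hc
  · obtain ⟨K, hK, hKi⟩ := h.compl_of_norm (by norm_num) (by norm_num) hx hc
    have h3 := h.no_three (Or.inl rfl) (K := K) (by rw [hKi])
    have h4 := K.card_mul_index
    rw [hKi] at h4
    rw [hc] at hmul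
    have h6 : Nat.card K ∣ 576 := by
      rw [← h4] at hcop
      exact Nat.dvd_of_mul_dvd_mul_right (k := 5) (by norm_num) (by norm_num only []; exact hcop)
    have h8 : Nat.card K ∣ 64 := by
      have h9 : Nat.card K ∣ 9 * 64 := by norm_num only []; exact h6
      refine Nat.Coprime.dvd_of_dvd_mul_left ?_ h9
      exact (show (9 : ℕ) = 3 ^ 2 by norm_num) ▸
        Nat.Coprime.pow_right 2 (((Nat.Prime.coprime_iff_not_dvd (by norm_num)).2 h3).symm)
    have h10 : Nat.card K = (normalizer (zpowers x : Set G)).index := by (clear * - hmul h4; omega)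
    rw [← h10] at hmod
    have h11 : ∀ n ∈ Nat.divisors 64, n % 5 = 1 → n * 5 ∈ ({5, 10, 80, 160, 60, 360, 960} : Finset ℕ) := by decide
    rw [← h4]
    exact h11 _ (Nat.mem_divisors.2 ⟨h8, by norm_num⟩) hmod
  · rw [hc] at hmul
    rw [← hmul] at hcop ⊢
    have h6 : (normalizer (zpowers x : Set G)).index ∣ 288 :=
      Nat.dvd_of_mul_dvd_mul_left (k := 10) (by norm_num) (by norm_num; exact hcop)
    have h11 : ∀ n < 289, n ∣ 288 → n % 5 = 1 → 10 * n ∈ ({5, 10, 80, 160, 60, 360, 960} : Finset ℕ) := by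
      decide +kernel
    exact h11 _ (by have := Nat.le_of_dvd (by norm_num) h6; omega) h6 hmod

/-- the centre of a normal subgroup of order 64 is not normalised freely -/
theorem no_center {A Q : Subgroup G} [Q.Normal] (hQ : Nat.card Q = 64) (hA : ¬ Nat.card A ∣ 3)
    (hfree : ∀ a ∈ A, ∀ m : G, orderOf m ∣ 4 → m ≠ 1 → a * m = m * a → a = 1) : False := by
  apply hA
  have h1 := h.zq Q hQ
  have h2 : Nat.card ((center Q).map Q.subtype) = 4 := by
    rw [← h1]
    exact Nat.card_congr ((center Q).equivMapOfInjective _ Q.subtype_injective).symm.toEquiv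
  have h3 : Nat.card A ∣ Nat.card ((center Q).map Q.subtype) - 1 := by
    refine dvd_of_conj_free ?_ fun a ha m hm hm1 hc => ?_
    · rintro a - _ ⟨z, hz, rfl⟩
      have h4 := mem_center_iff.1 hz
      refine ⟨⟨a * (z : G) * a⁻¹, (inferInstance : Q.Normal).conj_mem _ z.2 a⟩, ?_, rfl⟩
      show _ ∈ center Q
      rw [mem_center_iff]
      intro w
      apply Subtype.ext
      have h5 := congrArg Subtype.val (h4 ⟨a⁻¹ * (w : G) * a⁻¹⁻¹, (inferInstance : Q.Normal).conj_mem _ w.2 a⁻¹⟩)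
      have h6 : a⁻¹ * (w : G) * a⁻¹⁻¹ * (z : G) = (z : G) * (a⁻¹ * (w : G) * a⁻¹⁻¹) := h5
      show (w : G) * (a * (z : G) * a⁻¹) = a * (z : G) * a⁻¹ * (w : G)
      have h7 : (w : G) * (a * (z : G) * a⁻¹) = a * (a⁻¹ * (w : G) * a⁻¹⁻¹ * (z : G)) * a⁻¹ := by group
      rw [h7, h6]
      group
    · refine hfree a ha m ?_ hm1 ?_
      · rw [← h2]
        exact orderOf_dvd_natCard _ hm
      · have h5 : a * m * a⁻¹ * a = m * a := by rw [hc]
        rwa [inv_mul_cancel_right] at h5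
  rwa [h2] at h3

theorem seven_aux (h7 : 7 ∣ Nat.card G) (h5 : ¬ 5 ∣ Nat.card G) :
    Nat.card G ∈ ({7, 21, 56, 168, 1344} : Finset ℕ) := by
  have := Fact.mk (show (7 : ℕ).Prime by norm_num)
  obtain ⟨x, hx⟩ := exists_prime_orderOf_dvd_card' 7 h7
  have h1 : Nat.card (zpowers x) = 7 := by rw [Nat.card_zpowers, hx]
  have hP : IsPGroup 7 (zpowers x) := IsPGroup.of_card (n := 1) (by rw [h1, pow_one])
  have hi := h.not_dvd_index (p := 7) (by norm_num) h1
  have hmod := index_normalizer_mod hP hi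
  have hN := h.norm_seven hx
  have h7N : 7 ∣ Nat.card (normalizer (zpowers x : Set G)) := by
    rw [← h1]; exact card_dvd_of_le le_normalizer
  have hmul := (normalizer (zpowers x : Set G)).card_mul_index
  have hcop : Nat.card G ∣ 4032 := by
    have h2 : Nat.card G ∣ 5 * 4032 := by have := h.dvd; norm_num only []; exact this
    exact (Nat.Coprime.dvd_of_dvd_mul_left (((Nat.Prime.coprime_iff_not_dvd (by norm_num)).2 h5).symm) h2)
  have hcases : Nat.card (normalizer (zpowers x : Set G)) = 7 ∨ Nat.card (normalizer (zpowers x : Set G)) = 21 := by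
    have h6 : ∀ n ∈ Nat.divisors 21, 7 ∣ n → n = 7 ∨ n = 21 := by decide
    exact h6 _ (Nat.mem_divisors.2 ⟨hN, by norm_num⟩) h7N
  rcases hcases with hc | hc
  · obtain ⟨K, hK, hKi⟩ := h.compl_of_norm (by norm_num) (by norm_num) hx hc
    have h3 := h.no_three (Or.inr rfl) (K := K) (by rw [hKi])
    have h4 := K.card_mul_index
    rw [hKi] at h4
    rw [hc] at hmul
    have h6 : Nat.card K ∣ 576 := by
      rw [← h4] at hcop
      exact Nat.dvd_of_mul_dvd_mul_right (k := 7) (by norm_num) (by norm_num only []; exact hcop)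
    have h8 : Nat.card K ∣ 64 := by
      have h9 : Nat.card K ∣ 9 * 64 := by norm_num only []; exact h6
      refine Nat.Coprime.dvd_of_dvd_mul_left ?_ h9
      exact (show (9 : ℕ) = 3 ^ 2 by norm_num) ▸
        Nat.Coprime.pow_right 2 (((Nat.Prime.coprime_iff_not_dvd (by norm_num)).2 h3).symm)
    have h10 : Nat.card K = (normalizer (zpowers x : Set G)).index := by (clear * - hmul h4; omega)
    rw [← h10] at hmod
    by_cases h64 : Nat.card K = 64
    · exfalso
      refine h.no_center (A := zpowers x) (Q := K) h64 (by rw [h1]; norm_num) fun a ha m hm hm1 hc => ?_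
      by_contra ha1
      have h12 : orderOf a = 7 := by
        have h13 : orderOf a ∣ 7 := h1 ▸ orderOf_dvd_natCard _ ha
        exact ((Nat.dvd_prime (by norm_num)).1 h13).resolve_left fun h14 => ha1 (orderOf_eq_one_iff.1 h14)
      have h13 := h.comm7 h12 (y := m) hc.symm
      exact hm1 (orderOf_eq_one_iff.1 (Nat.eq_one_of_dvd_coprimes (by norm_num) h13 hm))
    · have h11 : ∀ n ∈ Nat.divisors 64, n % 7 = 1 → n ≠ 64 → n * 7 ∈ ({7, 21, 56, 168, 1344} : Finset ℕ) := by
        decide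
      rw [← h4]
      exact h11 _ (Nat.mem_divisors.2 ⟨h8, by norm_num⟩) hmod h64
  · rw [hc] at hmul
    rw [← hmul] at hcop ⊢
    have h6 : (normalizer (zpowers x : Set G)).index ∣ 192 :=
      Nat.dvd_of_mul_dvd_mul_left (k := 21) (by norm_num) (by norm_num; exact hcop)
    have h11 : ∀ n < 193, n ∣ 192 → n % 7 = 1 → 21 * n ∈ ({7, 21, 56, 168, 1344} : Finset ℕ) := by
      decide +kernel
    exact h11 _ (by have := Nat.le_of_dvd (by norm_num) h6; omega) h6 hmod

/-- **orders divisible by 7** -/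
theorem seven (h7 : 7 ∣ Nat.card G) (h5 : ¬ 5 ∣ Nat.card G) :
    Nat.card G ∈ ({7, 21, 56, 168} : Finset ℕ) := by
  have h1 := h.seven_aux h7 h5
  by_cases h2 : Nat.card G = 1344
  · exfalso
    have := Fact.mk Nat.prime_three
    obtain ⟨z, hz⟩ := exists_prime_orderOf_dvd_card' (G := G) 3 (by rw [h2]; norm_num)
    have h3 : Nat.card (zpowers z) = 3 := by rw [Nat.card_zpowers, hz]
    have hP : IsPGroup 3 (zpowers z) := IsPGroup.of_card (n := 1) (by rw [h3, pow_one])
    have hi : ¬ 3 ∣ (zpowers z).index := by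
      have h4 := (zpowers z).card_mul_index
      rw [h3, h2] at h4
      have h6 : (zpowers z).index = 448 := by omega
      rw [h6]
      norm_num
    have hmod := index_normalizer_mod hP hi
    have hc : Nat.card (centralizer ({z} : Set G)) ∣ 3 := by
      have h4 := h.c3 z hz
      have h6 : Nat.card (centralizer ({z} : Set G)) ∣ 1344 := h2 ▸ card_subgroup_dvd_card _
      have h8 := Nat.dvd_gcd h4 h6
      norm_num only [] at h8
      exact h8
    have hN := card_normalizer_dvd (by norm_num) hz hc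
    have h3N : 3 ∣ Nat.card (normalizer (zpowers z : Set G)) := by
      rw [← h3]; exact card_dvd_of_le le_normalizer
    have hmul := (normalizer (zpowers z : Set G)).card_mul_index
    have hcases : Nat.card (normalizer (zpowers z : Set G)) = 3 ∨ Nat.card (normalizer (zpowers z : Set G)) = 6 := by
      have h6 : ∀ n ∈ Nat.divisors 6, 3 ∣ n → n = 3 ∨ n = 6 := by decide
      exact h6 _ (Nat.mem_divisors.2 ⟨by simpa only [_root_.Nat.add_one_sub_one, _root_.Nat.reduceMul] using hN, by norm_num⟩) h3N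
    rcases hcases with h4 | h4
    · have h6 : zpowers z = normalizer (zpowers z : Set G) :=
        Subgroup.eq_of_le_of_card_ge le_normalizer (by rw [h3, h4])
      obtain ⟨K, hK, hKi⟩ := exists_complement hP hi (by
        intro g hg
        rw [← h6] at hg
        rw [mem_centralizer_iff]
        intro y hy
        obtain ⟨i, rfl⟩ := mem_zpowers_iff.1 hg
        obtain ⟨j, rfl⟩ := mem_zpowers_iff.1 hy
        rw [← zpow_add, ← zpow_add, add_comm])
      have h8 := K.card_mul_index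
      rw [hKi, h3, h2] at h8
      have h9 : Nat.card K = 448 := by omega
      have h10 := (h.sub K).seven_aux (by rw [h9]; norm_num) (by rw [h9]; norm_num)
      rw [h9] at h10
      revert h10
      decide
    · rw [h4, h2] at hmul
      have h6 : (normalizer (zpowers z : Set G)).index = 224 := by omega
      rw [h6] at hmod
      norm_num at hmod
  · have h3 : ∀ n ∈ ({7, 21, 56, 168, 1344} : Finset ℕ), n ≠ 1344 → n ∈ ({7, 21, 56, 168} : Finset ℕ) := by decide
    exact h3 _ h1 h2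

end Loc

end Cfsg.Agent.H587.Der34
end

-- part: H587/Der34/Nine
section
/-!
# Groups with the local structure of `L₃(4)`: `{2, 3}`-groups (helper587)
-/

set_option autoImplicit false
set_option linter.unusedSectionVars false

namespace Cfsg.Agent.H587.Der34

open Subgroup

theorem card_ne_subtype {α : Type*} [Finite α] (a : α) : Nat.card {m : α // m ≠ a} = Nat.card α - 1 := by
  classical
  have h1 := Nat.card_congr (Equiv.sumCompl (fun m : α => m = a))
  rw [Nat.card_sum] at h1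
  have h2 : Nat.card {m : α // m = a} = 1 := by
    rw [Nat.card_eq_one_iff_unique]
    exact ⟨⟨fun a b => Subtype.ext (a.2.trans b.2.symm)⟩, ⟨⟨a, rfl⟩⟩⟩
  have h3 : Nat.card {m : α // ¬ m = a} = Nat.card {m : α // m ≠ a} := rfl
  omega

namespace Loc

variable {G : Type*} [Group G] [Finite G] (h : Loc G)

include h

/-- a group of order 9 containing an element of order 3 is its centralizer -/
theorem eq_cent {P : Subgroup G} (hP : Nat.card P = 9) {z : G} (hz : orderOf z = 3) (hzP : z ∈ P) :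
    P = centralizer ({z} : Set G) := by
  have := Fact.mk Nat.prime_three
  apply Subgroup.eq_of_le_of_card_ge
  · intro g hg
    rw [mem_centralizer_singleton_iff]
    have h1 : ∀ a b : P, a * b = b * a := by
      have h2 := IsPGroup.isMulCommutative_of_card_eq_prime_sq (p := 3) (G := P) (by rw [hP]; norm_num)
      exact h2.is_comm.comm
    exact congrArg Subtype.val (h1 ⟨g, hg⟩ ⟨z, hzP⟩)
  · rw [hP]
    exact Nat.le_of_dvd (by norm_num) (h.c3 z hz)

/-- two groups of order 9 with a common nontrivial element -/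
theorem eq_of_common {P Q : Subgroup G} (hP : Nat.card P = 9) (hQ : Nat.card Q = 9) {a : G} (ha : a ≠ 1) (haP : a ∈ P)
    (haQ : a ∈ Q) : P = Q := by
  have h1 : orderOf a ∣ 9 := hP ▸ orderOf_dvd_natCard _ haP
  have h2 : 3 ∣ orderOf a := by
    have h3 : ∀ n ∈ Nat.divisors 9, n ≠ 1 → 3 ∣ n := by decide
    exact h3 _ (Nat.mem_divisors.2 ⟨h1, by norm_num⟩) fun h4 => ha (orderOf_eq_one_iff.1 h4)
  have h3 : orderOf (a ^ (orderOf a / 3)) = 3 := orderOf_pow_orderOf_div (orderOf_pos a).ne' h2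
  rw [h.eq_cent hP h3 (pow_mem haP _), h.eq_cent hQ h3 (pow_mem haQ _)]

/-- the number of Sylow 3-subgroups is 1 modulo 9 -/
theorem sylow_nine (P : Sylow 3 G) (hP : Nat.card P = 9) : 9 ∣ Nat.card (Sylow 3 G) - 1 := by
  have := Fact.mk Nat.prime_three
  have hst : ∀ a : P, (a : G) • P = P := fun a => Sylow.smul_eq_iff_mem_normalizer.2 (le_normalizer a.2)
  let _ : MulAction P {Q : Sylow 3 G // Q ≠ P} :=
    { smul := fun a Q => ⟨(a : G) • Q.1, fun h1 => Q.2 (by
        have h2 : (a : G)⁻¹ • (a : G) • Q.1 = (a : G)⁻¹ • P := by rw [h1]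
        rw [inv_smul_smul] at h2
        rw [h2]
        exact hst a⁻¹)⟩
      one_smul := fun Q => Subtype.ext (one_smul G Q.1)
      mul_smul := fun a b Q => Subtype.ext (mul_smul (a : G) (b : G) Q.1) }
  rw [← card_ne_subtype P, ← hP]
  refine card_dvd_of_free fun Q => ?_
  rw [eq_bot_iff]
  intro a ha
  rw [mem_bot]
  by_contra ha1
  have h1 : (a : G) • Q.1 = Q.1 := congrArg Subtype.val (show a • Q = Q from ha)
  have h2 : (a : G) ∈ (P : Subgroup G) ⊓ normalizer (Q.1 : Set G) :=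
    ⟨a.2, Sylow.smul_eq_iff_mem_normalizer.1 h1⟩
  rw [P.2.inf_normalizer_sylow Q.1] at h2
  have h3 : Nat.card (Q.1 : Subgroup G) = 9 := by
    rw [← hP]
    exact Nat.card_congr (Sylow.equiv Q.1 P).toEquiv
  apply Q.2
  exact (Sylow.ext (h.eq_of_common hP h3 (fun h4 => ha1 (Subtype.ext h4)) a.2 h2.2)).symm

/-- **`{2, 3}`-groups of order divisible by 9** -/
theorem nine (h9 : 9 ∣ Nat.card G) (h5 : ¬ 5 ∣ Nat.card G) (h7 : ¬ 7 ∣ Nat.card G) :
    (∃ P : Subgroup G, P.Normal ∧ Nat.card P = 9) ∧ Nat.card G ∣ 72 := by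
  have := Fact.mk Nat.prime_three
  have hd : Nat.card G ∣ 576 := by
    have h2 : Nat.card G ∣ 35 * 576 := by have := h.dvd; norm_num; exact this
    refine Nat.Coprime.dvd_of_dvd_mul_left ?_ h2
    rw [show (35 : ℕ) = 5 * 7 by norm_num]
    exact Nat.Coprime.mul_right ((Nat.Prime.coprime_iff_not_dvd (by norm_num)).2 h5).symm
      ((Nat.Prime.coprime_iff_not_dvd (by norm_num)).2 h7).symm
  obtain ⟨P⟩ : Nonempty (Sylow 3 G) := inferInstance
  have hP : Nat.card P = 9 := by
    have h1 : 3 ^ 2 ∣ Nat.card P := P.pow_dvd_card_of_pow_dvd_card (by norm_num; exact h9)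
    rcases h.card_three P.2 (by
      intro hb
      rw [hb, card_bot] at h1
      norm_num at h1) with h2 | h2
    · rw [h2] at h1; norm_num at h1
    · exact h2
  have h1 := h.sylow_nine P hP
  have h2 := P.card_eq_index_normalizer
  have hmul := (normalizer (P : Set G)).card_mul_index
  have h9N : 9 ∣ Nat.card (normalizer (P : Set G)) := by
    rw [← hP]; exact card_dvd_of_le le_normalizer
  rw [h2] at h1
  obtain ⟨c, hc⟩ := h9N
  have h64 : c * (normalizer (P : Set G)).index ∣ 64 := by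
    rw [← hmul, hc, mul_assoc] at hd
    exact Nat.dvd_of_mul_dvd_mul_left (k := 9) (by norm_num) (by norm_num only []; exact hd)
  have hidx : (normalizer (P : Set G)).index ∣ 64 := (dvd_mul_left _ _).trans h64
  have hcase : (normalizer (P : Set G)).index = 1 ∨ (normalizer (P : Set G)).index = 64 := by
    have h3 : ∀ n ∈ Nat.divisors 64, 9 ∣ n - 1 → n = 1 ∨ n = 64 := by decide
    exact h3 _ (Nat.mem_divisors.2 ⟨hidx, by norm_num⟩) h1
  rcases hcase with h3 | h3
  · have h4 : normalizer (P : Set G) = ⊤ := index_eq_one.1 h3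
    have hPn : (P : Subgroup G).Normal := normalizer_eq_top_iff.1 h4
    refine ⟨⟨P, hPn, hP⟩, ?_⟩
    have hc' : Nat.card G = 9 * c := by rw [← hmul, h3, mul_one, hc]
    have := Fact.mk Nat.prime_two
    obtain ⟨A⟩ : Nonempty (Sylow 2 G) := inferInstance
    -- the Sylow 2-subgroup has order `c`
    have hc64 : c ∣ 64 := (dvd_mul_right _ _).trans h64
    obtain ⟨k, hk⟩ := (Nat.dvd_prime_pow Nat.prime_two).1 (show c ∣ 2 ^ 6 by norm_num; exact hc64)
    have hA1 : 2 ^ k ∣ Nat.card A := A.pow_dvd_card_of_pow_dvd_card (by rw [hc', hk.2]; exact dvd_mul_left _ _)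
    have hA3 : Nat.Coprime (Nat.card A) 3 := by
      obtain ⟨m, hm⟩ := IsPGroup.iff_card.1 A.2
      rw [hm]
      exact Nat.Coprime.pow_left m (by norm_num)
    have hA2 := h.three_free (A := (A : Subgroup G)) (Z := (P : Subgroup G)) hA3 P.2
      fun a _ m hm => hPn.conj_mem m hm a
    rw [hP] at hA2
    have h6 : c ∣ 8 := by
      rw [hk.2]
      exact hA1.trans hA2
    rw [hc', show (72 : ℕ) = 9 * 8 by norm_num]
    exact Nat.mul_dvd_mul_left _ h6
  · exfalso
    rw [h3] at h64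
    have hc1 : c = 1 := by
      have h4 : c * 64 ∣ 1 * 64 := by simpa using h64
      exact Nat.dvd_one.1 (Nat.dvd_of_mul_dvd_mul_right (by norm_num) h4)
    rw [hc1, mul_one] at hc
    have h4 : (P : Subgroup G) = normalizer (P : Set G) :=
      Subgroup.eq_of_le_of_card_ge le_normalizer (by rw [hc, hP])
    have hcomm : ∀ a b : P, a * b = b * a := by
      have h2 := IsPGroup.isMulCommutative_of_card_eq_prime_sq (p := 3) (G := P) (by rw [hP]; norm_num)
      exact h2.is_comm.comm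
    have hidx3 : ¬ 3 ∣ (P : Subgroup G).index := P.not_dvd_index
    obtain ⟨K, hK, hKi⟩ := exists_complement P.2 hidx3 (by
      intro g hg
      have hg' : g ∈ (P : Subgroup G) := by rw [h4]; exact hg
      rw [mem_centralizer_iff]
      intro y hy
      exact (congrArg Subtype.val (hcomm ⟨g, hg'⟩ ⟨y, hy⟩)).symm)
    have hKc : Nat.card K = 64 := by
      have h6 := K.card_mul_index
      rw [hKi] at h6
      rw [h3, hc] at hmul
      have h7 : Nat.card (P : Subgroup G) = 9 := hP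
      rw [h7] at h6
      omega
    refine h.no_center (A := (P : Subgroup G)) (Q := K) hKc (by
      have h7 : Nat.card (P : Subgroup G) = 9 := hP
      rw [h7]; norm_num) fun a ha m hm hm1 hc' => ?_
    by_contra ha1
    have h8 : orderOf a ∣ 9 := by
      have h9 := orderOf_dvd_natCard (P : Subgroup G) ha
      have h7 : Nat.card (P : Subgroup G) = 9 := hP
      rwa [h7] at h9
    have h9 : 3 ∣ orderOf a := by
      have h3 : ∀ n ∈ Nat.divisors 9, n ≠ 1 → 3 ∣ n := by decide
      exact h3 _ (Nat.mem_divisors.2 ⟨h8, by norm_num⟩) fun h4 => ha1 (orderOf_eq_one_iff.1 h4)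
    have h10 : orderOf (a ^ (orderOf a / 3)) = 3 := orderOf_pow_orderOf_div (orderOf_pos a).ne' h9
    have h11 := h.comm3 h10 (y := m) (((show Commute a m from hc').pow_left _).eq).symm
    exact hm1 (orderOf_eq_one_iff.1 (Nat.eq_one_of_dvd_coprimes (by norm_num) h11 hm))

end Loc

end Cfsg.Agent.H587.Der34
end

-- part: H587/Der34/Orb
section
/-!
# Subgroups of index 5 (helper587)
-/

set_option autoImplicit false
set_option linter.unusedSectionVars false

namespace Cfsg.Agent.H587.Der34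

open Subgroup

namespace Loc

variable {G : Type*} [Group G] [Finite G] (h : Loc G)

include h

theorem not_fix {H : Subgroup G} (hi : H.index = 5) (h3 : 3 ∣ Nat.card H) {t : G} (ht : t ∉ H)
    (hc : ∀ r ∈ H, t⁻¹ * r * t ∈ H) : False := by
  have h1 : H.map (MulAut.conj t⁻¹).toMonoidHom = H := by
    apply Subgroup.eq_of_le_of_card_ge
    · rintro _ ⟨r, hr, rfl⟩
      have h2 := hc r hr
      simpa only [_root_.map_inv, _root_.MulEquiv.toMonoidHom_eq_coe, _root_.MonoidHom.coe_coe, _root_.MulAut.inv_apply, _root_.MulAut.conj_symm_apply] using h2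
    · rw [Nat.card_congr (H.equivMapOfInjective (MulAut.conj t⁻¹).toMonoidHom (MulAut.conj t⁻¹).injective).toEquiv]
  have h2 : t⁻¹ ∈ normalizer (H : Set G) := by
    rw [mem_normalizer_iff]
    intro x
    constructor
    · intro hx
      rw [← h1]
      exact ⟨x, hx, by simp only [_root_.map_inv, _root_.MulEquiv.toMonoidHom_eq_coe, _root_.MonoidHom.coe_coe, _root_.MulAut.inv_apply, _root_.MulAut.conj_symm_apply, _root_.inv_inv]⟩
    · intro hx
      rw [← h1] at hx
      obtain ⟨y, hy, hyx⟩ := hx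
      have h3 : t⁻¹ * y * t⁻¹⁻¹ = t⁻¹ * x * t⁻¹⁻¹ := by simpa only [_root_.inv_inv, _root_.mul_left_inj, _root_.mul_right_inj, _root_.map_inv, _root_.MulEquiv.toMonoidHom_eq_coe, _root_.MonoidHom.coe_coe, _root_.MulAut.inv_apply, _root_.MulAut.conj_symm_apply] using hyx
      have h4 : y = x := by
        have := mul_right_cancel h3
        exact mul_left_cancel this
      rwa [h4] at hy
  have h3' : H.index = H.relIndex (normalizer (H : Set G)) * (normalizer (H : Set G)).index :=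
    (relIndex_mul_index le_normalizer).symm
  have h4 : (normalizer (H : Set G)).index = 1 := by
    have h5 : (normalizer (H : Set G)).index ∣ 5 := by rw [← hi, h3']; exact dvd_mul_left _ _
    rcases (Nat.dvd_prime (by norm_num)).1 h5 with h6 | h6
    · exact h6
    · exfalso
      have h7 : Nat.card (normalizer (H : Set G)) = Nat.card H := by
        have h8 := H.card_mul_index
        have h9 := (normalizer (H : Set G)).card_mul_index
        rw [hi] at h8
        rw [h6] at h9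
        omega
      have h8 : H = normalizer (H : Set G) := Subgroup.eq_of_le_of_card_ge le_normalizer h7.le
      rw [← h8] at h2
      exact ht (by simpa using H.inv_mem h2)
  have h5 : H.Normal := normalizer_eq_top_iff.1 (index_eq_one.1 h4)
  exact h.no_three (Or.inl rfl) (K := H) (by rw [hi]) h3

/-- the action on the cosets of a subgroup of index 5 is two-transitive -/
theorem two_trans {H : Subgroup G} (hi : H.index = 5) (h3 : 3 ∣ Nat.card H) {t t' : G} (ht : t ∉ H) (ht' : t' ∉ H) :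
    ∃ r ∈ H, t⁻¹ * r * t' ∈ H := by
  classical
  by_contra hcon
  push Not at hcon
  have hX : Nat.card (G ⧸ H) = 5 := hi
  have hfin : Finite (G ⧸ H) := Nat.finite_of_card_ne_zero (by rw [hX]; norm_num)
  -- membership
  have hmk : ∀ (r : H) (s u : G), r • (QuotientGroup.mk s : G ⧸ H) = QuotientGroup.mk u ↔ u⁻¹ * (r : G) * s ∈ H := by
    intro r s u
    have h1 : r • (QuotientGroup.mk s : G ⧸ H) = QuotientGroup.mk ((r : G) * s) := rfl
    rw [h1, eq_comm, QuotientGroup.eq, mul_assoc]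
  set e : G ⧸ H := QuotientGroup.mk 1
  have key : ∀ s : G, s ∉ H → e ∉ MulAction.orbit H (QuotientGroup.mk s : G ⧸ H) ∧
      2 ≤ (MulAction.orbit H (QuotientGroup.mk s : G ⧸ H)).ncard := by
    intro s hs
    constructor
    · rintro ⟨r, hr⟩
      have h1 := (hmk r s 1).1 hr
      apply hs
      have h2 : s = (r : G)⁻¹ * (1⁻¹ * (r : G) * s) := by group
      rw [h2]
      exact H.mul_mem (H.inv_mem r.2) h1
    · by_contra hlt
      have h1 : (MulAction.orbit H (QuotientGroup.mk s : G ⧸ H)).ncard ≤ 1 := by omega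
      rw [Set.ncard_le_one_iff (Set.toFinite _)] at h1
      refine h.not_fix hi h3 hs fun r hr => ?_
      exact (hmk ⟨r, hr⟩ s s).1 (h1 (MulAction.mem_orbit _ _) (MulAction.mem_orbit_self _))
  set O := MulAction.orbit H (QuotientGroup.mk t : G ⧸ H) with hO
  set O' := MulAction.orbit H (QuotientGroup.mk t' : G ⧸ H) with hO'
  have hdisj : Disjoint O O' := by
    rw [Set.disjoint_left]
    intro x hx hx'
    have h1 : O = O' := (MulAction.orbit_eq_iff.2 hx).symm.trans (MulAction.orbit_eq_iff.2 hx')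
    have h2 : (QuotientGroup.mk t : G ⧸ H) ∈ O' := by rw [← h1]; exact MulAction.mem_orbit_self _
    obtain ⟨r, hr⟩ := h2
    exact hcon r r.2 ((hmk r t' t).1 hr)
  obtain ⟨he, h2⟩ := key t ht
  obtain ⟨he', h2'⟩ := key t' ht'
  have hun : (O ∪ O').ncard = O.ncard + O'.ncard := Set.ncard_union_eq hdisj (Set.toFinite _) (Set.toFinite _)
  have he2 : e ∉ O ∪ O' := by rintro (h4 | h4); exacts [he h4, he' h4]
  have hins : (insert e (O ∪ O')).ncard = O.ncard + O'.ncard + 1 := by
    rw [Set.ncard_insert_of_notMem he2 (Set.toFinite _), hun]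
  have hle : (insert e (O ∪ O')).ncard ≤ 5 := by
    rw [← hX, ← Set.ncard_univ]
    exact Set.ncard_le_ncard (Set.subset_univ _) (Set.toFinite _)
  rw [← hO] at h2
  rw [← hO'] at h2'
  have hO2 : O.ncard = 2 := by omega
  have hO2' : O'.ncard = 2 := by omega
  have hall : insert e (O ∪ O') = Set.univ := by
    apply Set.eq_of_subset_of_ncard_le (Set.subset_univ _) _ (Set.toFinite _)
    rw [Set.ncard_univ, hX, hins]
    omega
  -- an element of order 3
  have := Fact.mk Nat.prime_three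
  obtain ⟨z, hz⟩ := exists_prime_orderOf_dvd_card' 3 h3
  have hz3 : z * z * z = 1 := by
    have h4 := pow_orderOf_eq_one z
    rw [hz, pow_succ, pow_two] at h4
    exact h4
  have hsmall : ∀ S : Set (G ⧸ H), S.ncard = 2 → (∀ x ∈ S, z • x ∈ S) → ∀ x ∈ S, z • x = x := by
    intro S hS hzS x hx
    by_contra hne
    obtain ⟨a, b, hab, rfl⟩ := Set.ncard_eq_two.1 hS
    have h4 := hzS _ (hzS x hx)
    have h5 : z • z • x = x := by
      have h6 := hzS x hx
      rcases hx with rfl | rfl <;> rcases h6 with h6 | h6 <;> rcases h4 with h4 | h4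
      · exact absurd h6 hne
      · exact absurd h6 hne
      · exact h4
      · rw [h6] at h4 ⊢
        exact absurd (MulAction.injective z (h4.trans h6.symm)) (fun h7 => hab h7.symm)
      · rw [h6] at h4 ⊢
        exact absurd (MulAction.injective z (h4.trans h6.symm)) (fun h7 => hab h7)
      · exact h4
      · exact absurd h6 hne
      · exact absurd h6 hne
    apply hne
    have h6 : z • z • z • x = z • x := by rw [h5]
    rw [← mul_smul, ← mul_smul, hz3, one_smul] at h6
    exact h6.symm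
  have hfix : ∀ x : G ⧸ H, z • x = x := by
    intro x
    have hx : x ∈ insert e (O ∪ O') := by rw [hall]; trivial
    rcases hx with rfl | hx | hx
    · exact (hmk z 1 1).2 (by simp)
    · exact hsmall O hO2 (fun y hy => (MulAction.mapsTo_smul_orbit z _) hy) x hx
    · exact hsmall O' hO2' (fun y hy => (MulAction.mapsTo_smul_orbit z _) hy) x hx
  have hcore : (z : G) ∈ H.normalCore := by
    intro b
    have h4 := (hmk z b⁻¹ b⁻¹).1 (hfix _)
    simpa only [_root_.inv_inv] using h4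
  have h3c : 3 ∣ Nat.card H.normalCore := by
    have h4 : orderOf (z : G) = 3 := by rw [Subgroup.orderOf_coe, hz]
    rw [← h4]
    exact orderOf_dvd_natCard _ hcore
  refine h.no_three (Or.inl rfl) (K := H.normalCore) ?_ h3c
  rw [← relIndex_mul_index H.normalCore_le, hi]
  exact dvd_mul_left _ _

end Loc

end Cfsg.Agent.H587.Der34
end

-- part: H587/Der34/Cos
section
/-!
# Outer cosets (helper587)
-/

set_option autoImplicit false
set_option linter.unusedSectionVars false

namespace Cfsg.Agent.H587.Der34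

open Subgroup Cfsg.Agent.H439.Der
open Cfsg.Agent.CpAut.SmallP (Singer.exists_conj_pow)

/-- the hypotheses on `T = L₃(4)` -/
structure Hyp (T : Type*) [Group T] : Prop where
  loc : Loc T
  card : Nat.card T = 20160
  h35 : ∀ R : Subgroup T, 5 ∣ Nat.card R → 7 ∣ Nat.card R → R = ⊤
  out : Nat.card (Cfsg.Out T) = 12
  out6 : ∀ φ : MulAut T, ∃ t : T, φ ^ 6 = MulAut.conj t
  four : ∃ x : T, orderOf x = 4

namespace Hyp

variable {T : Type*} [Group T] (h : Hyp T)

include h

theorem finite : Finite T := Nat.finite_of_card_ne_zero (by rw [h.card]; norm_num)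

theorem exists_prime {p : ℕ} (hp : p.Prime) (hd : p ∣ 20160) : ∃ x : T, orderOf x = p := by
  have := h.finite
  have := Fact.mk hp
  exact exists_prime_orderOf_dvd_card' p (by rw [h.card]; exact hd)

/-- an element of order 5 is conjugate to its inverse -/
theorem inv5 {x : T} (hx : orderOf x = 5) : ∃ c : T, c * x * c⁻¹ = x⁻¹ := by
  have := h.finite
  have := Fact.mk Nat.prime_five
  by_contra hcon
  push Not at hcon
  have h1 : Nat.card (zpowers x) = 5 := by rw [Nat.card_zpowers, hx]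
  have hP : IsPGroup 5 (zpowers x) := IsPGroup.of_card (n := 1) (by rw [h1, pow_one])
  have hi := h.loc.not_dvd_index (p := 5) (by norm_num) h1
  have hmod := index_normalizer_mod hP hi
  have hN : normalizer (zpowers x : Set T) ≤ centralizer ({x} : Set T) := by
    intro g hg
    rw [mem_centralizer_singleton_iff]
    rcases h.loc.conj_five hx hg with h2 | h2
    · have h3 : g * x * g⁻¹ * g = x * g := by rw [h2]
      rwa [inv_mul_cancel_right] at h3
    · exact absurd h2 (hcon g)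
  have h5 : Nat.card (normalizer (zpowers x : Set T)) ∣ 5 := (card_dvd_of_le hN).trans (h.loc.c5 x hx)
  have h5N : 5 ∣ Nat.card (normalizer (zpowers x : Set T)) := by
    rw [← h1]; exact card_dvd_of_le le_normalizer
  have h6 := Nat.dvd_antisymm h5 h5N
  have hmul := (normalizer (zpowers x : Set T)).card_mul_index
  rw [h6, h.card] at hmul
  omega

theorem conj_ne {y x : T} (hx : orderOf x = 5) (hy : orderOf y = 7) : MulAut.conj x ≠ 1 := by
  have := h.finite
  intro h1
  have h2 : x * y * x⁻¹ = y := by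
    have := DFunLike.congr_fun h1 y
    simpa only [_root_.MulAut.conj_apply, _root_.MulAut.one_apply] using this
  have h3 : y * x = x * y := by
    have h4 : x * y * x⁻¹ * x = y * x := by rw [h2]
    rw [inv_mul_cancel_right] at h4
    exact h4.symm
  have h4 := h.loc.comm5 hx h3
  rw [hy] at h4
  norm_num at h4

omit h in
theorem pow_two_mod : ∀ n : ℕ, 2 ^ n % 5 = 1 → 4 ∣ n := by
  intro n hn
  have h1 : n = 4 * (n / 4) + n % 4 := (Nat.div_add_mod n 4).symm
  rw [h1, pow_add, pow_mul, Nat.mul_mod, Nat.pow_mod] at hn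
  norm_num at hn
  have h2 : n % 4 < 4 := Nat.mod_lt _ (by norm_num)
  apply Nat.dvd_of_mod_eq_zero
  interval_cases h3 : n % 4 <;> omega

omit h in
theorem pow_three_mod : ∀ n : ℕ, 3 ^ n % 5 = 1 → 4 ∣ n := by
  intro n hn
  have h1 : n = 4 * (n / 4) + n % 4 := (Nat.div_add_mod n 4).symm
  rw [h1, pow_add, pow_mul, Nat.mul_mod, Nat.pow_mod] at hn
  norm_num at hn
  have h2 : n % 4 < 4 := Nat.mod_lt _ (by norm_num)
  apply Nat.dvd_of_mod_eq_zero
  interval_cases h3 : n % 4 <;> omega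

omit h in
theorem iter {φ : MulAut T} {x : T} {k : ℕ} (hk : φ x = x ^ k) (n : ℕ) : (φ ^ n) x = x ^ k ^ n := by
  induction n with
  | zero => simp
  | succ n ih => rw [pow_succ, MulAut.mul_apply, hk, map_pow, ih, ← pow_mul, pow_succ]

/-- **Every outer coset contains elements of two different orders.** -/
theorem cos : Cos T := by
  have := h.finite
  intro φ _
  by_contra hcon
  push Not at hcon
  have hn0 : 0 < orderOf φ := orderOf_pos φ
  obtain ⟨x, hx⟩ := h.exists_prime Nat.prime_five (by norm_num)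
  obtain ⟨y, hy⟩ := h.exists_prime (p := 7) (by norm_num) (by norm_num)
  have hx5 : x ^ 5 = 1 := by rw [← hx]; exact pow_orderOf_eq_one x
  have hy7 : y ^ 7 = 1 := by rw [← hy]; exact pow_orderOf_eq_one y
  obtain ⟨g, k, hg⟩ := Singer.exists_conj_pow Nat.prime_five (by rw [h.card]; norm_num)
    (show orderOf (φ x) = 5 by rw [Cfsg.Agent.H938.Sax.orderOf_mulEquiv φ x]; exact hx) hx
  have hg' : (MulAut.conj g * φ) x = x ^ k := hg
  -- centralising `x`
  have caseA : ∀ s : T, (MulAut.conj s * φ) x ≠ x := by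
    intro s hs
    set ψ := MulAut.conj s * φ with hψ
    have ho : orderOf ψ = orderOf φ := hcon s
    have hcomm : MulAut.conj x * ψ = ψ * MulAut.conj x := by
      ext z
      have h2 : ψ (x * z * x⁻¹) = x * ψ z * x⁻¹ := by rw [map_mul, map_mul, map_inv, hs]
      simpa only [_root_.MulAut.mul_apply, _root_.MulAut.conj_apply, _root_.map_mul, _root_.map_inv] using h2.symm
    have h5 : orderOf (MulAut.conj x) = 5 := by
      have := Fact.mk Nat.prime_five
      refine orderOf_eq_prime ?_ (h.conj_ne hx hy)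
      rw [← map_pow, hx5, map_one]
    by_cases hd : 5 ∣ orderOf ψ
    · obtain ⟨u, hu⟩ := h.out6 ψ
      have h2 : ψ ^ 25 = MulAut.conj (u ^ 4 * s) * φ := by
        rw [map_mul, mul_assoc, ← hψ, map_pow, ← hu, ← pow_mul, ← pow_succ]
      have h3 : orderOf (ψ ^ 25) = orderOf ψ := by rw [h2, hcon, ho]
      rw [orderOf_pow] at h3
      have h4 : 1 < Nat.gcd (orderOf ψ) 25 := by
        have h6 : 5 ∣ Nat.gcd (orderOf ψ) 25 := Nat.dvd_gcd hd (by norm_num)
        have h7 := Nat.le_of_dvd (Nat.gcd_pos_of_pos_right _ (by norm_num)) h6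
        omega
      have h6 := Nat.div_lt_self (show 0 < orderOf ψ by rw [ho]; exact hn0) h4
      omega
    · have h2 : orderOf (MulAut.conj x * ψ) = 5 * orderOf ψ := by
        rw [(show Commute (MulAut.conj x) ψ from hcomm).orderOf_mul_eq_mul_orderOf_of_coprime
          (by rw [h5]; exact (Nat.Prime.coprime_iff_not_dvd Nat.prime_five).2 hd), h5]
      have h3 : MulAut.conj x * ψ = MulAut.conj (x * s) * φ := by rw [map_mul, mul_assoc]
      rw [h3, hcon, ho] at h2
      omega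
  have hk5 : x ^ k = x ^ (k % 5) := by
    conv_lhs => rw [← Nat.div_add_mod k 5, pow_add, pow_mul, hx5, one_pow, one_mul]
  have hx1 : x ≠ 1 := by
    rintro rfl
    rw [orderOf_one] at hx
    norm_num at hx
  have h4n : 4 ∣ orderOf φ := by
    have h2 := iter hg' (orderOf (MulAut.conj g * φ))
    rw [pow_orderOf_eq_one, MulAut.one_apply] at h2
    have h3 : x ^ 1 = x ^ k ^ orderOf (MulAut.conj g * φ) := by rw [pow_one]; exact h2
    rw [pow_inj_mod, hx, hcon, Nat.pow_mod k] at h3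
    have h6 : k % 5 < 5 := Nat.mod_lt _ (by norm_num)
    interval_cases h7 : k % 5
    · exfalso
      rw [hk5, pow_zero] at hg'
      apply hx1
      have h8 : (MulAut.conj g * φ) x = (MulAut.conj g * φ) 1 := by rw [hg', map_one]
      exact (MulAut.conj g * φ).injective h8
    · exfalso
      rw [hk5, pow_one] at hg'
      exact caseA g hg'
    · exact pow_two_mod _ h3.symm
    · exact pow_three_mod _ h3.symm
    · exfalso
      obtain ⟨c, hc⟩ := h.inv5 hx
      apply caseA (c * g)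
      rw [map_mul, mul_assoc, MulAut.mul_apply, hg', hk5]
      have h8 : x ^ 4 = x⁻¹ := eq_inv_of_mul_eq_one_left (by rw [← pow_succ, hx5])
      show c * x ^ 4 * c⁻¹ = x
      rw [h8]
      have h9 : c * x⁻¹ * c⁻¹ = (c * x * c⁻¹)⁻¹ := by group
      rw [h9, hc, inv_inv]
  -- an element of order prime to 4
  obtain ⟨g', l, hg2⟩ := Singer.exists_conj_pow (p := 7) (by norm_num) (by rw [h.card]; norm_num)
    (show orderOf (φ y) = 7 by rw [Cfsg.Agent.H938.Sax.orderOf_mulEquiv φ y]; exact hy) hy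
  have hg2' : (MulAut.conj g' * φ) y = y ^ l := hg2
  have hy1 : y ≠ 1 := by
    rintro rfl
    rw [orderOf_one] at hy
    norm_num at hy
  have hl0 : l % 7 ≠ 0 := by
    intro hl
    have h8 : y ^ l = 1 := by
      rw [← Nat.div_add_mod l 7, hl, add_zero, pow_mul, hy7, one_pow]
    rw [h8] at hg2'
    apply hy1
    have h9 : (MulAut.conj g' * φ) y = (MulAut.conj g' * φ) 1 := by rw [hg2', map_one]
    exact (MulAut.conj g' * φ).injective h9
  obtain ⟨u, hu⟩ := h.out6 (MulAut.conj g' * φ)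
  have h2 := iter hg2' 6
  have h3 : y ^ l ^ 6 = y ^ 1 := by
    rw [pow_inj_mod, hy, Nat.pow_mod]
    have h6 : l % 7 < 7 := Nat.mod_lt _ (by norm_num)
    interval_cases h7 : l % 7
    · exact absurd rfl hl0
    all_goals norm_num
  rw [hu, h3, pow_one] at h2
  have h4 : u * y * u⁻¹ = y := h2
  have h5 : u * y = y * u := by
    have h6 : u * y * u⁻¹ * u = y * u := by rw [h4]
    rwa [inv_mul_cancel_right] at h6
  have h6 := h.loc.comm7 hy h5
  have h7 : (MulAut.conj g' * φ) ^ 42 = 1 := by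
    rw [show (42 : ℕ) = 6 * 7 by norm_num, pow_mul, hu, ← map_pow, orderOf_dvd_iff_pow_eq_one.1 h6, map_one]
  have h8 := orderOf_dvd_of_pow_eq_one h7
  rw [hcon] at h8
  have h9 := h4n.trans h8
  norm_num at h9

end Hyp

end Cfsg.Agent.H587.Der34
end

-- part: H587/Der34/Row
section
/-!
# The row of `L₃(4)`, from the hypotheses `Hyp` (helper587)
-/

set_option autoImplicit false
set_option linter.unusedSectionVars false

namespace Cfsg.Agent.H587.Der34

open Subgroup Cfsg.Agent.H439.Der Cfsg.Agent.H938.Sax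

/-- a group of order 60 with the local structure has no elements of order 4 -/
theorem Loc.sixty {G : Type*} [Group G] [Finite G] (h : Loc G) (hG : Nat.card G = 60) (y : G) : orderOf y ≠ 4 := by
  intro hy
  have := Fact.mk Nat.prime_two
  have h1 : Nat.card (zpowers y) = 4 := by rw [Nat.card_zpowers, hy]
  have hP : IsPGroup 2 (zpowers y) := IsPGroup.of_card (n := 2) (by rw [h1]; norm_num)
  have h2 := (zpowers y).card_mul_index
  rw [h1, hG] at h2
  have h3 : (zpowers y).index = 15 := by omega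
  have hi : ¬ 2 ∣ (zpowers y).index := by rw [h3]; norm_num
  have hcyc : IsCyclic (hP.toSylow hi) := (inferInstance : IsCyclic (zpowers y))
  have hmin : (Nat.card G).minFac = 2 := by rw [hG]; norm_num
  obtain ⟨K, hK, hKi⟩ := exists_complement hP hi (hcyc.normalizer_le_centralizer hmin)
  have h4 := K.card_mul_index
  rw [hKi, h1, hG] at h4
  have h5 : Nat.card K = 15 := by omega
  have h6 := (h.sub K).five (by rw [h5]; norm_num) (by rw [h5]; norm_num)
  rw [h5] at h6
  revert h6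
  decide

/-- the possible orders of proper subgroups -/
def ords : Finset ℕ :=
  {7, 21, 56, 168, 5, 10, 80, 160, 60, 360, 960, 1, 2, 3, 4, 6, 8, 9, 12, 18, 24, 36, 72, 16, 32, 64, 48, 96, 192}

namespace Hyp

variable {T : Type*} [Group T] (h : Hyp T)

include h

theorem ord_mem {R : Subgroup T} (hR : R ≠ ⊤) : Nat.card R ∈ ords := by
  have := h.finite
  have hL := h.loc.sub R
  by_cases h7 : 7 ∣ Nat.card R
  · have h5 : ¬ 5 ∣ Nat.card R := fun h5 => hR (h.h35 R h5 h7)
    have h1 := hL.seven h7 h5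
    have h2 : ∀ n ∈ ({7, 21, 56, 168} : Finset ℕ), n ∈ ords := by decide +kernel
    exact h2 _ h1
  · by_cases h5 : 5 ∣ Nat.card R
    · have h1 := hL.five h5 h7
      have h2 : ∀ n ∈ ({5, 10, 80, 160, 60, 360, 960} : Finset ℕ), n ∈ ords := by decide +kernel
      exact h2 _ h1
    · by_cases h9 : 9 ∣ Nat.card R
      · have h1 := (hL.nine h9 h5 h7).2
        have h2 : ∀ n ∈ Nat.divisors 72, n ∈ ords := by decide +kernel
        exact h2 _ (Nat.mem_divisors.2 ⟨h1, by norm_num⟩)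
      · have h1 : Nat.card R ∣ 576 := by
          have h2 : Nat.card R ∣ 35 * 576 := by have := hL.dvd; norm_num only []; exact this
          refine Nat.Coprime.dvd_of_dvd_mul_left ?_ h2
          rw [show (35 : ℕ) = 5 * 7 by norm_num]
          exact Nat.Coprime.mul_right ((Nat.Prime.coprime_iff_not_dvd (by norm_num)).2 h5).symm
            ((Nat.Prime.coprime_iff_not_dvd (by norm_num)).2 h7).symm
        have h2 : ∀ n < 577, n ∣ 576 → ¬ 9 ∣ n → n ∈ ords := by decide +kernel
        exact h2 _ (by have := Nat.le_of_dvd (by norm_num) h1; omega) h1 h9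

/-- a subgroup of order 360 has no subgroup of order 72 -/
theorem no72 {R M : Subgroup T} (hRM : R ≤ M) (hR : Nat.card R = 72) (hM : Nat.card M = 360) : False := by
  have := h.finite
  have := Fact.mk Nat.prime_three
  have hL := h.loc.sub R
  obtain ⟨⟨P, hP, hPc⟩, -⟩ := hL.nine (by rw [hR]; norm_num) (by rw [hR]; norm_num) (by rw [hR]; norm_num)
  -- `P` as a subgroup of `M`
  set f : R →* M := inclusion hRM with hf
  have hfi : Function.Injective f := inclusion_injective hRM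
  have h1 : Nat.card (P.map f) = 9 := by
    rw [← hPc]
    exact Nat.card_congr (P.equivMapOfInjective f hfi).symm.toEquiv
  have hPg : IsPGroup 3 (P.map f) := IsPGroup.of_card (n := 2) (by rw [h1]; norm_num)
  have h2 := (P.map f).card_mul_index
  rw [h1, hM] at h2
  have h3 : (P.map f).index = 40 := by omega
  have hmod := index_normalizer_mod hPg (by rw [h3]; norm_num)
  have h4 : f.range ≤ normalizer ((P.map f : Subgroup M) : Set M) := by
    rintro _ ⟨r, rfl⟩
    rw [mem_normalizer_iff]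
    have key : ∀ (r : R) (x : M), x ∈ P.map f → f r * x * (f r)⁻¹ ∈ P.map f := by
      rintro r _ ⟨p, hp, rfl⟩
      exact ⟨r * p * r⁻¹, hP.conj_mem p hp r, by simp only [_root_.map_mul, _root_.map_inv]⟩
    intro x
    refine ⟨key r x, fun hx => ?_⟩
    have h5 := key r⁻¹ _ hx
    have h6 : f r⁻¹ * (f r * x * (f r)⁻¹) * (f r⁻¹)⁻¹ = x := by rw [map_inv]; group
    rwa [h6] at h5
  have h5 : 72 ∣ Nat.card (normalizer ((P.map f : Subgroup M) : Set M)) := by
    rw [← hR, Nat.card_congr (MonoidHom.ofInjective hfi).toEquiv]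
    exact card_dvd_of_le h4
  have h6 := (normalizer ((P.map f : Subgroup M) : Set M)).card_mul_index
  obtain ⟨c, hc⟩ := h5
  rw [hc, hM] at h6
  set i := (normalizer ((P.map f : Subgroup M) : Set M)).index with hi
  have h7 : c * i = 5 := by
    have h8 : 72 * (c * i) = 360 := by rw [← mul_assoc]; exact h6
    omega
  have h8 : i = 1 ∨ i = 5 := (Nat.dvd_prime (by norm_num)).1 (h7 ▸ dvd_mul_left _ _)
  rcases h8 with h8 | h8
  · -- `P` normal in `M`
    have h9 : normalizer ((P.map f : Subgroup M) : Set M) = ⊤ := index_eq_one.1 (hi ▸ h8)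
    have h10 : (P.map f).Normal := normalizer_eq_top_iff.1 h9
    have h11 := (h.loc.sub M).no_three (Or.inl rfl) (K := P.map f) (by rw [h3]; norm_num)
    rw [h1] at h11
    norm_num at h11
  · rw [h8] at hmod
    norm_num at hmod

/-- **maximal subgroups** -/
theorem coatom {R : Subgroup T} (hR : R ≠ ⊤)
    (hc : Nat.card R ∈ ({168, 360, 960, 72} : Finset ℕ)) : IsCoatom R := by
  have := h.finite
  refine ⟨hR, fun M hM => ?_⟩
  by_contra hMt
  have h1 := card_dvd_of_le hM.le
  have h2 := h.ord_mem hMt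
  have h3 : Nat.card R ≠ Nat.card M := by
    intro h4
    exact hM.ne (Subgroup.eq_of_le_of_card_ge hM.le h4.ge)
  have h4 : ∀ n ∈ ({168, 360, 960, 72} : Finset ℕ), ∀ m ∈ ords, n ∣ m → n ≠ m → n = 72 ∧ m = 360 := by decide +kernel
  obtain ⟨h5, h6⟩ := h4 _ hc _ h2 h1 h3
  exact h.no72 hM.le h5 h6

theorem not_mem {R : Subgroup T} {v : ℕ} (hv : ¬ v ∣ Nat.card R) {x : T} (hx : orderOf x = v) (g : T) :
    g * x * g⁻¹ ∉ R := by
  have h1 := not_mem_of_dvd hv (x := x) (by rw [hx]) (MulAut.conj g)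
  simpa using h1

omit h in
theorem conj_order (g x : T) : orderOf (g * x * g⁻¹) = orderOf x := by
  have h1 := orderOf_mulEquiv (MulAut.conj g) x
  simpa using h1

/-- three classes, 7 missing -/
theorem threeT_seven {R : Subgroup T} (h7 : ¬ 7 ∣ Nat.card R) {z : T} (hz : orderOf z ≠ 7)
    (hzR : ∀ g : T, g * z * g⁻¹ ∉ R) : ThreeT T R := by
  obtain ⟨y, hy⟩ := h.exists_prime (p := 7) (by norm_num) (by norm_num)
  refine ⟨y, y⁻¹, z, h.not_mem h7 hy, h.not_mem h7 (by rw [orderOf_inv, hy]), hzR, fun g => ?_, fun g hg => hz ?_,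
    fun g hg => hz ?_⟩
  · exact h.loc.n7 y g hy
  · rw [← hg, conj_order, hy]
  · rw [← hg, conj_order, orderOf_inv, hy]

/-- three classes, 5 missing -/
theorem threeT_five {R : Subgroup T} (h5 : ¬ 5 ∣ Nat.card R) {z : T} (hz : orderOf z ≠ 5)
    (hzR : ∀ g : T, g * z * g⁻¹ ∉ R) : ThreeT T R := by
  have := h.finite
  obtain ⟨x, hx⟩ := h.exists_prime (p := 5) (by norm_num) (by norm_num)
  have hx2 : orderOf (x ^ 2) = 5 := by rw [Nat.Coprime.orderOf_pow (by rw [hx]; norm_num), hx]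
  refine ⟨x, x ^ 2, z, h.not_mem h5 hx, h.not_mem h5 hx2, hzR, fun g => ?_, fun g hg => hz ?_,
    fun g hg => hz ?_⟩
  · exact h.loc.n5 x g hx
  · rw [← hg, conj_order, hx]
  · rw [← hg, conj_order, hx2]

theorem noOne {R : Subgroup T} (h2 : ¬ R.index % 2 = 1) (h3 : ¬ R.index % 3 = 1) : NoOne T R := by
  intro s hs hd h1
  rw [h.out] at hd
  have h4 : s = 2 ∨ s = 3 := by
    have h5 : s ∈ Nat.primeFactors 12 := Nat.mem_primeFactors.2 ⟨hs, hd, by norm_num⟩
    have h6 : Nat.primeFactors 12 = {2, 3} := by decide +kernel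
    rw [h6] at h5
    simpa using h5
  rcases h4 with rfl | rfl
  · exact h2 h1
  · exact h3 h1

theorem outBadN {R : Subgroup T} (hR : Nat.card R = 192) : OutBadN T R := by
  have := h.finite
  rintro φ - hφR ⟨N, hRN, hN, hφN⟩
  have hNt : N ≠ ⊤ := hN.ne
  have h1 := card_dvd_of_le hRN.le
  have h2 := h.ord_mem hNt
  have h3 : Nat.card R ≠ Nat.card N := fun h4 => hRN.ne (Subgroup.eq_of_le_of_card_ge hRN.le h4.ge)
  rw [hR] at h1 h3
  have h4 : Nat.card N = 960 := by
    have h5 : ∀ m ∈ ords, 192 ∣ m → 192 ≠ m → m = 960 := by decide +kernel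
    exact h5 _ h2 h1 h3
  obtain ⟨t, htN, htR⟩ := SetLike.exists_of_lt hRN
  have h5 : φ t ∈ N := by rw [← hφN]; exact ⟨t, htN, rfl⟩
  have h6 : φ t ∉ R := by
    intro h7
    rw [← hφR] at h7
    obtain ⟨r, hr, hrt⟩ := h7
    have h8 : r = t := φ.injective hrt
    exact htR (h8 ▸ hr)
  have hi : (R.subgroupOf N).index = 5 := by
    have h7 := (R.subgroupOf N).card_mul_index
    rw [h4, Nat.card_congr (subgroupOfEquivOfLe hRN.le).toEquiv, hR] at h7
    omega
  obtain ⟨r, hr, h7⟩ := (h.loc.sub N).two_trans hi (by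
    rw [Nat.card_congr (subgroupOfEquivOfLe hRN.le).toEquiv, hR]; norm_num) (t := ⟨t, htN⟩) (t' := ⟨φ t, h5⟩)
    (fun h8 => htR h8) (fun h8 => h6 h8)
  refine ⟨r, hr, t, htR, ?_⟩
  have h8 : t⁻¹ * (r : T) * φ t ∈ R := h7
  have h9 : t⁻¹ * ((r : T) * φ t * (r : T)⁻¹) = t⁻¹ * (r : T) * φ t * (r : T)⁻¹ := by group
  rw [h9]
  exact R.mul_mem h8 (R.inv_mem hr)

theorem miss {M : Subgroup T} (hM : M ≠ ⊤) : Miss T M := by
  by_cases h5 : 5 ∣ Nat.card M
  · have h7 : ¬ 7 ∣ Nat.card M := fun h7 => hM (h.h35 M h5 h7)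
    obtain ⟨y, hy⟩ := h.exists_prime (p := 7) (by norm_num) (by norm_num)
    exact ⟨y, not_mem_of_dvd h7 (by rw [hy])⟩
  · obtain ⟨x, hx⟩ := h.exists_prime (p := 5) (by norm_num) (by norm_num)
    exact ⟨x, not_mem_of_dvd h5 (by rw [hx])⟩

/-- the final condition for the non-maximal subgroups -/
theorem fin3 {R : Subgroup T} (hR : R ≠ ⊤) (hRc : ¬ IsCoatom R) : Fin3 T R := by
  have := h.finite
  have hm := h.ord_mem hR
  have hidx := R.card_mul_index
  rw [h.card] at hidx
  have hd : ∀ {p : ℕ}, p ∣ 20160 → p ∣ Nat.card T := fun hp => by rw [h.card]; exact hp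
  obtain ⟨x2, o2⟩ := h.exists_prime Nat.prime_two (by norm_num)
  obtain ⟨x3, o3⟩ := h.exists_prime Nat.prime_three (by norm_num)
  obtain ⟨x4, o4⟩ := h.four
  obtain ⟨x5, o5⟩ := h.exists_prime Nat.prime_five (by norm_num)
  obtain ⟨x7, o7⟩ := h.exists_prime (p := 7) (by norm_num) (by norm_num)
  have hnc : Nat.card R ∉ ({168, 360, 960, 72} : Finset ℕ) := fun h1 => hRc (h.coatom hR h1)
  have hmiss : ∀ {v : ℕ} {x : T}, orderOf x = v → ¬ v ∣ Nat.card R → ∀ m ∈ R, orderOf m ≠ v :=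
    fun _ hv m hm h1 => hv (h1 ▸ orderOf_dvd_natCard R hm)
  by_cases h7 : 7 ∣ Nat.card R
  · -- orders 7, 21, 56
    have h1 : ∀ n ∈ ords, 7 ∣ n → n ∉ ({168, 360, 960, 72} : Finset ℕ) → n = 7 ∨ n = 21 ∨ n = 56 := by decide +kernel
    rcases h1 _ hm h7 hnc with h2 | h2 | h2
    · left
      exact Three.of_orders (by norm_num) (by norm_num) (by norm_num) o2 o3 o5 (hmiss o2 (by rw [h2]; norm_num))
        (hmiss o3 (by rw [h2]; norm_num)) (hmiss o5 (by rw [h2]; norm_num))
    · left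
      exact Three.of_orders (by norm_num) (by norm_num) (by norm_num) o2 o4 o5 (hmiss o2 (by rw [h2]; norm_num))
        (hmiss o4 (by rw [h2]; norm_num)) (hmiss o5 (by rw [h2]; norm_num))
    · right
      rw [h2] at hidx
      refine ⟨h.threeT_five (by rw [h2]; norm_num) (z := x3) (by rw [o3]; norm_num)
        (h.not_mem (by rw [h2]; norm_num) o3), Two.of_two_primes Nat.prime_three Nat.prime_five (by norm_num)
        (hd (by norm_num)) (hd (by norm_num)) (by rw [h2]; norm_num) (by rw [h2]; norm_num),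
        Or.inl (h.noOne (by omega) (by omega))⟩
  by_cases h5 : 5 ∣ Nat.card R
  · by_cases h3 : 3 ∣ Nat.card R
    · -- order 60
      have h1 : ∀ n ∈ ords, 5 ∣ n → 3 ∣ n → n ∉ ({168, 360, 960, 72} : Finset ℕ) → n = 60 := by decide +kernel
      have h2 := h1 _ hm h5 h3 hnc
      have hno : ∀ m ∈ R, orderOf m ≠ 4 := by
        intro m hm h6
        apply (h.loc.sub R).sixty h2 ⟨m, hm⟩
        rw [← h6, ← Subgroup.orderOf_coe]
      right
      refine ⟨h.threeT_seven h7 (z := x4) (by rw [o4]; norm_num) (fun g hg => hno _ hg (by rw [conj_order, o4])),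
        Two.of_orders (by norm_num) o7 o4 (hmiss o7 h7) hno, Or.inl ?_⟩
      rw [h2] at hidx
      exact h.noOne (by omega) (by omega)
    · have h1 : ∀ n ∈ ords, 5 ∣ n → ¬ 3 ∣ n → n = 5 ∨ n = 10 ∨ n = 80 ∨ n = 160 := by decide +kernel
      right
      refine ⟨h.threeT_seven h7 (z := x3) (by rw [o3]; norm_num) (h.not_mem h3 o3),
        Two.of_two_primes (v := 3) (w := 7) Nat.prime_three (by norm_num) (by norm_num)
          (hd (by norm_num)) (hd (by norm_num)) h3 h7, Or.inl ?_⟩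
      rcases h1 _ hm h5 h3 with h2 | h2 | h2 | h2 <;> rw [h2] at hidx <;> exact h.noOne (by (clear * - hidx; omega)) (by (clear * - hidx; omega))
  · have hT : ThreeT T R := h.threeT_five h5 (z := x7) (by rw [o7]; norm_num) (h.not_mem h7 o7)
    have hTw : Two T R := Two.of_two_primes (v := 5) (w := 7) Nat.prime_five (by norm_num) (by norm_num)
      (hd (by norm_num)) (hd (by norm_num)) h5 h7
    by_cases h64 : Nat.card R = 64
    · left
      exact Three.of_orders (by norm_num) (by norm_num) (by norm_num) o3 o5 o7 (hmiss o3 (by rw [h64]; norm_num))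
        (hmiss o5 (by rw [h64]; norm_num)) (hmiss o7 (by rw [h64]; norm_num))
    by_cases h18 : Nat.card R = 18
    · left
      exact Three.of_orders (by norm_num) (by norm_num) (by norm_num) o4 o5 o7 (hmiss o4 (by rw [h18]; norm_num))
        (hmiss o5 (by rw [h18]; norm_num)) (hmiss o7 (by rw [h18]; norm_num))
    right
    refine ⟨hT, hTw, ?_⟩
    by_cases h192 : Nat.card R = 192
    · exact Or.inr (h.outBadN h192)
    left
    have h1 : ∀ n ∈ ords, ¬ 7 ∣ n → ¬ 5 ∣ n → n ≠ 64 → n ≠ 18 → n ≠ 192 → n ∉ ({168, 360, 960, 72} : Finset ℕ) →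
        n ∈ ({1, 2, 3, 4, 6, 8, 9, 12, 24, 36, 16, 32, 48, 96} : Finset ℕ) := by decide +kernel
    have h2 := h1 _ hm h7 h5 h64 h18 h192 hnc
    simp only [Finset.mem_insert, Finset.mem_singleton] at h2
    rcases h2 with h2 | h2 | h2 | h2 | h2 | h2 | h2 | h2 | h2 | h2 | h2 | h2 | h2 | h2 <;> rw [h2] at hidx <;>
      exact h.noOne (by (clear * - hidx; omega)) (by (clear * - hidx; omega))

/-- **The row of `L₃(4)`.** -/
theorem rowW : RowW T :=
  ⟨Or.inr ⟨h.cos, fun _ hM => h.miss hM.1⟩, fun _ hR hRc => h.fin3 hR hRc⟩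

end Hyp

end Cfsg.Agent.H587.Der34
end

-- part: H587/Der34/Mat
section
/-!
# The matrices of `L₃(4)` (helper587)
-/

set_option autoImplicit false

namespace Cfsg.Agent.H587.Der34

open Matrix Subgroup
open Cfsg.Agent.SporadicA.FieldFour
open Cfsg.Agent.ONType.Psl Cfsg.Agent.ONType.PslCard
open Cfsg.Agent.CpAut.SmallP (Singer.exists_conj_pow)
open Cfsg.Agent.CpAut.SmallP.PslFour

/-- unitriangular matrices -/
def wm (p : F4 × F4 × F4) : Matrix (Fin 3) (Fin 3) F4 := !![1, p.1, p.2.2; 0, 1, p.2.1; 0, 0, 1]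

/-- the product of unitriangular matrices -/
def wmul (p q : F4 × F4 × F4) : F4 × F4 × F4 :=
  (p.1 + q.1, p.2.1 + q.2.1, p.2.2 + q.2.2 + p.1 * q.2.1)

/-- unitriangular matrices in `SL` -/
def w (p : F4 × F4 × F4) : SL3 := ⟨wm p, by simp [wm, det_fin_three]⟩

theorem w_mul (p q : F4 × F4 × F4) : w p * w q = w (wmul p q) := by
  apply Subtype.ext
  change wm p * wm q = wm (wmul p q)
  ext i j
  (revert i j; simp only [wm, wmul, Matrix.mul_apply, Fin.sum_univ_three, _root_.Fin.forall_fin_succ, _root_.Matrix.of_apply, _root_.Matrix.cons_val', _root_.Matrix.cons_val_fin_one, Fin.isValue, _root_.Matrix.cons_val_zero, _root_.Matrix.cons_val_one, _root_.Matrix.cons_val, _root_.mul_one, _root_.MulZeroClass.mul_zero, _root_.add_zero, _root_.Matrix.cons_val_succ, _root_.forall_const, _root_.true_and, _root_.one_mul, _root_.add_eq_right, _root_.mul_eq_zero, _root_.true_or, _root_.MulZeroClass.zero_mul, _root_.zero_add, _root_.and_self, _root_.implies_true, _root_.and_true])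 <;> (repeat' with_reducible apply And.intro) <;> ring

theorem w_zero : w (0, 0, 0) = 1 := by
  apply Subtype.ext
  change wm (0, 0, 0) = 1
  ext i j
  (revert i j; simp only [wm, _root_.Fin.forall_fin_succ, _root_.Matrix.of_apply, _root_.Matrix.cons_val', _root_.Matrix.cons_val_fin_one, Fin.isValue, _root_.Matrix.cons_val_zero, _root_.Matrix.cons_val_succ, _root_.IsEmpty.forall_iff, _root_.and_true, _root_.Matrix.one_apply_eq, Nat.reduceAdd, _root_.Fin.succ_zero_eq_one, _root_.ne_eq, _root_.zero_ne_one, _root_.not_false_eq_true, _root_.Matrix.one_apply_ne, _root_.Fin.succ_one_eq_two, Fin.reduceEq, _root_.and_self, _root_.Fin.succ_ne_zero, _root_.true_and])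

/-- the class in `PSL` -/
def v (p : F4 × F4 × F4) : PSL3 := QuotientGroup.mk (w p)

theorem v_mul (p q : F4 × F4 × F4) : v p * v q = v (wmul p q) := by
  rw [v, v, v, ← w_mul]
  rfl

theorem v_zero : v (0, 0, 0) = 1 := by
  rw [v, w_zero]
  rfl

theorem v_inj {p q : F4 × F4 × F4} (h : v p = v q) : p = q := by
  rw [v, v, mk_eq_iff] at h
  obtain ⟨r, -, h⟩ := h
  have h' : ∀ i j, wm q i j = r * wm p i j := by
    intro i j
    have h1 : wm q = r • wm p := h
    rw [h1]
    rfl
  have e0 := h' 0 0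
  have e1 := h' 0 1
  have e2 := h' 1 2
  have e3 := h' 0 2
  simp only [wm, Matrix.of_apply, Matrix.cons_val', Matrix.cons_val_zero, Matrix.cons_val_one, Matrix.cons_val] at e0 e1 e2 e3
  have hr : r = 1 := by simpa using e0.symm
  subst hr
  simp only [one_mul] at e1 e2 e3
  exact Prod.ext e1.symm (Prod.ext e2.symm e3.symm)

theorem wmul_inv : ∀ p : F4 × F4 × F4, wmul p (p.1, p.2.1, p.2.2 + p.1 * p.2.1) = (0, 0, 0) := by decide +kernel

theorem v_inv (p : F4 × F4 × F4) : (v p)⁻¹ = v (p.1, p.2.1, p.2.2 + p.1 * p.2.1) := by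
  apply inv_eq_of_mul_eq_one_right
  rw [v_mul, wmul_inv, v_zero]

/-- the Sylow 2-subgroup -/
def U : Subgroup PSL3 where
  carrier := {g | ∃ p, g = v p}
  mul_mem' := by
    rintro _ _ ⟨p, rfl⟩ ⟨q, rfl⟩
    exact ⟨wmul p q, v_mul p q⟩
  one_mem' := ⟨(0, 0, 0), v_zero.symm⟩
  inv_mem' := by
    rintro _ ⟨p, rfl⟩
    exact ⟨_, v_inv p⟩

theorem card_U : Nat.card U = 64 := by
  let f : F4 × F4 × F4 → U := fun p => ⟨v p, p, rfl⟩
  have hf : Function.Bijective f := by
    constructor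
    · intro p q hpq
      exact v_inj (congrArg Subtype.val hpq)
    · rintro ⟨_, p, rfl⟩
      exact ⟨p, rfl⟩
  have h4 : Nat.card F4 = 4 := by rw [Nat.card_eq_fintype_card, F4.card_eq]
  rw [← Nat.card_congr (Equiv.ofBijective f hf), Nat.card_prod, Nat.card_prod, h4]

theorem wcomm1 : ∀ p : F4 × F4 × F4, wmul p (1, 0, 0) = wmul (1, 0, 0) p → p.2.1 = 0 := by decide +kernel
theorem wcomm2 : ∀ p : F4 × F4 × F4, wmul p (0, 1, 0) = wmul (0, 1, 0) p → p.1 = 0 := by decide +kernel
theorem wcomm3 (c : F4) (p : F4 × F4 × F4) : wmul (0, 0, c) p = wmul p (0, 0, c) := by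
  simp [wmul, add_comm]

theorem card_center_U : Nat.card (center U) = 4 := by
  let f : F4 → center U := fun c => ⟨⟨v (0, 0, c), (0, 0, c), rfl⟩, by
    rw [mem_center_iff]
    rintro ⟨_, p, rfl⟩
    apply Subtype.ext
    show v p * v (0, 0, c) = v (0, 0, c) * v p
    rw [v_mul, v_mul, wcomm3]⟩
  have hf : Function.Bijective f := by
    constructor
    · intro p q hpq
      have h1 : v (0, 0, p) = v (0, 0, q) := congrArg (fun x : center U => ((x : U) : PSL3)) hpq
      have h2 := v_inj h1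
      exact congrArg (fun x : F4 × F4 × F4 => x.2.2) h2
    · rintro ⟨⟨_, p, rfl⟩, hp⟩
      rw [mem_center_iff] at hp
      have h1 : v (1, 0, 0) * v p = v p * v (1, 0, 0) := congrArg Subtype.val (hp ⟨v (1, 0, 0), _, rfl⟩)
      have h2 : v (0, 1, 0) * v p = v p * v (0, 1, 0) := congrArg Subtype.val (hp ⟨v (0, 1, 0), _, rfl⟩)
      rw [v_mul, v_mul] at h1 h2
      have h3 := wcomm1 p (v_inj h1).symm
      have h4 := wcomm2 p (v_inj h2).symm
      refine ⟨p.2.2, Subtype.ext (Subtype.ext ?_)⟩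
      show v (0, 0, p.2.2) = v p
      congr 1
      exact Prod.ext h4.symm (Prod.ext h3.symm rfl)
  have h4 : Nat.card F4 = 4 := by rw [Nat.card_eq_fintype_card, F4.card_eq]
  rw [← Nat.card_congr (Equiv.ofBijective f hf), h4]

theorem zq (Q : Subgroup PSL3) (hQ : Nat.card Q = 64) : Nat.card (center Q) = 4 := by
  have := finite_PSL3
  have := Fact.mk Nat.prime_two
  have key : ∀ P : Subgroup PSL3, Nat.card P = 64 → IsPGroup 2 P ∧ ¬ 2 ∣ P.index := by
    intro P hP
    refine ⟨IsPGroup.of_card (n := 6) (by rw [hP]; norm_num), ?_⟩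
    have h1 := P.card_mul_index
    rw [hP, card_PSL3] at h1
    omega
  obtain ⟨h1, h2⟩ := key Q hQ
  obtain ⟨h3, h4⟩ := key U card_U
  have e : Q ≃* U := Sylow.equiv (h1.toSylow h2) (h3.toSylow h4)
  rw [← card_center_U]
  exact Nat.card_congr (Subgroup.centerCongr e).toEquiv

theorem trace7_ne : m7.trace ≠ (m7 ^ 6).trace := by
  rw [Matrix.trace_fin_three, Matrix.trace_fin_three]; decide +kernel

theorem not_inv_p7 (p : PSL3) : p * p7 ≠ p7 ^ 6 * p := by
  intro h
  obtain ⟨C, rfl⟩ := QuotientGroup.mk_surjective p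
  have h1 := lift_conj (q := 7) (A := s7) (B := s7 ^ 6) (C := C) (Or.inl rfl) s7_pow
    (by rw [← pow_mul, mul_comm, pow_mul, s7_pow, one_pow]) h
  have h2 : (C : Matrix (Fin 3) (Fin 3) F4) * m7 = m7 ^ 6 * C := by
    have h3 := congrArg Subtype.val h1
    have h4 : ((s7 ^ 6 * C : SL3) : Matrix (Fin 3) (Fin 3) F4) = ((s7 ^ 6 : SL3) : Matrix (Fin 3) (Fin 3) F4) * C := rfl
    have h5 : ((s7 ^ 6 : SL3) : Matrix (Fin 3) (Fin 3) F4) = m7 ^ 6 := Matrix.SpecialLinearGroup.coe_pow _ _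
    rw [h5] at h4
    exact h3.trans h4
  apply trace7_ne
  have h3 : ((C⁻¹ : SL3) : Matrix (Fin 3) (Fin 3) F4) * (C : Matrix (Fin 3) (Fin 3) F4) = 1 := by
    have h4 : ((C⁻¹ * C : SL3) : Matrix (Fin 3) (Fin 3) F4) = 1 := by rw [inv_mul_cancel]; rfl
    exact h4
  calc m7.trace = (((C⁻¹ : SL3) : Matrix (Fin 3) (Fin 3) F4) * (C : Matrix (Fin 3) (Fin 3) F4) * m7).trace := by
        rw [h3, one_mul]
    _ = (((C⁻¹ : SL3) : Matrix (Fin 3) (Fin 3) F4) * (m7 ^ 6 * (C : Matrix (Fin 3) (Fin 3) F4))).trace := by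
        rw [mul_assoc, h2]
    _ = ((m7 ^ 6 * (C : Matrix (Fin 3) (Fin 3) F4)) * ((C⁻¹ : SL3) : Matrix (Fin 3) (Fin 3) F4)).trace := by
        rw [Matrix.trace_mul_comm]
    _ = (m7 ^ 6).trace := by
        rw [mul_assoc, mul_eq_one_comm.1 h3, mul_one]

/-- an element of order 7 of `PSL(3,4)` is not conjugate to its inverse -/
theorem not_inv {x : PSL3} (hx : orderOf x = 7) (c : PSL3) : c * x * c⁻¹ ≠ x⁻¹ := by
  intro hc
  have := finite_PSL3
  have hp : Nat.Prime 7 := by norm_num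
  obtain ⟨g, k, h⟩ := Singer.exists_conj_pow hp (by rw [card_PSL3]; norm_num) hx order_p7
  have hk : ¬ 7 ∣ k := by
    intro hd
    obtain ⟨m, rfl⟩ := hd
    rw [pow_mul, p7_pow, one_pow] at h
    have h1 : x = 1 := by
      calc x = g⁻¹ * (g * x * g⁻¹) * g := by group
        _ = 1 := by rw [h]; group
    rw [h1, orderOf_one] at hx
    exact hp.one_lt.ne hx
  have hcop : Nat.Coprime k 7 := ((Nat.Prime.coprime_iff_not_dvd hp).2 hk).symm
  obtain ⟨l, hl⟩ : ∃ l : ℤ, p7 = (p7 ^ k) ^ l := by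
    have h1 : zpowers (p7 ^ k) = zpowers p7 := by
      apply Subgroup.eq_of_le_of_card_ge
      · rw [zpowers_le]; exact pow_mem (mem_zpowers p7) k
      · rw [Nat.card_zpowers, Nat.card_zpowers, Nat.Coprime.orderOf_pow (by rw [order_p7]; exact hcop.symm)]
    have h2 : p7 ∈ zpowers (p7 ^ k) := by rw [h1]; exact mem_zpowers p7
    obtain ⟨l, hl⟩ := mem_zpowers_iff.1 h2
    exact ⟨l, hl.symm⟩
  have h1 : (g * c * g⁻¹) * (g * x * g⁻¹) * (g * c * g⁻¹)⁻¹ = (g * x * g⁻¹)⁻¹ := by
    calc (g * c * g⁻¹) * (g * x * g⁻¹) * (g * c * g⁻¹)⁻¹ = g * (c * x * c⁻¹) * g⁻¹ := by group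
      _ = g * x⁻¹ * g⁻¹ := by rw [hc]
      _ = _ := by group
  rw [h] at h1
  have h2 : (g * c * g⁻¹) * p7 * (g * c * g⁻¹)⁻¹ = p7⁻¹ := by
    have h3 : (g * c * g⁻¹) * p7 * (g * c * g⁻¹)⁻¹ = ((g * c * g⁻¹) * p7 ^ k * (g * c * g⁻¹)⁻¹) ^ l := by
      rw [conj_zpow, ← hl]
    rw [h3, h1, _root_.inv_zpow, ← hl]
  apply not_inv_p7 (g * c * g⁻¹)
  have h4 : p7 ^ 6 = p7⁻¹ := eq_inv_of_mul_eq_one_left (by rw [← pow_succ, p7_pow])
  rw [h4, ← h2]
  group

theorem four : ∃ x : PSL3, orderOf x = 4 := by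
  have := Fact.mk Nat.prime_two
  have h2 : v (1, 1, 0) ^ 2 = v (0, 0, 1) := by
    rw [pow_two, v_mul]
    congr 1
  have h4 : v (1, 1, 0) ^ 4 = 1 := by
    rw [show (4 : ℕ) = 2 * 2 by norm_num, pow_mul, h2, pow_two, v_mul, ← v_zero]
    congr 1
  refine ⟨v (1, 1, 0), ?_⟩
  have h5 : orderOf (v (1, 1, 0)) = 2 ^ (1 + 1) := by
    refine orderOf_eq_prime_pow ?_ ?_
    · rw [pow_one, h2, ← v_zero]
      intro h6
      have h7 := v_inj h6
      revert h7
      decide +kernel
    · exact h4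
  rw [h5]; norm_num

end Cfsg.Agent.H587.Der34
end

-- part: H180/MElL34
section
/-!
# `ClMaxA` for `L₃(4)` (team ELUSIVE)
-/

set_option autoImplicit false

namespace Cfsg.Agent.H180.MEl

open Cfsg
open Cfsg.Agent.H396 (Der der_of_prime)
open Cfsg.Agent.H278.El (ClMaxA ClMax ClT)
open Cfsg.Agent.SporadicA.FieldFour Cfsg.Agent.SporadicA.PlaneFour

end Cfsg.Agent.H180.MEl
end

-- part: H587/Der34/Psl34
section
/-!
# The row `L₃(4)` (helper587)
-/

set_option autoImplicit false

namespace Cfsg.Agent.H587.Der34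

open Matrix Subgroup Cfsg.Agent.H439.Der
open Cfsg.Agent.SporadicA.FieldFour Cfsg.Agent.SporadicA.PlaneFour
open Cfsg.Agent.ONType.Psl Cfsg.Agent.ONType.PslCard
open Cfsg.Agent.CpAut.SmallP.PslFour

theorem h35_PSL3 (R : Subgroup PSL3) (h5 : 5 ∣ Nat.card R) (h7 : 7 ∣ Nat.card R) : R = ⊤ := by
  have hfin : Finite PSL3 := finite_PSL3
  have hc : Nat.card PSL3 = 20160 := card_PSL3
  have e : Nat.card (R.map pslHom) = Nat.card R :=
    Nat.card_congr (R.equivMapOfInjective pslHom pslHom_injective).symm.toEquiv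
  apply Subgroup.eq_top_of_card_eq
  rw [← e, hc]
  refine Cfsg.Agent.H180.MEl.m21 (T := {none, some 0, some 1}) ?_ (by decide) ?_ (by rw [e]; exact h5) (by rw [e]; exact h7)
  · rintro _ ⟨g, -, rfl⟩
    exact pslHom_mem_M24 g
  · rintro _ ⟨g, -, rfl⟩ t ht
    apply permHom_apply_of_not
    rintro ⟨h1, h2, h3⟩
    simp only [Finset.mem_insert, Finset.mem_singleton] at ht
    rcases ht with rfl | rfl | rfl
    · exact h1 rfl
    · exact h2 rfl
    · exact h3 rfl

theorem loc_PSL3 : Loc PSL3 where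
  dvd := by rw [card_PSL3]
  c3 x hx := by rw [Cfsg.Agent.H102.E7V.card_cent_three hx]
  c5 x hx := by rw [Cfsg.Agent.BpSpor.LFour.card_five hx]
  c7 x hx := by rw [Cfsg.Agent.BpSpor.LFour.card_seven hx]
  n5 x c hx := not_sq hx c
  n7 x c hx := not_inv hx c
  zq Q hQ := zq Q hQ

theorem sq_eq_one : ∀ y : Multiplicative (ZMod 2 × ZMod 2), y ^ 2 = 1 := by decide

theorem out_PSL3 : Nat.card (Cfsg.Out PSL3) = 12 ∧ ∀ o : Cfsg.Out PSL3, o ^ 6 = 1 := by
  have := Fact.mk Nat.prime_two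
  obtain ⟨φ, hs, hcyc, hk⟩ := Cfsg.Agent.S2601.result (F := F4) (p := 2) (f := 2) (n := 3) (by norm_num)
    (by rw [F4.card_eq]; norm_num) (by norm_num)
  have hk' : Nat.card φ.ker = 3 := by rw [hk]; norm_num
  have hcod : Nat.card (Multiplicative (ZMod 2 × ZMod 2)) = 4 := by
    rw [Nat.card_eq_fintype_card]; rfl
  have hidx : φ.ker.index = 4 := by
    rw [Subgroup.index_ker, MonoidHom.range_eq_top.2 hs, Subgroup.card_top, hcod]
  constructor
  · rw [← φ.ker.card_mul_index, hidx, hk']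
  · intro o
    have h2 : o ^ 2 ∈ φ.ker := by
      rw [MonoidHom.mem_ker, map_pow]
      exact sq_eq_one (φ o)
    have h3 : (⟨o ^ 2, h2⟩ : φ.ker) ^ 3 = 1 := by
      have h5 := pow_card_eq_one' (x := (⟨o ^ 2, h2⟩ : φ.ker))
      rwa [hk'] at h5
    have h4 := congrArg Subtype.val h3
    change (o ^ 2) ^ 3 = 1 at h4
    rw [← pow_mul] at h4
    exact h4

theorem hyp_PSL3 : Hyp PSL3 where
  loc := loc_PSL3
  card := card_PSL3
  h35 := h35_PSL3
  out := out_PSL3.1
  out6 φ := by
    have h1 := out_PSL3.2 (QuotientGroup.mk φ)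
    rw [← QuotientGroup.mk_pow, QuotientGroup.eq_one_iff] at h1
    obtain ⟨t, ht⟩ := h1
    exact ⟨t, ht.symm⟩
  four := four

/-- **the row `L₃(4)`** -/
theorem rowW_psl34 {F : Type} [Field F] [Fintype F] (hF : Fintype.card F = 4) :
    RowW (Matrix.ProjectiveSpecialLinearGroup (Fin 3) F) := by
  obtain ⟨e⟩ := nonempty_psl_equiv (n := Fin 3) F hF
  have h : RowW PSL3 := hyp_PSL3.rowW
  exact h.congr e
 
end Cfsg.Agent.H587.Der34
end

-- part: H104/U54/Pair
section
/-!
# Elements of order `39` of `PSU_n(4)`, `n ≤ 5` (task 3778, for S3502)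

* `no_pair` : commuting isometries `x`, `y` of `F^n`, `n ≤ 5`, of order `13` and `3`: `y` is not trivial on `C_V(x)`
* `exists_pair` : the two isometries of an element of order `39` of `PSU_n(4)`
* `no_ord_four` : `PSU₄(4)` has no element of order `39`
-/

set_option autoImplicit false
set_option linter.unusedSectionVars false

namespace Cfsg.Agent.H104.U54

open Cfsg Cfsg.Geo Module Cfsg.Agent.H951 Cfsg.Agent.H251.GeoU Cfsg.Agent.H251.GeoCard
open scoped Matrix MatrixGroups

theorem ord_thirteen : orderOf (-((4 : ℕ) : ZMod 13)) = 3 := by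
  have h : Fact (Nat.Prime 3) := ⟨by norm_num⟩
  exact orderOf_eq_prime (by decide) (by decide)

theorem ord_three : orderOf (-((4 : ℕ) : ZMod 3)) = 2 := by
  have h : Fact (Nat.Prime 2) := ⟨by norm_num⟩
  exact orderOf_eq_prime (by decide) (by decide)

theorem ord_fortyone : orderOf (-((4 : ℕ) : ZMod 41)) = 5 := by
  have h : Fact (Nat.Prime 5) := ⟨by norm_num⟩
  exact orderOf_eq_prime (by decide) (by decide)

theorem ord_seventeen : orderOf (-((4 : ℕ) : ZMod 17)) = 4 := by
  have h : Fact (Nat.Prime 2) := ⟨by norm_num⟩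
  exact orderOf_eq_prime_pow (p := 2) (n := 1) (by decide) (by decide)

section Iso

variable {F : Type*} [Field F] [Fintype F] {n q s : ℕ}

/-- `dim U ≡ dim C_U(x)` modulo the order of `-q` modulo `s`, for `U` nondegenerate. -/
theorem nd_mod (hF : Fintype.card F = q ^ 2) [hs : Fact s.Prime] (hsq : ¬ s ∣ q)
    {x : Module.End F (Fin n → F)} (hx : Isom (hermForm n F q) x) (hxs : x ^ s = 1) {U : Submodule F (Fin n → F)}
    (hU : _root_.Cfsg.Agent.H951.Inv x U) (hn : Nd (hermForm n F q) U) :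
    ∃ b, finrank F U = finrank F ↥(U ⊓ fx x) + orderOf (-(q : ZMod s)) * b := by
  have hr := natCast_ne hF hs.out hsq
  have hB := H950.frm_herm hF n
  have h1 := hx.nd_inf_cm hB hr hxs hU hn
  have h2 : U ⊓ cm x ⊓ fx x = ⊥ := by
    rw [inf_assoc, inf_comm (cm x), (isCompl_fx_cm hr hxs).inf_eq_bot, inf_bot_eq]
  obtain ⟨b, hb⟩ := H950.ord_neg_dvd hF hsq hx hxs (hU.inf inv_cm) h1 h2
  refine ⟨b, ?_⟩
  rw [← hb, ← finrank_sup_of_disj (W := U ⊓ fx x) (U := U ⊓ cm x), inf_fx_sup_inf_cm hr hxs hU]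
  rw [inf_inf_inf_comm, (isCompl_fx_cm hr hxs).inf_eq_bot, inf_bot_eq]

theorem inv_fx_of_comm {V : Type*} [AddCommGroup V] [Module F V] {x y : Module.End F V} (h : x * y = y * x) :
    _root_.Cfsg.Agent.H951.Inv y (fx x) := by
  intro w hw
  rw [mem_fx] at hw ⊢
  rw [← Module.End.mul_apply, h, Module.End.mul_apply, hw]

theorem inv_cm_of_comm {V : Type*} [AddCommGroup V] [Module F V] {x y : Module.End F V} (h : x * y = y * x) :
    _root_.Cfsg.Agent.H951.Inv y (cm x) := by
  intro w hw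
  obtain ⟨u, rfl⟩ := mem_cm.1 hw
  refine mem_cm.2 ⟨y u, ?_⟩
  rw [map_sub, ← Module.End.mul_apply, h, Module.End.mul_apply]

theorem eq_one_of_fx {V : Type*} [AddCommGroup V] [Module F V] {x : Module.End F V} (h : fx x = ⊤) : x = 1 := by
  apply LinearMap.ext
  intro v
  have h1 : v ∈ fx x := by rw [h]; trivial
  exact mem_fx.1 h1

/-- commuting isometries `x`, `y` of order `13` and `3` -/
theorem no_pair (hF : Fintype.card F = 4 ^ 2) (hn : n ≤ 5) {x y : Module.End F (Fin n → F)}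
    (hx : Isom (hermForm n F 4) x) (hy : Isom (hermForm n F 4) y) (hc : x * y = y * x) (hx13 : x ^ 13 = 1)
    (hx1 : x ≠ 1) (hy3 : y ^ 3 = 1) (hfix : fx x ≤ fx y) : y = 1 := by
  have h13 : Fact (Nat.Prime 13) := ⟨by norm_num⟩
  have h3 : Fact (Nat.Prime 3) := ⟨by norm_num⟩
  have hB := H950.frm_herm hF n
  have hV := H950.nd_top hF n
  have hr13 := natCast_ne hF h13.out (by norm_num)
  have hr3 := natCast_ne hF h3.out (by norm_num)
  -- `dim [V, x] = 3`
  have hdim := finrank_fx_cm hr13 hx13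
  rw [finrank_fintype_fun_eq_card, Fintype.card_fin] at hdim
  have hle := fix_le hF (by norm_num) hx hx13 hx1
  rw [ord_thirteen] at hle
  obtain ⟨b, hb⟩ := nd_mod hF (s := 13) (by norm_num) hx hx13 (inv_top) hV
  rw [top_inf_eq, finrank_top, finrank_fintype_fun_eq_card, Fintype.card_fin, ord_thirteen] at hb
  have hcm : finrank F ↥(cm x) = 3 := by omega
  -- `C_{[V, x]}(y)`
  have hcinv : _root_.Cfsg.Agent.H951.Inv y (cm x) := inv_cm_of_comm hc
  obtain ⟨c, hc1⟩ := nd_mod hF (s := 3) (by norm_num) hy hy3 hcinv (hx.nd_cm hB hr13 hx13 hV)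
  rw [ord_three, hcm] at hc1
  have hinv : _root_.Cfsg.Agent.H951.Inv x (cm x ⊓ fx y) := inv_cm.inf (inv_fx_of_comm hc.symm)
  obtain ⟨d, hd⟩ := H950.exists_finrank_eq hr13 hx13 hinv
  have h0 : cm x ⊓ fx y ⊓ fx x = ⊥ := by
    rw [inf_assoc, inf_comm (fx y), ← inf_assoc, inf_comm (cm x), (isCompl_fx_cm hr13 hx13).inf_eq_bot, bot_inf_eq]
  have hord : orderOf ((Fintype.card F : ℕ) : ZMod 13) = 3 := by
    rw [hF]
    exact ord_sq_odd (q := 4) ord_thirteen (by decide)
  rw [h0, finrank_bot, hord] at hd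
  have h5 : finrank F ↥(cm x ⊓ fx y) = 3 := by omega
  have h6 : cm x ⊓ fx y = cm x := Submodule.eq_of_le_of_finrank_eq inf_le_left (by rw [h5, hcm])
  apply eq_one_of_fx
  rw [eq_top_iff, ← (isCompl_fx_cm hr13 hx13).sup_eq_top]
  exact sup_le hfix (by rw [← h6]; exact inf_le_right)

/-- the dimension of `C_V(x)`, `x` of order `13` -/
theorem fx_thirteen (hF : Fintype.card F = 4 ^ 2) (hn : n ≤ 5) {x : Module.End F (Fin n → F)}
    (hx : Isom (hermForm n F 4) x) (hx13 : x ^ 13 = 1) (hx1 : x ≠ 1) : finrank F ↥(fx x) + 3 = n := by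
  have h13 : Fact (Nat.Prime 13) := ⟨by norm_num⟩
  have hV := H950.nd_top hF n
  have hle := fix_le hF (by norm_num) hx hx13 hx1
  rw [ord_thirteen] at hle
  obtain ⟨b, hb⟩ := nd_mod hF (s := 13) (by norm_num) hx hx13 (inv_top) hV
  rw [top_inf_eq, finrank_top, finrank_fintype_fun_eq_card, Fintype.card_fin, ord_thirteen] at hb
  omega

/-- `C_V(x)` of dimension at most `2`, with a nonzero vector fixed by `y` if the dimension is `2` -/
theorem fx_le_fx (hF : Fintype.card F = 4 ^ 2) {x y : Module.End F (Fin n → F)}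
    (hx : Isom (hermForm n F 4) x) (hy : Isom (hermForm n F 4) y) (hc : x * y = y * x) (hx13 : x ^ 13 = 1)
    (hy3 : y ^ 3 = 1) (h : finrank F ↥(fx x) < finrank F ↥(fx x ⊓ fx y) + 2) : fx x ≤ fx y := by
  have h13 : Fact (Nat.Prime 13) := ⟨by norm_num⟩
  have h3 : Fact (Nat.Prime 3) := ⟨by norm_num⟩
  have hB := H950.frm_herm hF n
  have hV := H950.nd_top hF n
  have hr13 := natCast_ne hF h13.out (by norm_num)
  obtain ⟨c, hc1⟩ := nd_mod hF (s := 3) (by norm_num) hy hy3 (inv_fx_of_comm hc) (hx.nd_fx hB hr13 hx13 hV)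
  rw [ord_three] at hc1
  have h6 : fx x ⊓ fx y = fx x := Submodule.eq_of_le_of_finrank_eq inf_le_left (by omega)
  rw [← h6]
  exact inf_le_right

end Iso

section Lift

open Cfsg.Agent.LieClassical.SUBasic

variable {F : Type*} [Field F] [Fintype F] {n : ℕ}

theorem center_pow (hF : Fintype.card F = 4 ^ 2) (hn : 3 ≤ n) {z : SU n F 4} (hz : z ∈ Subgroup.center (SU n F 4)) :
    z ^ 5 = 1 := by
  obtain ⟨c, hcn, hcq, rfl⟩ := (mem_center_SU_iff hF hn z).1 hz
  apply Subtype.ext
  apply Subtype.ext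
  rw [SubmonoidClass.coe_pow, Matrix.SpecialLinearGroup.coe_pow, coe_suScalar, Matrix.diagonal_pow]
  have h : ((fun _ : Fin n => c) ^ 5) = fun _ => (1 : F) := by
    funext i
    exact hcq
  rw [h, Matrix.diagonal_one]
  rfl

/-- lifts of elements of order `39` -/
theorem exists_lift (hF : Fintype.card F = 4 ^ 2) (hn : 3 ≤ n) {z : PSU n F 4} (hz : z ^ 39 = 1) :
    ∃ B : SU n F 4, QuotientGroup.mk' (Subgroup.center (SU n F 4)) B = z ∧ B ^ 39 = 1 := by
  obtain ⟨A, rfl⟩ := QuotientGroup.mk'_surjective _ z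
  have h1 : A ^ 39 ∈ Subgroup.center (SU n F 4) := by
    rw [← QuotientGroup.eq_one_iff]
    exact hz
  refine ⟨A ^ 40, ?_, ?_⟩
  · rw [map_pow, pow_succ, hz, one_mul]
  · have h2 := center_pow hF hn h1
    rw [← pow_mul, show 40 * 39 = 39 * 5 * 8 by norm_num, pow_mul, pow_mul, h2, one_pow]

/-- the endomorphism of a matrix -/
noncomputable def L (g : GL (Fin n) F) : Module.End F (Fin n → F) := Matrix.toLin' (g : Matrix (Fin n) (Fin n) F)

theorem L_pow (g : GL (Fin n) F) (k : ℕ) : L (g ^ k) = L g ^ k := toLin_pow g k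

theorem L_one : L (1 : GL (Fin n) F) = 1 := by
  unfold L
  rw [Units.val_one, Matrix.toLin'_one]
  rfl

theorem L_mul (g h : GL (Fin n) F) : L (g * h) = L g * L h := by
  unfold L
  rw [Units.val_mul, Matrix.toLin'_mul]
  rfl

theorem L_inj {g : GL (Fin n) F} (h : L g = 1) : g = 1 := by
  apply Units.ext
  apply Matrix.toLin'.injective
  change L g = L 1
  rw [h, L_one]

theorem L_isom {g : GL (Fin n) F} {q : ℕ} (hg : g ∈ Cfsg.GU n F q) : Isom (hermForm n F q) (L g) := by
  intro u v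
  unfold L
  rw [Matrix.toLin'_apply, Matrix.toLin'_apply]
  exact H918.mem_GU.1 hg u v

/-- an element of order `39` of `M ≤ PSU_n(4)` -/
theorem exists_pair (hF : Fintype.card F = 4 ^ 2) (hn : 3 ≤ n) {M : Subgroup (PSU n F 4)} {z : PSU n F 4}
    (hz : orderOf z = 39) (hM : z ∈ M) :
    ∃ a b : GL (Fin n) F, a ∈ pre M ∧ b ∈ pre M ∧ Isom (hermForm n F 4) (L a) ∧ Isom (hermForm n F 4) (L b) ∧
      L a * L b = L b * L a ∧ L a ^ 13 = 1 ∧ L b ^ 3 = 1 ∧ L a ≠ 1 ∧ L b ≠ 1 := by
  have hz39 : z ^ 39 = 1 := by rw [← hz]; exact pow_orderOf_eq_one z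
  obtain ⟨B, hB, hB39⟩ := exists_lift hF hn hz39
  set g := H918.suHom n F 4 B with hg
  have hgu : ∀ k, g ^ k ∈ pre M := by
    intro k
    refine ⟨B ^ k, ?_, by rw [map_pow]⟩
    rw [Subgroup.coe_comap, Set.mem_preimage, map_pow, hB]
    exact M.pow_mem hM k
  have hgu' : ∀ k, g ^ k ∈ Cfsg.GU n F 4 := fun k => (pre_le M (hgu k)).1
  have h39 : g ^ 39 = 1 := by rw [hg, ← map_pow, hB39, map_one]
  have hne : ∀ k, z ^ k ≠ 1 → L (g ^ k) ≠ 1 := by
    intro k hk h1
    have h2 := L_inj h1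
    rw [hg, ← map_pow] at h2
    have h3 : B ^ k = 1 := H918.suHom_injective (by rw [h2, map_one])
    apply hk
    rw [← hB, ← map_pow, h3, map_one]
  refine ⟨g ^ 3, g ^ 13, hgu 3, hgu 13, L_isom (hgu' 3), L_isom (hgu' 13), ?_, ?_, ?_, hne 3 ?_, hne 13 ?_⟩
  · rw [← L_mul, ← L_mul, ← pow_add, ← pow_add]
  · rw [← L_pow, ← pow_mul, h39, L_one]
  · rw [← L_pow, ← pow_mul, h39, L_one]
  · intro h
    have := orderOf_dvd_of_pow_eq_one h
    rw [hz] at this
    norm_num at this
  · intro h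
    have := orderOf_dvd_of_pow_eq_one h
    rw [hz] at this
    norm_num at this

/-- **`PSU₄(4)` has no element of order `39`.** -/
theorem no_ord_four (hF : Fintype.card F = 4 ^ 2) (z : PSU 4 F 4) : orderOf z ≠ 39 := by
  intro hz
  obtain ⟨a, b, -, -, h1, h2, h3, h4, h5, h6, h7⟩ := exists_pair hF (by norm_num) hz (Subgroup.mem_top z)
  have h8 := fx_thirteen hF (by norm_num) h1 h4 h6
  exact h7 (no_pair hF (by norm_num) h1 h2 h3 h4 h6 h5 (fx_le_fx hF h1 h2 h3 h4 h5 (by omega)))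

/-- the stabiliser of a nondegenerate point of `F⁵` -/
theorem no_ord_point (hF : Fintype.card F = 4 ^ 2) {M : Subgroup (PSU 5 F 4)} {W : Submodule F (Fin 5 → F)}
    (hW1 : finrank F W = 1) (hW : Nd (hermForm 5 F 4) W) (hM : pre M ≤ subspaceStabilizer W) {z : PSU 5 F 4} (hz : z ∈ M) :
    orderOf z ≠ 39 := by
  intro ho
  have h13 : Fact (Nat.Prime 13) := ⟨by norm_num⟩
  have h3' : Fact (Nat.Prime 3) := ⟨by norm_num⟩
  have hr13 := natCast_ne hF h13.out (by norm_num)
  obtain ⟨a, b, ha, hb, h1, h2, h3, h4, h5, h6, h7⟩ := exists_pair hF (by norm_num) ho hz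
  have h8 := fx_thirteen hF (by norm_num) h1 h4 h6
  have hWx : W ≤ fx (L a) := by
    apply le_fx hr13 h4 (inv_of_mem (hM ha))
    rw [hF, show orderOf ((4 ^ 2 : ℕ) : ZMod 13) = 3 from ord_sq_odd (q := 4) ord_thirteen (by decide)]
    omega
  have hWy : W ≤ fx (L b) := by
    obtain ⟨c, hc⟩ := nd_mod hF (s := 3) (by norm_num) h2 h5 (inv_of_mem (hM hb)) hW
    rw [ord_three, hW1] at hc
    have h9 : W ⊓ fx (L b) = W := Submodule.eq_of_le_of_finrank_eq inf_le_left (by omega)
    rw [← h9]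
    exact inf_le_right
  have h10 := Submodule.finrank_mono (le_inf hWx hWy)
  exact h7 (no_pair hF (by norm_num) h1 h2 h3 h4 h6 h5 (fx_le_fx hF h1 h2 h3 h4 h5 (by omega)))

end Lift

end Cfsg.Agent.H104.U54
end

private theorem dce_a2242ad50d2f : _root_.True := by
  try have : _root_.True := by simp only [_root_.Cfsg.Agent.H587.Der34.wm.eq_1]
  try have : _root_.True := by simp only [_root_.Cfsg.Agent.H587.Der34.v.eq_1]
  try have : _root_.True := by simp only [_root_.Cfsg.Agent.H587.Der34.wmul.eq_1]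
  exact _root_.True.intro
end

section
prune_inst 0x10000000000000

-- part: H104/U54/Geo
section
set_option linter.all false
open scoped Cfsg.Agent.FastGrp

/-!
# Geometric subgroups of `SU₅(4)` (task 3778, for S3502)

* `geo_fortyone` : `41` does not divide the order of a geometric subgroup whose order is divisible by `17`
* `geo_point` : a geometric subgroup of order divisible by `13 · 17` is the stabiliser of a nondegenerate point
-/

set_option autoImplicit false
set_option linter.unusedSectionVars false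

namespace Cfsg.Agent.H104.U54

open Cfsg Cfsg.Geo Module Cfsg.Agent.H951 Cfsg.Agent.H251.GeoU Cfsg.Agent.H251.GeoCard
open scoped Matrix MatrixGroups

variable {F : Type*} [Field F] [Fintype F]

theorem not_div_thirteen {k : ℕ} (hk : k ≤ 2) : ¬ Div 13 (4 ^ 2) k := by
  rintro ⟨i, h1, h2, h3⟩
  have h4 : i ≤ 2 := h2.trans hk
  interval_cases i <;> norm_num at h3

theorem sub_cases (hF : Fintype.card F = 4 ^ 2) {F₀ : Subfield F} {P : GL (Fin 5) F}
    (hc : Fintype.card F = Nat.card F₀ ^ 2) (h : 13 ∣ Nat.card (subfieldSubgroup F₀ P)) : False := by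
  have h1 : Nat.card F₀ = 4 := Nat.pow_left_injective two_ne_zero (by
    change Nat.card F₀ ^ 2 = 4 ^ 2
    rw [← hc, hF])
  rcases subfield (s := 13) (by norm_num) (by rw [nat_card_eq hF]; norm_num) h with h2 | ⟨i, h2, h3, h4⟩
  · rw [nat_card_eq hF] at h2
    norm_num at h2
  · rw [Fintype.card_fin] at h3
    rw [h1] at h4
    interval_cases i <;> norm_num at h4

/-- totally singular subspaces -/
theorem kill_ts5 (hF : Fintype.card F = 4 ^ 2) {W : Submodule F (Fin 5 → F)} (hW0 : W ≠ ⊥)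
    (hW : IsTotallySingularFor (hermForm 5 F 4) W)
    (h13 : 13 ∣ Nat.card (subspaceStabilizer W ⊓ Cfsg.GU 5 F 4 : Subgroup (GL (Fin 5) F)))
    (h17 : 17 ∣ Nat.card (subspaceStabilizer W ⊓ Cfsg.GU 5 F 4 : Subgroup (GL (Fin 5) F))) : False := by
  have hf13 : Fact (Nat.Prime 13) := ⟨by norm_num⟩
  have hf17 : Fact (Nat.Prime 17) := ⟨by norm_num⟩
  have hB := H950.frm_herm hF 5
  have hV := H950.nd_top hF 5
  have h2 : 2 * finrank F W ≤ 5 := by
    have h3 := hB.two_mul_finrank_le hV le_top (W := W) hW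
    rwa [finrank_top, finrank_fintype_fun_eq_card, Fintype.card_fin] at h3
  have hpos : 0 < finrank F W := by
    rw [Nat.pos_iff_ne_zero, Ne, Submodule.finrank_eq_zero]
    exact hW0
  have key : ∀ (s : ℕ) [hs : Fact s.Prime] (hsq : ¬ s ∣ 4) {x : Module.End F (Fin 5 → F)}
      (hx : Isom (hermForm 5 F 4) x) (hxs : x ^ s = 1) (hle : W ≤ fx x) (hd : finrank F ↥(fx x) ≤ finrank F W),
      False := by
    intro s hs hsq x hx hxs hle hd
    have heq : W = fx x := Submodule.eq_of_le_of_finrank_eq hle (le_antisymm (Submodule.finrank_mono hle) hd)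
    have hnd := hx.nd_fx hB (natCast_ne hF hs.out hsq) hxs hV
    rw [← heq] at hnd
    obtain ⟨w, hw, hw0⟩ := W.ne_bot_iff.1 hW0
    obtain ⟨v, hv, hwv⟩ := hnd w hw hw0
    exact hwv (hW w hw v hv)
  rcases Nat.lt_or_ge (finrank F W) 2 with h1 | h1
  · obtain ⟨g, hg, hi, hgs, hg1⟩ := exists_elt hf17.out h17 inf_le_right
    have hfix := fix_le hF (by norm_num) hi hgs hg1
    rw [ord_seventeen] at hfix
    refine key 17 (by norm_num) hi hgs ?_ (by omega)
    apply le_fx (natCast_ne hF hf17.out (by norm_num)) hgs (inv_of_mem hg.1)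
    rw [hF, show orderOf ((4 ^ 2 : ℕ) : ZMod 17) = 2 from ord_sq_even (q := 4) ord_seventeen (by decide)]
    exact h1
  · obtain ⟨g, hg, hi, hgs, hg1⟩ := exists_elt hf13.out h13 inf_le_right
    have hfix := fix_le hF (by norm_num) hi hgs hg1
    rw [ord_thirteen] at hfix
    refine key 13 (by norm_num) hi hgs ?_ (by omega)
    apply le_fx (natCast_ne hF hf13.out (by norm_num)) hgs (inv_of_mem hg.1)
    rw [hF, show orderOf ((4 ^ 2 : ℕ) : ZMod 13) = 3 from ord_sq_odd (q := 4) ord_thirteen (by decide)]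
    omega

/-- nondegenerate subspaces -/
theorem kill_nd5 (hF : Fintype.card F = 4 ^ 2) {W : Submodule F (Fin 5 → F)} (hW0 : W ≠ ⊥)
    (hW : Nd (hermForm 5 F 4) W) (hW2 : 2 * finrank F W < 5)
    (h17 : 17 ∣ Nat.card (subspaceStabilizer W ⊓ Cfsg.GU 5 F 4 : Subgroup (GL (Fin 5) F))) : finrank F W = 1 := by
  have hf17 : Fact (Nat.Prime 17) := ⟨by norm_num⟩
  have hpos : 0 < finrank F W := by
    rw [Nat.pos_iff_ne_zero, Ne, Submodule.finrank_eq_zero]
    exact hW0
  obtain ⟨g, hg, hi, hgs, hg1⟩ := exists_elt hf17.out h17 inf_le_right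
  have hfix := fix_le hF (by norm_num) hi hgs hg1
  rw [ord_seventeen] at hfix
  obtain ⟨b, hb⟩ := nd_mod hF (s := 17) (by norm_num) hi hgs (inv_of_mem hg.1) hW
  rw [ord_seventeen] at hb
  have h1 : finrank F ↥(W ⊓ fx (Matrix.toLin' (g : Matrix (Fin 5) (Fin 5) F))) ≤
      finrank F ↥(fx (Matrix.toLin' (g : Matrix (Fin 5) (Fin 5) F))) := Submodule.finrank_mono inf_le_right
  omega

/-- **Geometric subgroups of order divisible by `13 · 17`.** -/
theorem geo_point (hF : Fintype.card F = 4 ^ 2) {M : Subgroup (GL (Fin 5) F)} (hM : InUnitaryClass 5 F 4 M)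
    (h13 : 13 ∣ Nat.card M) (h17 : 17 ∣ Nat.card M) :
    ¬ 41 ∣ Nat.card M ∧ ∃ W : Submodule F (Fin 5 → F), finrank F W = 1 ∧ Nd (hermForm 5 F 4) W ∧
      M ≤ subspaceStabilizer W := by
  have hp13 : Nat.Prime 13 := by norm_num
  have hcF : ¬ 13 ∣ Nat.card F := by rw [nat_card_eq hF]; norm_num
  rcases hM with hM | hM | hM | hM
  · rcases hM with hM | hM | hM | hM | hM | hM | hM | hM
    · obtain ⟨W, hW0, hW, rfl⟩ := hM
      exact (kill_ts5 hF hW0 hW h13 h17).elim
    · obtain ⟨W, hW0, hW', hW2, rfl⟩ := hM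
      have hW : Nd (hermForm 5 F 4) W := fun u hu hu0 => (hW' u hu hu0).2
      have h1 := kill_nd5 hF hW0 hW hW2 h17
      refine ⟨fun h41 => ?_, W, h1, hW, inf_le_left⟩
      obtain ⟨h2, -⟩ := kill_nd hF (s := 41) (m := 5) (by norm_num) ord_fortyone (by decide) (by norm_num)
        (by norm_num) hW0 hW2 h41
      omega
    · obtain ⟨t, k, D, hD, rfl⟩ := hM
      exfalso
      have htk : t * k = 5 := by rw [H918.decomp_card hD.decomp, Fintype.card_fin]
      have ht2 := hD.decomp.two_le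
      have hk := hD.decomp.pos
      rcases decomp hD.decomp hp13 hcF (dvd_left h13) with h1 | h1
      · have : t ≤ t * k := Nat.le_mul_of_pos_right _ hk
        omega
      · rw [nat_card_eq hF] at h1
        exact not_div_thirteen (k := k) (by nlinarith) h1
    · obtain ⟨k, D, hk, hD, -, rfl⟩ := hM
      exfalso
      have htk : 2 * k = 5 := by rw [H918.decomp_card hD, Fintype.card_fin]
      omega
    · obtain ⟨F₀, r, P, hr, hro, hc, -, rfl⟩ := hM
      exfalso
      have h1 : Nat.card F₀ ∣ 2 ^ 4 := by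
        have h2 : Nat.card F₀ ∣ Fintype.card F := hc ▸ dvd_pow_self _ hr.ne_zero
        rwa [hF] at h2
      obtain ⟨a, ha, ha'⟩ := (Nat.dvd_prime_pow Nat.prime_two).1 h1
      rw [hF, ha', ← pow_mul, show 4 ^ 2 = 2 ^ 4 by norm_num] at hc
      have h3 := Nat.pow_right_injective (le_refl 2) hc
      have h4 : r ∣ 2 ^ 2 := by
        rw [show 2 ^ 2 = a * r from h3]
        exact dvd_mul_left _ _
      have h5 := (Nat.prime_dvd_prime_iff_eq hr Nat.prime_two).1 (hr.dvd_of_dvd_pow h4)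
      rw [h5] at hro
      exact absurd hro (by decide)
    · obtain ⟨F₀, P, -, hc, -, rfl⟩ := hM
      exact (sub_cases hF hc (dvd_left h13)).elim
    · obtain ⟨F₀, P, ζ, -, hc, -, -, -, -, rfl⟩ := hM
      exact (sub_cases hF hc (dvd_left h13)).elim
    · obtain ⟨r, R, p', e, k, hR, habs, -, -, -, hc, rfl⟩ := hM
      have ht : H920.IsType r k R := by
        rcases hc with ⟨h1, h2, -, h3⟩ | ⟨h1, -, h2, h3⟩
        · exact Or.inl ⟨h1, h2, h3⟩
        · exact Or.inr ⟨h1, h2, h3⟩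
      exfalso
      have hne : Nonempty (Fin 5) := ⟨0⟩
      have hcard := H920.card_of_type hR habs ht
      rw [Fintype.card_fin] at hcard
      have hk : 1 ≤ k := by
        by_contra hk0
        have : k = 0 := by omega
        rw [this, pow_zero] at hcard
        omega
      rcases symplecticType hR habs ht hk hp13 (dvd_left h13) with h1 | h1 | h1
      · have h2 : r ≤ r ^ k := Nat.le_self_pow (by omega) r
        omega
      · rw [nat_card_eq hF] at h1
        norm_num at h1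
      · omega
  · obtain ⟨r, K, hr, hro, hK, -, rfl⟩ := hM
    exfalso
    have hr3 : 3 ≤ r := by
      have := hr.two_le
      obtain ⟨k, hk⟩ := hro
      omega
    obtain ⟨h1, -⟩ := kill_field_odd hF (s := 17) (by norm_num) ord_seventeen (by decide) (by norm_num) hr hr3 hK
      (dvd_left h17)
    omega
  · obtain ⟨n₁, n₂, e, P, f₁, f₂, h2, hlt, -, -, -, rfl⟩ := hM
    exfalso
    have hcard : 5 = n₁ * n₂ := by
      have := Fintype.card_congr e
      simpa using this
    nlinarith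
  · obtain ⟨k, t, e, P, f₁, hk, ht, -, -, -, rfl⟩ := hM
    exfalso
    have hcard : 5 = k ^ t := by
      have := Fintype.card_congr e
      simpa using this
    have h4 : k ^ 2 ≤ k ^ t := Nat.pow_le_pow_right (by omega) ht
    nlinarith

end Cfsg.Agent.H104.U54
end

-- part: H104/U54/Res
section
set_option linter.all false
open scoped Cfsg.Agent.FastGrp

/-!
# Almost simple subgroups of `PSU₅(4)` (task 3778, for S3502)

* `names` : a simple group of order dividing `|PSU₅(4)|`, whose automorphism group has order divisible by `13 · 17`, has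
  the order of `PSU₅(4)` or is `PSU₄(4)`
* `res` : `M` almost simple, of order divisible by `13 · 17`: no element of order `39`, `41 ∤ |M|`
-/

set_option autoImplicit false
set_option linter.unusedSectionVars false

namespace Cfsg.Agent.H104.U54

open Cfsg Cfsg.Geo Cfsg.Agent.OrdDiv

/-- `|PSU₅(4)|` -/
def NN : ℕ := 53443952640000

theorem card_u54 {F : Type*} [Field F] [Fintype F] (hF : Fintype.card F = 4 ^ 2) : Nat.card (PSU 5 F 4) = NN := by
  have h := S0280.result hF 5 (by norm_num)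
  rw [show Nat.gcd 5 (4 + 1) = 5 by decide] at h
  simp only [Finset.prod_range_succ, Finset.prod_range_zero] at h
  norm_num [Nat.even_iff] at h
  unfold NN
  omega

theorem card_dvd_aut {R : Type*} [Group R] [Finite R] (S : Subgroup R) [S.Normal]
    (hC : Subgroup.centralizer (S : Set R) = ⊥) : Nat.card R ∣ Nat.card (MulAut S) := by
  have hinj : Function.Injective (MulAut.conjNormal : R →* MulAut S) := by
    rw [← MonoidHom.ker_eq_bot_iff, eq_bot_iff]
    intro x hx
    rw [← hC, Subgroup.mem_centralizer_iff]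
    intro y hy
    have h1 := DFunLike.congr_fun ((MonoidHom.mem_ker).1 hx) ⟨y, hy⟩
    have h2 := congrArg Subtype.val h1
    rw [MulAut.conjNormal_apply, MulAut.one_apply] at h2
    exact (mul_inv_eq_iff_eq_mul.1 h2).symm
  exact Subgroup.card_dvd_of_injective _ hinj

theorem card_mulAut_congr {S T : Type*} [Group S] [Group T] (e : S ≃* T) :
    Nat.card (MulAut S) = Nat.card (MulAut T) := Nat.card_congr (MulAut.congr e).toEquiv

theorem cands_eq : (cands [(2, 20), (3, 2), (5, 4), (13, 1), (17, 1), (41, 1)] NN) =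
    [.alt 5, .alt 6, .psl 2 4, .psl 2 16, .psl 2 9, .psl 2 5, .psl 2 25, .psl 2 17, .psp 2 4, .psp 2 5, .psu 3 4,
      .psu 4 4, .psu 5 4] := by decide +kernel

/-- the automorphisms of `PSL₂(q)` -/
theorem psl_case {S : Type} [Group S] {q p f : ℕ} (hp : p.Prime) (hq : q = p ^ f) (hf : 1 ≤ f) (h4 : 4 ≤ q)
    (h : OrdDiv.Real (.psl 2 q) S) : Nat.card (MulAut S) = Nat.gcd 2 (q - 1) * f * Nat.card S := by
  obtain ⟨F, i1, i2, hF, ⟨e⟩⟩ := h
  have hp' := Fact.mk hp
  rw [card_mulAut_congr e, Nat.card_congr e.toEquiv, H436.TT.card_mulAut p f (hF.trans hq) hf (by rw [hF]; exact h4),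
    hF]

theorem psu_case {S : Type} [Group S] {n : ℕ} (hn : 3 ≤ n) (h : OrdDiv.Real (.psu n 4) S) :
    Nat.card (MulAut S) = Nat.gcd n 5 * 4 * Nat.card S := by
  obtain ⟨F, i1, i2, hF, ⟨e⟩⟩ := h
  have hp' : Fact (Nat.Prime 2) := ⟨Nat.prime_two⟩
  rw [card_mulAut_congr e, Nat.card_congr e.toEquiv, S0815.result 2 2 (by norm_num) (by norm_num) hF n hn (by omega)]

theorem psp_case {S : Type} [Group S] {q p f : ℕ} (hp : p.Prime) (hq : q = p ^ f) (hf : 1 ≤ f) (h3 : 3 ≤ q)
    (h : OrdDiv.Real (.psp 2 q) S) : Nat.card (MulAut S) = (if 2 = 2 ∧ p = 2 then 2 else 1) *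
      (f * (q ^ (2 ^ 2) * ∏ i ∈ Finset.range 2, (q ^ (2 * (i + 1)) - 1))) := by
  obtain ⟨F, i1, i2, hF, ⟨e⟩⟩ := h
  rw [card_mulAut_congr e, H421.PglSp.card_mulAut_psp hp hf (hF.trans hq) (le_refl 2) (fun _ => by rw [hF]; exact h3),
    hF]

/-- **The names.** -/
theorem names (tab : OrderTable.{0}) {S : Type} [Group S] (hK : IsKnownSimple' S) (hna : ¬ ∀ a b : S, a * b = b * a)
    (hd : Nat.card S ∣ NN) (h13 : 13 ∣ Nat.card (MulAut S)) (h17 : 17 ∣ Nat.card (MulAut S)) :
    Nat.card S = NN ∨ (Nat.card S = 1018368000 ∧ Nat.card (MulAut S) = 4 * Nat.card S ∧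
      ∃ (F : Type) (_ : Field F) (_ : Fintype F), Fintype.card F = 4 ^ 2 ∧ Nonempty (S ≃* PSU 4 F 4)) := by
  obtain ⟨g, hg, hr, hc⟩ := exists_good tab hK hna (l := [(2, 20), (3, 2), (5, 4), (13, 1), (17, 1), (41, 1)])
    (N := NN) (by decide +kernel) hd
  rw [cands_eq] at hg
  simp only [List.mem_cons, List.not_mem_nil, or_false] at hg
  rcases hg with rfl | rfl | rfl | rfl | rfl | rfl | rfl | rfl | rfl | rfl | rfl | rfl | rfl
  · exfalso
    obtain ⟨e⟩ := hr
    rw [card_mulAut_congr e, H659.HerAlt.card_aut (le_refl 5) (by norm_num)] at h13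
    revert h13
    decide
  · exfalso
    obtain ⟨e⟩ := hr
    rw [card_mulAut_congr e, H824.ProdLem.card_aut_a6] at h13
    norm_num at h13
  · exfalso
    rw [psl_case (p := 2) (f := 2) Nat.prime_two (by norm_num) (by norm_num) (by norm_num) hr, hc,
      show ordN (.psl 2 4) = 60 by decide +kernel] at h13
    norm_num at h13
  · exfalso
    rw [psl_case (p := 2) (f := 4) Nat.prime_two (by norm_num) (by norm_num) (by norm_num) hr, hc,
      show ordN (.psl 2 16) = 4080 by decide +kernel] at h13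
    norm_num at h13
  · exfalso
    rw [psl_case (p := 3) (f := 2) Nat.prime_three (by norm_num) (by norm_num) (by norm_num) hr, hc,
      show ordN (.psl 2 9) = 360 by decide +kernel] at h13
    norm_num at h13
  · exfalso
    rw [psl_case (p := 5) (f := 1) (by norm_num) (by norm_num) (by norm_num) (by norm_num) hr, hc,
      show ordN (.psl 2 5) = 60 by decide +kernel] at h13
    norm_num at h13
  · exfalso
    rw [psl_case (p := 5) (f := 2) (by norm_num) (by norm_num) (by norm_num) (by norm_num) hr, hc,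
      show ordN (.psl 2 25) = 7800 by decide +kernel] at h17
    norm_num at h17
  · exfalso
    rw [psl_case (p := 17) (f := 1) (by norm_num) (by norm_num) (by norm_num) (by norm_num) hr, hc,
      show ordN (.psl 2 17) = 2448 by decide +kernel] at h13
    norm_num at h13
  · exfalso
    rw [psp_case (p := 2) (f := 2) Nat.prime_two (by norm_num) (by norm_num) (by norm_num) hr] at h13
    simp only [Finset.prod_range_succ, Finset.prod_range_zero] at h13
    norm_num at h13
  · exfalso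
    rw [psp_case (p := 5) (f := 1) (by norm_num) (by norm_num) (by norm_num) (by norm_num) hr] at h17
    simp only [Finset.prod_range_succ, Finset.prod_range_zero] at h17
    norm_num at h17
  · exfalso
    rw [psu_case (le_refl 3) hr, hc, show ordN (.psu 3 4) = 62400 by decide +kernel] at h17
    norm_num at h17
  · right
    refine ⟨by rw [hc]; decide +kernel, ?_, ?_⟩
    · rw [psu_case (by norm_num) hr]
      norm_num
    · obtain ⟨F, i1, i2, hF, e⟩ := hr
      exact ⟨F, i1, i2, hF, e⟩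
  · left
    rw [hc]
    decide +kernel

/-- **Almost simple subgroups.** -/
theorem res (tab : OrderTable.{0}) (hK : ∀ (X : Type) [Group X] [Finite X] [IsSimpleGroup X], Cfsg.IsKnownSimple' X)
    {F : Type} [Field F] [Fintype F] (hF : Fintype.card F = 4 ^ 2) {M : Subgroup (PSU 5 F 4)} (hM : M ≠ ⊤)
    {P : Subgroup (GL (Fin 5) F)} (hP : H264.FKS.SocleOf M P) (h13 : 13 ∣ Nat.card M) (h17 : 17 ∣ Nat.card M) :
    ¬ 41 ∣ Nat.card M ∧ ∀ z ∈ M, orderOf z ≠ 39 := by
  obtain ⟨S, hSn, hSs, hna, hC, -⟩ := hP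
  have hfin : Finite (PSU 5 F 4) := Quotient.finite _
  have hMT : Nat.card M ∣ NN := by
    rw [← card_u54 hF]
    exact Subgroup.card_subgroup_dvd_card M
  have hSM : Nat.card S ∣ Nat.card M := Subgroup.card_subgroup_dvd_card S
  have hMA := card_dvd_aut S hC
  have hna' : ¬ ∀ a b : S, a * b = b * a := fun h => hna ⟨⟨h⟩⟩
  rcases names tab (hK S) hna' (hSM.trans hMT) (h13.trans hMA) (h17.trans hMA) with h | ⟨h1, h2, F', i1, i2, hF', ⟨e⟩⟩
  · exfalso
    apply hM
    apply Subgroup.eq_top_of_card_eq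
    rw [card_u54 hF]
    rw [h] at hSM
    exact Nat.dvd_antisymm hMT hSM
  · rw [h2, h1] at hMA
    refine ⟨fun h41 => ?_, fun z hz ho => ?_⟩
    · have := h41.trans hMA
      norm_num at this
    · have hidx : S.index ∣ 4 := by
        have h3 := S.card_mul_index
        rw [h1] at h3
        rw [← h3, mul_comm 4] at hMA
        exact Nat.dvd_of_mul_dvd_mul_left (by norm_num) hMA
      obtain ⟨y, hy⟩ : ∃ y : M, orderOf y = 39 := ⟨⟨z, hz⟩, by rw [Subgroup.orderOf_mk, ho]⟩
      have h4 : ∀ k, S.index ∣ k → y ^ k ∈ S := by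
        rintro _ ⟨k, rfl⟩
        rw [pow_mul]
        exact S.pow_mem (S.pow_index_mem _) k
      have h4 := h4 4 hidx
      have h5 : orderOf (y ^ 4) = 39 := by
        rw [orderOf_pow, hy]
        norm_num
      apply no_ord_four hF' (e ⟨_, h4⟩)
      rw [MulEquiv.orderOf_eq, Subgroup.orderOf_mk, h5]

end Cfsg.Agent.H104.U54
end
end
end
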