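import Cfsg.Agent.H410.Three.Psl2_mg_m3
import Cfsg.Agent.H896.Der4.Even_m3
import Cfsg.Agent.S0806
import Cfsg.Agent.LieClassical.OrthFourMinus
import Cfsg.Agent.H896.Der4.Odd_m3
import Cfsg.Agent.H580.Der.Ntc_m3
import Cfsg.Agent.H602.Der.Tools_m3
import Cfsg.Agent.H602.Der.PCube
import Cfsg.Agent.Lib.MinNormal
import Cfsg.Agent.Lib.SubnormalJoin
import Cfsg.Agent.S0494
import Cfsg.Agent.S0497
import Cfsg.Agent.Lib.FastPerm
import Cfsg.Agent.H188.Der.U35B_m3
import Cfsg.Agent.H604.Sax.RowsCo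
import Cfsg.Agent.H450.NF.Local
import Cfsg.Agent.H153.ZerosHS
import Cfsg.Agent.FastGrp
import Cfsg.Agent.Prune
set_option linter.all false

section
prune_inst 0x7ffda9fc7bb879dfdfff7e7fae94ddfc3b929fffecdff94bffe869ff0fdf230e09c5f3a589e010fe1ef6c21410a87843fffffeffe26fd87ffffd1ff45ffbee5ff5f6bd08519688340fbc0fff6bf0778e7f3fffffffffffffffffffffffffffbeffbfffffffff

-- part: H580/Der/EvenM
section
prune_inst 0x25600840704002000000051690203c06d600003000230001796009020d8f1d238080a760fe901a0013ca32a550394000000000990040000004003000411a00a0900350069308a104260009008884000000000000000000000000000000041004000000000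
set_option linter.all false
open scoped Cfsg.Agent.FastGrp

/-!
# `PSp_4(q)`, `q ≥ 8` even: missing classes of maximal subgroups (helper580, for S3502)
-/

set_option autoImplicit false

namespace Cfsg.Agent.H580.Der.EvenM

open Module Cfsg Cfsg.Geo Cfsg.Agent.H884.El Matrix
open Cfsg.Agent.H262.El (pre pre_le pre_ne scalars_le_pre mem_pre spToGL_injective two_le_of_symp)
open Cfsg.Agent.ClassicalGeometry.SympBasic Cfsg.Agent.H876 Cfsg.Agent.H931
open Cfsg.Agent.H938.Sax (PGap OrdGap OGMax)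
open Cfsg.Agent.H374.SpFour Cfsg.Agent.H374.Quad Cfsg.Agent.H901.SaxSp Cfsg.Agent.H439.Der Cfsg.Agent.H896.Der4
open Cfsg.Agent.H580.Der.EvenQ
open scoped MatrixGroups Matrix

section num

theorem split {q : ℕ} (hq : 1 ≤ q) : q ^ 4 - 1 = (q - 1) * (q + 1) * (q ^ 2 + 1) := by
  obtain ⟨c, rfl⟩ : ∃ c, q = c + 1 := ⟨q - 1, by omega⟩
  have : (c + 1) ^ 4 = c * (c + 1 + 1) * ((c + 1) ^ 2 + 1) + 1 := by ring
  rw [this]
  simp only [_root_.add_tsub_cancel_right]

/-- the `r`-part of the order. -/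
theorem not_dvd_card {f e e' r a N : ℕ} (hf : 1 ≤ f) (hee : (e = 2 ^ f - 1 ∧ e' = 2 ^ f + 1) ∨ (e = 2 ^ f + 1 ∧ e' = 2 ^ f - 1))
    (hr : r.Prime) (hr2 : r ≠ 2) (hre : r ∣ e) (ha : ¬ r ^ (a + 1) ∣ e)
    (hN : N ∣ 2 * (2 ^ f) ^ 2 * ((2 ^ f) ^ 4 - 1)) : ¬ r ^ (a + 1) ∣ N := by
  intro h
  have h1 := h.trans hN
  obtain ⟨q, hq⟩ : ∃ q, q = 2 ^ f := ⟨_, rfl⟩
  have hq2 : 2 ≤ q := by rw [hq]; calc 2 = 2 ^ 1 := by norm_num
                          _ ≤ _ := Nat.pow_le_pow_right (by norm_num) hf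
  have hprod : (q - 1) * (q + 1) = e * e' := by rw [hq]; rcases hee with ⟨h1, h2⟩ | ⟨h1, h2⟩ <;> rw [h1, h2]; ring
  have c2 : Nat.Coprime r 2 := (Nat.coprime_primes hr Nat.prime_two).2 hr2
  have cq : Nat.Coprime r q := by rw [hq]; exact c2.pow_right f
  have ce' : Nat.Coprime r e' := by
    refine (Nat.Prime.coprime_iff_not_dvd hr).2 fun h2 => hr2 ?_
    have h3 : r ∣ 2 := by
      rcases hee with ⟨h4, h5⟩ | ⟨h4, h5⟩
      · have := Nat.dvd_sub h2 hre
        rwa [h4, h5, ← hq, show q + 1 - (q - 1) = 2 by (clear * - hq2; omega)] at this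
      · have := Nat.dvd_sub hre h2
        rwa [h4, h5, ← hq, show q + 1 - (q - 1) = 2 by omega] at this
    exact (Nat.prime_dvd_prime_iff_eq hr Nat.prime_two).1 h3
  have cq1 : Nat.Coprime r (q ^ 2 + 1) := by
    refine (Nat.Prime.coprime_iff_not_dvd hr).2 fun h2 => hr2 ?_
    have h3 : r ∣ q ^ 2 - 1 := by
      rw [Cfsg.Agent.H374.Quad.sq_sub_one q (by omega), hprod]
      exact hre.mul_right _
    have h4 := Nat.dvd_sub h2 h3
    have h5 : 1 ≤ q ^ 2 := Nat.one_le_pow _ _ (by omega)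
    rw [show q ^ 2 + 1 - (q ^ 2 - 1) = 2 by omega] at h4
    exact (Nat.prime_dvd_prime_iff_eq hr Nat.prime_two).1 h4
  rw [← hq, split (by omega), hprod, show 2 * q ^ 2 * (e * e' * (q ^ 2 + 1)) = e * (2 * q ^ 2 * e' * (q ^ 2 + 1)) by ring]
    at h1
  refine ha (Nat.Coprime.dvd_of_dvd_mul_right ?_ h1)
  apply Nat.Coprime.pow_left
  exact ((c2.mul_right (cq.pow_right 2)).mul_right ce').mul_right cq1

/-- a prime divisor different from three. -/
theorem exists_prime_ne_three {e : ℕ} (h1 : e ≠ 0) (h3 : ∀ k, e ≠ 3 ^ k) : ∃ r, r.Prime ∧ r ≠ 3 ∧ r ∣ e := by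
  by_contra hcon
  push Not at hcon
  have h2 := Nat.eq_prime_pow_of_unique_prime_dvd (n := e) (p := 3) h1 (fun {d} hd hdn => by
    by_contra h
    exact hcon d hd h hdn)
  exact h3 _ h2

theorem two_pow_ne {f : ℕ} (hf : 4 ≤ f) (k : ℕ) : 2 ^ f - 1 ≠ 3 ^ k ∧ 2 ^ f + 1 ≠ 3 ^ k := by
  obtain ⟨g, rfl⟩ : ∃ g, f = 4 + g := ⟨f - 4, by omega⟩
  have h80 : 3 ^ k % 80 = 1 ∨ 3 ^ k % 80 = 3 ∨ 3 ^ k % 80 = 9 ∨ 3 ^ k % 80 = 27 := by
    induction k with
    | zero => left; norm_num
    | succ k ih => rw [pow_succ]; (clear * - ih; solve | lia | omega)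
  have h16 : 2 ^ (4 + g) = 16 * 2 ^ g := by rw [pow_add]; norm_num
  have hpos : 1 ≤ 2 ^ g := Nat.one_le_two_pow
  have h5 : ¬ 5 ∣ 2 ^ g := fun h => by
    have := Nat.Prime.dvd_of_dvd_pow (by norm_num) h
    omega
  rw [h16]
  constructor
  · omega
  · intro h
    omega

end num

variable {F : Type} [Field F] [Fintype F] [CharP F 2]

/-- **three missing classes** -/
theorem three_of_card {f : ℕ} (hf : 4 ≤ f) (hF : Fintype.card F = 2 ^ f)
    {M : Subgroup (Matrix.symplecticGroup (Fin 2) F)} (hM : Nat.card M ∣ 2 * (2 ^ f) ^ 2 * ((2 ^ f) ^ 4 - 1)) :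
    Three (Matrix.symplecticGroup (Fin 2) F) M := by
  obtain ⟨q, hq⟩ : ∃ q, q = 2 ^ f := ⟨_, rfl⟩
  have hq16 : 16 ≤ q := by
    rw [hq]
    calc 16 = 2 ^ 4 := by norm_num
      _ ≤ _ := Nat.pow_le_pow_right (by norm_num) hf
  have heven : Even q := by rw [hq]; exact Even.pow_of_ne_zero even_two (by omega)
  obtain ⟨e, e', hee, h3e⟩ : ∃ e e', ((e = 2 ^ f - 1 ∧ e' = 2 ^ f + 1) ∨ (e = 2 ^ f + 1 ∧ e' = 2 ^ f - 1)) ∧ 3 ∣ e := by
    have h3 : ¬ 3 ∣ q := fun h => by
      rw [hq] at h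
      have := Nat.prime_three.dvd_of_dvd_pow h
      omega
    by_cases h : 3 ∣ 2 ^ f - 1
    · exact ⟨_, _, Or.inl ⟨rfl, rfl⟩, h⟩
    · exact ⟨_, _, Or.inr ⟨rfl, rfl⟩, by omega⟩
  have he16 : 15 ≤ e ∧ 15 ≤ e' := by omega
  have heo : Odd e ∧ Odd e' := by
    rw [← hq] at hee
    obtain ⟨k, hk⟩ := heven
    rcases hee with ⟨h1, h2⟩ | ⟨h1, h2⟩
    · exact ⟨⟨k - 1, by (clear * - hq16 hk h1; omega)⟩, ⟨k, by omega⟩⟩
    · exact ⟨⟨k, by omega⟩, ⟨k - 1, by (clear * - hq16 hk h2; omega)⟩⟩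
  have hcop : ∀ s : ℕ, s ∣ e → s ∣ e' → s ∣ 2 := by
    intro s h1 h2
    rcases hee with ⟨h4, h5⟩ | ⟨h4, h5⟩
    · have := Nat.dvd_sub h2 h1
      rwa [h4, h5, ← hq, show q + 1 - (q - 1) = 2 by omega] at this
    · have := Nat.dvd_sub h1 h2
      rwa [h4, h5, ← hq, show q + 1 - (q - 1) = 2 by (clear * - hq16; omega)] at this
  have hee' : (e' = 2 ^ f - 1 ∧ e = 2 ^ f + 1) ∨ (e' = 2 ^ f + 1 ∧ e = 2 ^ f - 1) := by
    rcases hee with ⟨h1, h2⟩ | ⟨h1, h2⟩
    · exact Or.inr ⟨h2, h1⟩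
    · exact Or.inl ⟨h2, h1⟩
  have hcard : ∀ n, (n ∣ e ∨ n ∣ e') → n ∣ Fintype.card F - 1 ∨ n ∣ Fintype.card F + 1 := by
    intro n hn
    rw [hF]
    rcases hee with ⟨h1, h2⟩ | ⟨h1, h2⟩ <;> rw [h1, h2] at hn
    · exact hn
    · exact hn.symm
  -- the prime `r`
  obtain ⟨r, hr, hr3, hre⟩ := exists_prime_ne_three (e := e) (by omega) (fun k => by
    have := two_pow_ne hf k
    rcases hee with ⟨h1, h2⟩ | ⟨h1, h2⟩
    · rw [h1]; exact this.1
    · rw [h1]; exact this.2)
  have hr2 : r ≠ 2 := by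
    rintro rfl
    exact (Nat.not_even_iff_odd.2 heo.1) (even_iff_two_dvd.2 hre)
  obtain ⟨a, ha⟩ : ∃ a, a = e.factorization r := ⟨_, rfl⟩
  have ha1 : r ^ a ∣ e := by rw [ha]; exact Nat.ordProj_dvd _ _
  have ha2 : ¬ r ^ (a + 1) ∣ e := by rw [ha]; exact Nat.pow_succ_factorization_not_dvd (by omega) hr
  have ha0 : a ≠ 0 := by
    rintro rfl
    exact ha2 (by simpa using hre)
  have hr5 : 5 ≤ r := by
    have := hr.two_le
    have h4 : r ≠ 4 := by rintro rfl; exact absurd hr (by norm_num)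
    omega
  have hra5 : 5 ≤ r ^ a := hr5.trans (Nat.le_self_pow ha0 r)
  -- the prime `s`
  obtain ⟨s, hs, hse⟩ := Nat.exists_prime_and_dvd (n := e') (by omega)
  have hs2 : s ≠ 2 := by
    rintro rfl
    exact (Nat.not_even_iff_odd.2 heo.2) (even_iff_two_dvd.2 hse)
  have hs3 : s ≠ 3 := by
    rintro rfl
    have := Nat.le_of_dvd (by norm_num) (hcop 3 h3e hse)
    omega
  obtain ⟨b, hb⟩ : ∃ b, b = e'.factorization s := ⟨_, rfl⟩
  have hb1 : s ^ b ∣ e' := by rw [hb]; exact Nat.ordProj_dvd _ _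
  have hb2 : ¬ s ^ (b + 1) ∣ e' := by rw [hb]; exact Nat.pow_succ_factorization_not_dvd (by omega) hs
  have hb0 : b ≠ 0 := by
    rintro rfl
    exact hb2 (by simpa using hse)
  have hs5 : 5 ≤ s := by
    have := hs.two_le
    have h4 : s ≠ 4 := by rintro rfl; exact absurd hs (by norm_num)
    omega
  have hsb5 : 5 ≤ s ^ b := hs5.trans (Nat.le_self_pow hb0 s)
  have hse' : ¬ s ∣ e := fun h => hs2 ((Nat.prime_dvd_prime_iff_eq hs Nat.prime_two).1 (hcop s h hse))
  have h3ra : 3 * r ^ a ∣ e := by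
    apply Nat.Coprime.mul_dvd_of_dvd_of_dvd _ h3e ha1
    apply Nat.Coprime.pow_right
    exact (Nat.coprime_primes Nat.prime_three hr).2 (Ne.symm hr3)
  have p1 := P_of hr hr2 hra5 (M := M) (not_dvd_card (by omega) hee hr hr2 hre ha2 hM) (c := 1) odd_one
    (hcard _ (Or.inl (by rwa [one_mul])))
  have p2 := P_of hr hr2 hra5 (M := M) (not_dvd_card (by omega) hee hr hr2 hre ha2 hM) (c := 3) (by decide)
    (hcard _ (Or.inl h3ra))
  have p3 := P_of hs hs2 hsb5 (M := M) (not_dvd_card (by omega) hee' hs hs2 hse hb2 hM) (c := 1) odd_one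
    (hcard _ (Or.inr (by rwa [one_mul])))
  have o1 : Odd (r ^ a) := (hr.odd_of_ne_two hr2).pow
  have o2 : Odd (s ^ b) := (hs.odd_of_ne_two hs2).pow
  refine three_of_P (odd_one.mul o1) (Odd.mul (by decide) o1) (odd_one.mul o2) (by omega) ?_ ?_ p1 p2 p3
  · intro h
    rw [one_mul, one_mul] at h
    exact hse' ((dvd_pow_self s hb0).trans (h ▸ ha1))
  · intro h
    rw [one_mul] at h
    exact hse' ((dvd_pow_self s hb0).trans (h ▸ h3ra))

/-- **two missing classes**, `q = 8`. -/
theorem P_of_eight (hF : Fintype.card F = 8)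
    {M : Subgroup (Matrix.symplecticGroup (Fin 2) F)} (hM : Nat.card M ∣ 2 * (2 ^ 3) ^ 2 * ((2 ^ 3) ^ 4 - 1)) :
    P M 7 ∧ P M 9 := by
  have h1 := P_of (F := F) (M := M) (r := 7) (a := 1) (c := 1) (by norm_num) (by norm_num) (by norm_num)
    (fun h => absurd (h.trans hM) (by norm_num)) odd_one (Or.inl (by rw [hF]; norm_num))
  have h2 := P_of (F := F) (M := M) (r := 3) (a := 2) (c := 1) (by norm_num) (by norm_num) (by norm_num)
    (fun h => absurd (h.trans hM) (by norm_num)) odd_one (Or.inr (by rw [hF]; norm_num))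
  norm_num at h1 h2
  exact ⟨h1, h2⟩

/-- the order of the exceptional subgroups. -/
theorem card_exc {f : ℕ} (hf : 1 ≤ f) (hF : Fintype.card F = 2 ^ f) {M : Subgroup (PSp 2 F)}
    (h : InOMinus 2 F (pre M) ∨ InExt 2 F (pre M)) : Nat.card M ∣ 2 * (2 ^ f) ^ 2 * ((2 ^ f) ^ 4 - 1) := by
  have hι : Fintype.card (Fin 2 ⊕ Fin 2) = 4 := by simp
  refine (card_dvd_pre M).trans ?_
  rcases h with ⟨-, -, Q, hpol, hnP, hQe⟩ | ⟨-, K, hK, hsa, halt, hKe⟩
  · have hnd : Cfsg.Agent.LieClassical.OrthCore.Nondeg Q := by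
      intro x hx
      apply eq_zero_of_forall_sympForm_right
      intro y
      rw [← hpol]
      exact hx y
    refine (Subgroup.card_dvd_of_le hQe).trans ?_
    rw [Cfsg.Agent.H957.card_isometryGroup_minus Q hnd (m := 2) (by norm_num) hι hnP, hF]
    refine dvd_of_eq ?_
    have hq : 1 < (2 ^ f) ^ 2 := Nat.one_lt_pow (by norm_num) (Nat.one_lt_pow (by omega) (by norm_num))
    simp only [Nat.reduceSub, Finset.range_one, Finset.prod_singleton, zero_add, mul_one]
    obtain ⟨c, hc⟩ : ∃ c, (2 ^ f) ^ 2 = c + 1 := ⟨_, (Nat.sub_add_cancel hq.le).symm⟩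
    rw [show (2 ^ f) ^ 4 = ((2 ^ f) ^ 2) ^ 2 by ring, hc, Nat.add_sub_cancel]
    have : (c + 1) ^ 2 - 1 = (c + 1 + 1) * c := by
      have : (c + 1) ^ 2 = (c + 1 + 1) * c + 1 := by ring
      rw [this, Nat.add_sub_cancel]
    rw [this]
    ring
  · have h1 : pre M ≤ subalgebraNormalizer K ⊓ spGL 2 F := le_inf hKe (pre_le M)
    refine (Subgroup.card_dvd_of_le h1).trans ?_
    rw [← hF]
    exact Cfsg.Agent.H813.SaxSp.card_field hK hsa halt

/-- **maximal subgroups of `PSp_4(q)`, `q ≥ 8` even.** -/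
theorem three_or (h8 : 8 ≤ Fintype.card F) {M : Subgroup (PSp 2 F)} (hM : IsCoatom M) :
    Three (PSp 2 F) M ∨ (Fintype.card F = 8 ∧ (InOMinus 2 F (pre M) ∨ InExt 2 F (pre M))) := by
  have hntc := Cfsg.Agent.H580.Der.Ntc.ntc (F := F) (by omega)
  have hp2 : Fact (Nat.Prime 2) := ⟨Nat.prime_two⟩
  obtain ⟨N, hN3, hF⟩ : ∃ N : ℕ, 3 ≤ N ∧ Fintype.card F = 2 ^ N := by
    obtain ⟨n, -, hn⟩ := FiniteField.card F 2
    refine ⟨n, ?_, hn⟩
    by_contra hcon
    have h1 : (n : ℕ) ≤ 2 := by omega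
    have h2 := Nat.pow_le_pow_right (show 0 < 2 by norm_num) h1
    omega
  have heven : Even (2 ^ N) := Even.pow_of_ne_zero even_two (by omega)
  have hodd : ¬ Odd (Fintype.card F) := by rw [hF]; exact Nat.not_odd_iff_even.2 heven
  have hspec := exists_iff (F := F) (p := 2) (n := N) (by omega) hF (by omega)
  have exc : (InOMinus 2 F (pre M) ∨ InExt 2 F (pre M)) →
      Three (PSp 2 F) M ∨ (Fintype.card F = 8 ∧ (InOMinus 2 F (pre M) ∨ InExt 2 F (pre M))) := by
    intro h
    rcases Nat.lt_or_ge N 4 with h4 | h4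
    · right
      have : N = 3 := by omega
      exact ⟨by rw [hF, this]; norm_num, h⟩
    · left
      have hc := card_exc (F := F) (by omega) hF h
      have hcard : Nat.card (M.comap (Cfsg.Agent.GpSp.Row.toPSp F 2).toMonoidHom) = Nat.card M :=
        Nat.card_congr ((Cfsg.Agent.GpSp.Row.toPSp F 2).toEquiv.subtypeEquiv (fun _ => Iff.rfl))
      exact Three.congr (Cfsg.Agent.GpSp.Row.toPSp F 2) (three_of_card h4 hF (by rw [hcard]; exact hc))
  rcases psp_cases (m := 2) le_rfl (by rintro ⟨-, h⟩; omega) (by omega) (fun _ => hodd) hM.1 with h | h | h | h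
  · exact Or.inl (Three.of_pgap hntc h)
  · -- the Suzuki groups
    left
    obtain ⟨P, m, hcore, hm, hF', ⟨e⟩⟩ := S5791.result hodd (by omega) (pre M) (Cfsg.Agent.H901.SaxSp.isMaximalIn_pre hM) h
    have hNm : 2 ^ N = 2 ^ (2 * m + 1) := by rw [← hF, hF']
    have hdvd := Cfsg.Agent.H753.ResCard.card_dvd (Cfsg.Agent.H901.SaxSp.isMaximalIn_pre hM).1.le hcore
    have hnot := sz_not_dvd hm hF' e
    rw [← hNm] at hnot
    obtain ⟨x, hx⟩ := (hspec (2 ^ N + 1)).2 (Or.inr (Or.inl (dvd_mul_left _ _)))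
    obtain ⟨y, hy⟩ := (hspec (2 * (2 ^ N + 1))).2 (Or.inr (Or.inl dvd_rfl))
    obtain ⟨z, hz⟩ := (hspec ((2 ^ N - 1) * (2 ^ N + 1))).2 (Or.inr (Or.inr (Or.inl (by
      rw [gcd_of_even heven (by omega), Nat.div_one, Cfsg.Agent.H374.Quad.sq_sub_one _ (by omega)]))))
    have key : ∀ w ∈ M, 2 ^ N + 1 ∣ orderOf w → False := by
      intro w hw hd
      apply hnot
      refine hd.trans (Dvd.dvd.trans ?_ hdvd)
      rw [← Subgroup.orderOf_mk w hw]
      exact (orderOf_dvd_natCard _).trans (card_dvd_pre M)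
    have hq8 : 8 ≤ 2 ^ N := by rw [← hF]; exact h8
    refine Three.of_orders ?_ ?_ ?_ hx hy hz (fun w hw h => key w hw (by rw [h])) (fun w hw h => key w hw ?_)
      (fun w hw h => key w hw ?_)
    · omega
    · intro h
      have h1 : 2 * (2 ^ N + 1) ≤ (2 ^ N - 1) * (2 ^ N + 1) := Nat.mul_le_mul_right _ (by omega)
      omega
    · intro h
      have h1 : 3 * (2 ^ N + 1) ≤ (2 ^ N - 1) * (2 ^ N + 1) := Nat.mul_le_mul_right _ (by omega)
      omega
    · rw [h]
      exact dvd_mul_left _ _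
    · rw [h]
      exact dvd_mul_left _ _
  · exact exc (Or.inl h)
  · exact exc (Or.inr h)

/-- **`q = 8`**: the exceptional maximal subgroups are `Two`, and their subgroups without elements of order `4`, `63` or `65`
are `Three`. -/
theorem eight (h8 : Fintype.card F = 8) {M : Subgroup (PSp 2 F)} (h : InOMinus 2 F (pre M) ∨ InExt 2 F (pre M)) :
    Two (PSp 2 F) M ∧ ∀ R ≤ M, (¬ ((∃ x ∈ R, orderOf x = 63) ∧ (∃ x ∈ R, orderOf x = 65) ∧ ∃ x ∈ R, orderOf x = 4)) →
      Three (PSp 2 F) R := by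
  have hF : Fintype.card F = 2 ^ 3 := by rw [h8]; norm_num
  have hp2 : Fact (Nat.Prime 2) := ⟨Nat.prime_two⟩
  have hspec := exists_iff (F := F) (p := 2) (n := 3) (by norm_num) hF (by norm_num)
  have hc := card_exc (F := F) (by norm_num) hF h
  let e := Cfsg.Agent.GpSp.Row.toPSp F 2
  have hcard : ∀ R : Subgroup (PSp 2 F), Nat.card (R.comap e.toMonoidHom) = Nat.card R := fun R =>
    Nat.card_congr (e.toEquiv.subtypeEquiv (fun _ => Iff.rfl))
  constructor
  · obtain ⟨h7, h9⟩ := P_of_eight h8 (M := M.comap e.toMonoidHom) (by rw [hcard]; exact hc)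
    exact Two.congr e (two_of_P (by decide) (by decide) (by norm_num) h7 h9)
  · intro R hRM hno
    obtain ⟨h7, h9⟩ := P_of_eight h8 (M := R.comap e.toMonoidHom)
      (by rw [hcard]; exact (Subgroup.card_dvd_of_le hRM).trans hc)
    obtain ⟨x, hx, hx'⟩ := h7
    obtain ⟨y, hy, hy'⟩ := h9
    have key : ∀ n : ℕ, (n = 63 ∨ n = 65 ∨ n = 4) → (∀ m ∈ R, orderOf m ≠ n) → Three (PSp 2 F) R := by
      intro n hn hm
      obtain ⟨z, hz⟩ := (hspec n).2 (by
        rcases hn with rfl | rfl | rfl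
        · right; right; left; norm_num
        · right; right; right; left; norm_num
        · right; right; right; right; right; exact ⟨rfl, dvd_rfl⟩)
      refine Three.congr e ⟨x, y, e.symm z, hx', hy', fun φ hφ => ?_, ne_of_odd (by decide) (by decide) (by norm_num) hx hy,
        fun φ hφ => ?_, fun φ hφ => ?_⟩
      · refine hm _ hφ ?_
        have : orderOf (e.toMonoidHom (φ (e.symm z))) = orderOf (e (φ (e.symm z))) := rfl
        rw [this, MulEquiv.orderOf_eq, MulEquiv.orderOf_eq, MulEquiv.orderOf_eq, hz]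
      · have h1 : orderOf (φ x) = n := by rw [hφ, MulEquiv.orderOf_eq, hz]
        rw [MulEquiv.orderOf_eq] at h1
        omega
      · have h1 : orderOf (φ y) = n := by rw [hφ, MulEquiv.orderOf_eq, hz]
        rw [MulEquiv.orderOf_eq] at h1
        omega
    by_cases h1 : ∃ x ∈ R, orderOf x = 63
    · by_cases h2 : ∃ x ∈ R, orderOf x = 65
      · by_cases h3 : ∃ x ∈ R, orderOf x = 4
        · exact absurd ⟨h1, h2, h3⟩ hno
        · push Not at h3
          exact key 4 (by norm_num) h3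
      · push Not at h2
        exact key 65 (by norm_num) h2
    · push Not at h1
      exact key 63 (by norm_num) h1

end Cfsg.Agent.H580.Der.EvenM
end

-- part: H580/Der/Eight
section
prune_inst 0x20003804502200000000000080001c428200000000480000000002000d890c0080008020b03000001080808440300000000000000000000000000000011800801000020000400000000000000000000000000000000000000000000000000000000000000
set_option linter.all false
open scoped Cfsg.Agent.FastGrp

/-!
# `PSp_4(8)`: proper subgroups of `SL_2(64).2` (helper580, for S3502)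
-/

set_option autoImplicit false

namespace Cfsg.Agent.H580.Der.Eight

open Module Cfsg Cfsg.Geo Cfsg.Agent.H884.El Matrix
open Cfsg.Agent.H262.El (pre pre_le pre_ne scalars_le_pre mem_pre spToGL_injective two_le_of_symp)
open Cfsg.Agent.ClassicalGeometry.SympBasic Cfsg.Agent.H876 Cfsg.Agent.H931
open Cfsg.Agent.H374.SpFour Cfsg.Agent.H374.Quad Cfsg.Agent.H901.SaxSp Cfsg.Agent.H439.Der Cfsg.Agent.H896.Der4
open Cfsg.Agent.H580.Der.EvenQ
open scoped MatrixGroups Matrix

section abstract_part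

variable {L : Type} [Field L] [Fintype L]

theorem char_two_of_card (hL : Fintype.card L = 64) : CharP L 2 := by
  obtain ⟨p, hp⟩ := CharP.exists L
  obtain ⟨n, hpp, hn⟩ := FiniteField.card L p
  have h1 : p ∣ 2 ^ 6 := by
    rw [show 2 ^ 6 = Fintype.card L by rw [hL]; norm_num, hn]
    exact dvd_pow_self p n.2.ne'
  have h2 := (Nat.prime_dvd_prime_iff_eq hpp Nat.prime_two).1 (hpp.dvd_of_dvd_pow h1)
  rwa [h2] at hp

omit [Fintype L] in
/-- in characteristic two `SL_2 → PSL_2` is injective. -/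
theorem mk_injective [CharP L 2] :
    Function.Injective (QuotientGroup.mk' (Subgroup.center (Matrix.SpecialLinearGroup (Fin 2) L))) := by
  rw [injective_iff_map_eq_one]
  intro A hA
  rw [QuotientGroup.mk'_apply, QuotientGroup.eq_one_iff, Matrix.SpecialLinearGroup.mem_center_iff] at hA
  obtain ⟨c, hc, hcA⟩ := hA
  have hc1 : c = 1 := by
    rw [Fintype.card_fin] at hc
    have h3 : (c - 1) ^ 2 = 0 := by
      rw [sub_pow_char]
      simp [hc]
    exact sub_eq_zero.1 (pow_eq_zero_iff two_ne_zero |>.1 h3)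
  apply Subtype.ext
  rw [← hcA, hc1, map_one]
  rfl

omit [Fintype L] in
/-- no elements of order four in `PSL_2(2^n)`. -/
theorem psl_no_four [CharP L 2] {x : Matrix.ProjectiveSpecialLinearGroup (Fin 2) L} (hx : x ^ 4 = 1) : x ^ 2 = 1 := by
  obtain ⟨A, rfl⟩ := QuotientGroup.mk_surjective x
  have h1 : (QuotientGroup.mk (A ^ 4) : Matrix.ProjectiveSpecialLinearGroup (Fin 2) L) = 1 := hx
  rw [QuotientGroup.eq_one_iff, Matrix.SpecialLinearGroup.mem_center_iff] at h1
  obtain ⟨c, hc, hcA⟩ := h1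
  have hc1 : c = 1 := by
    rw [Fintype.card_fin] at hc
    have h3 : (c - 1) ^ 2 = 0 := by
      rw [sub_pow_char]
      simp [hc]
    exact sub_eq_zero.1 (pow_eq_zero_iff two_ne_zero |>.1 h3)
  have h4 : (A : Matrix (Fin 2) (Fin 2) L) ^ 4 = 1 := by
    have : ((A ^ 4 : Matrix.SpecialLinearGroup (Fin 2) L) : Matrix (Fin 2) (Fin 2) L) = A.1 ^ 4 :=
      Matrix.SpecialLinearGroup.coe_pow _ _
    rw [hc1, map_one] at hcA
    rw [← this, ← hcA]
  obtain ⟨B, hB⟩ : ∃ B : Matrix (Fin 2) (Fin 2) L, B = (A : Matrix (Fin 2) (Fin 2) L) := ⟨_, rfl⟩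
  have hdet : B.det = 1 := by rw [hB]; exact A.2
  rw [← hB] at h4
  have hcay := Cfsg.Agent.H813.SaxSp.cayley B hdet
  obtain ⟨τ, hτ⟩ : ∃ τ, τ = B 0 0 + B 1 1 := ⟨_, rfl⟩
  rw [← hτ] at hcay
  have h2 : (2 : L) = 0 := CharTwo.two_eq_zero
  have hsq : B * B = τ • B + 1 := by
    have h3 : B * B + (τ • B + 1) = 0 := by rw [← add_assoc]; exact hcay
    have h5 : (τ • B + 1) + (τ • B + 1) = 0 := by
      rw [← two_smul L (τ • B + 1), h2, zero_smul]
    calc B * B = B * B + ((τ • B + 1) + (τ • B + 1)) := by rw [h5, add_zero]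
      _ = (B * B + (τ • B + 1)) + (τ • B + 1) := (add_assoc _ _ _).symm
      _ = _ := by rw [h3, zero_add]
  have h6 : B ^ 4 = (τ * τ) • (B * B) + 1 := by
    calc B ^ 4 = (B * B) * (B * B) := by rw [show 4 = 2 + 2 from rfl, pow_add, pow_two]
      _ = (τ • B + 1) * (τ • B + 1) := by rw [hsq]
      _ = (τ * τ) • (B * B) + (2 : L) • (τ • B) + 1 := by
        rw [add_mul, mul_add, mul_one, one_mul, Matrix.smul_mul, Matrix.mul_smul, smul_smul, two_smul]
        abel
      _ = _ := by rw [h2, zero_smul, add_zero]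
  rw [h4] at h6
  have h7 : (τ * τ) • (B * B) = 0 := by
    have := congrArg (fun X => X - 1) h6
    simpa using this.symm
  have h8 : (τ * τ) • (1 : Matrix (Fin 2) (Fin 2) L) = 0 := by
    have h9 : (τ * τ) • ((B * B) * (B * B)) = 0 := by rw [← Matrix.smul_mul, h7, Matrix.zero_mul]
    rwa [show (B * B) * (B * B) = B ^ 4 by rw [show 4 = 2 + 2 from rfl, pow_add, pow_two], h4] at h9
  have h9 : τ = 0 := by
    have := congrFun (congrFun h8 0) 0
    simpa using this
  rw [h9, zero_smul, zero_add] at hsq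
  have h10 : A ^ 2 = 1 := by
    apply Subtype.ext
    have h11 : ((A ^ 2 : Matrix.SpecialLinearGroup (Fin 2) L) : Matrix (Fin 2) (Fin 2) L) = A.1 ^ 2 :=
      Matrix.SpecialLinearGroup.coe_pow _ _
    have h12 : A.1 ^ 2 = 1 := by
      have : A.1 = B := hB.symm
      rw [this, pow_two, hsq]
    exact h11.trans h12
  have h13 : (QuotientGroup.mk A : Matrix.ProjectiveSpecialLinearGroup (Fin 2) L) ^ 2 = QuotientGroup.mk (A ^ 2) := rfl
  rw [h13, h10]
  rfl

/-- **The abstract argument.** -/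
theorem eq_top_of {O : Type*} [Group O] [Finite O] (hO : Nat.card O ∣ 2 * (2 ^ 3) ^ 2 * ((2 ^ 3) ^ 4 - 1))
    (hL : Fintype.card L = 64) {N : Subgroup O} (hN : ∀ g : O, g ^ 2 ∈ N)
    {θ : N →* Matrix.ProjectiveSpecialLinearGroup (Fin 2) L} (hθ : Function.Injective θ) {R : Subgroup O}
    (h63 : ∃ x ∈ R, orderOf x = 63) (h65 : ∃ x ∈ R, orderOf x = 65) (h4 : ∃ x ∈ R, orderOf x = 4) : R = ⊤ := by
  have hchar := char_two_of_card hL
  have hodd : ∀ (x : O) (n : ℕ), x ^ (2 * n + 1) = 1 → x ∈ N := by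
    intro x n hx
    have h1 : x = (x ^ 2) ^ (n + 1) := by
      rw [← pow_mul, show 2 * (n + 1) = (2 * n + 1) + 1 by ring, pow_succ, hx, one_mul]
    rw [h1]
    exact N.pow_mem (hN x) _
  obtain ⟨x, hxR, hx⟩ := h63
  obtain ⟨y, hyR, hy⟩ := h65
  obtain ⟨u, huR, hu⟩ := h4
  have hxN : x ∈ N := hodd x 31 (by have := pow_orderOf_eq_one x; rwa [hx] at this)
  have hyN : y ∈ N := hodd y 32 (by have := pow_orderOf_eq_one y; rwa [hy] at this)
  have hu2 : orderOf (u ^ 2) = 2 := by rw [orderOf_pow_of_dvd two_ne_zero (by rw [hu]; norm_num), hu]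
  set R0 : Subgroup O := R ⊓ N with hR0
  have hmem : ∀ z ∈ R0, orderOf z ∣ Nat.card R0 := by
    intro z hz
    rw [← Subgroup.orderOf_mk z hz]
    exact orderOf_dvd_natCard _
  have hd : 8190 ∣ Nat.card R0 := by
    have h1 : 63 ∣ Nat.card R0 := hx ▸ hmem x ⟨hxR, hxN⟩
    have h2 : 65 ∣ Nat.card R0 := hy ▸ hmem y ⟨hyR, hyN⟩
    have h3 : 2 ∣ Nat.card R0 := hu2 ▸ hmem (u ^ 2) ⟨R.pow_mem huR 2, hN u⟩
    have h4 : 63 * 65 ∣ Nat.card R0 := Nat.Coprime.mul_dvd_of_dvd_of_dvd (by norm_num) h1 h2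
    exact Nat.Coprime.mul_dvd_of_dvd_of_dvd (m := 2) (n := 4095) (by norm_num) h3 h4
  -- the image
  have hR0N : R0 ≤ N := inf_le_right
  set θ' : R0 →* Matrix.ProjectiveSpecialLinearGroup (Fin 2) L := θ.comp (Subgroup.inclusion hR0N) with hθ'
  have hinj : Function.Injective θ' := hθ.comp (Subgroup.inclusion_injective hR0N)
  have hcR : Nat.card θ'.range = Nat.card R0 := (Nat.card_congr (MonoidHom.ofInjective hinj).toEquiv).symm
  have hcP : Nat.card (Matrix.ProjectiveSpecialLinearGroup (Fin 2) L) = 262080 := by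
    have h1 := Cfsg.Agent.ClassicalGeometry.PSL2Basic.card_PSL2_even (F := L) (by rw [hL]; decide)
    rw [h1, hL]
    norm_num
  have htop : θ'.range = ⊤ := by
    by_contra hne
    have h1 := (Cfsg.Agent.S0806.result (F := L) hL (by norm_num)).1 _ hne
    have h2 := Subgroup.card_mul_index θ'.range
    rw [hcP, hcR] at h2
    obtain ⟨c, hc⟩ := hd
    rw [hc, mul_assoc] at h2
    have h3 : c * θ'.range.index = 32 := by
      have : 8190 * (c * θ'.range.index) = 8190 * 32 := by rw [h2]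
      exact Nat.eq_of_mul_eq_mul_left (by norm_num) this
    have h4 : θ'.range.index ∣ 32 := ⟨c, by rw [← h3, mul_comm]⟩
    have := Nat.le_of_dvd (by norm_num) h4
    omega
  have hc0 : Nat.card R0 = 262080 := by rw [← hcR, htop, Subgroup.card_top, hcP]
  have huN : u ∉ N := by
    intro h
    have h1 : (θ ⟨u, h⟩) ^ 4 = 1 := by
      rw [← map_pow]
      have : (⟨u, h⟩ : N) ^ 4 = 1 := by
        apply Subtype.ext
        show u ^ 4 = 1
        rw [← hu, pow_orderOf_eq_one]
      rw [this, map_one]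
    have h2 := psl_no_four h1
    rw [← map_pow, ← map_one θ] at h2
    have h3 := congrArg Subtype.val (hθ h2)
    have h4 : u ^ 2 = 1 := h3
    rw [h4, orderOf_one] at hu2
    omega
  -- `|R| ≥ 2 |R0|`
  have hlt : R0 < R := lt_of_le_of_ne inf_le_left (fun h => huN (h ▸ huR : u ∈ R0).2)
  have h5 : 2 * Nat.card R0 ≤ Nat.card R := by
    obtain ⟨c, hc⟩ := Subgroup.card_dvd_of_le hlt.le
    have hpos : 0 < Nat.card R := Nat.card_pos
    rcases Nat.lt_or_ge c 2 with h | h
    · exfalso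
      have : c = 1 := by
        rcases Nat.eq_zero_or_pos c with h0 | h0
        · rw [h0, mul_zero] at hc
          omega
        · omega
      rw [this, mul_one] at hc
      exact hlt.ne (Subgroup.eq_of_le_of_card_ge hlt.le hc.le)
    · rw [hc, mul_comm]
      exact Nat.mul_le_mul_left _ h
  apply Subgroup.eq_top_of_le_card
  have h6 := Nat.le_of_dvd (by norm_num) hO
  rw [hc0] at h5
  norm_num at h6
  omega

end abstract_part

section ext

variable {F : Type} [Field F] [Fintype F]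

local notation "I4" => (Fin 2 ⊕ Fin 2)

/-- **the centraliser of a quadratic field in `Sp_4(q)` embeds into `SL_2(q²)`.** -/
theorem ext_hom {K : Subalgebra F (Matrix I4 I4 F)} (hK : IsFieldSubalgebra 2 K)
    (hsa : IsSelfAdjointFor (sympForm 2 F) K) (halt : ∀ k ∈ K, ∀ v, sympForm 2 F (k *ᵥ v) v = 0)
    {C : Subgroup (GL I4 F)} (hC : C ≤ spGL 2 F) (hCK : ∀ c ∈ C, ∀ k ∈ K, (c : Matrix I4 I4 F) * k = k * c) :
    ∃ (L : Type) (_ : Field L) (_ : Fintype L), Fintype.card L = Fintype.card F ^ 2 ∧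
      ∃ ρ : C →* Matrix.SpecialLinearGroup (Fin 2) L, Function.Injective ρ := by
  classical
  obtain ⟨L, hLf, hLa, φ, hφ, hfin⟩ := Cfsg.Agent.H954.FieldSub.exists_field hK
  have hφK : ∀ a, φ a ∈ K := by
    intro a
    rw [← hφ]
    exact ⟨a, rfl⟩
  have hfd : FiniteDimensional F L := FiniteDimensional.of_finrank_pos (by rw [hfin]; norm_num)
  have hLfin : Finite L := Module.finite_of_finite F
  have hLft : Fintype L := Fintype.ofFinite L
  have hLc : Fintype.card L = Fintype.card F ^ 2 := by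
    rw [← Nat.card_eq_fintype_card, Module.natCard_eq_pow_finrank (K := F), hfin, Nat.card_eq_fintype_card]
  refine ⟨L, hLf, hLft, hLc, ?_⟩
  let act : L →+* Module.End F (I4 → F) :=
    ((Matrix.toLinAlgEquiv' : Matrix I4 I4 F ≃ₐ[F] Module.End F (I4 → F)).toAlgHom.comp φ).toRingHom
  let _ : Module L (I4 → F) := Module.compHom (I4 → F) act
  have hsmul : ∀ (a : L) (v : I4 → F), a • v = φ a *ᵥ v := fun _ _ => rfl
  have htow : IsScalarTower F L (I4 → F) := ⟨fun c a v => by
    rw [hsmul, hsmul, map_smul, Matrix.smul_mulVec]⟩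
  have hrank : Module.finrank L (I4 → F) = 2 := by
    have hfr99 : Module.Free L (I4 → F) := Module.Free.of_divisionRing _ _
    have hst99 : IsScalarTower F L (I4 → F) := by first | exact Subalgebra.isScalarTower_mid _ | infer_instance
    have h1 := Module.finrank_mul_finrank F L (I4 → F)
    rw [hfin, Module.finrank_fintype_fun_eq_card] at h1
    simp only [Fintype.card_sum, Fintype.card_fin] at h1
    omega
  have hfL : Module.Finite L (I4 → F) := Module.finite_of_finrank_pos (by rw [hrank]; norm_num)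
  let b : Basis (Fin 2) L (I4 → F) := Module.finBasisOfFinrankEq L (I4 → F) hrank
  let lin : C → ((I4 → F) →ₗ[L] (I4 → F)) := fun g =>
    { toFun := fun v => ((g : GL I4 F) : Matrix I4 I4 F) *ᵥ v
      map_add' := fun u v => Matrix.mulVec_add _ u v
      map_smul' := fun a v => by
        rw [hsmul, RingHom.id_apply, hsmul, mulVec_mulVec, mulVec_mulVec, hCK g g.2 _ (hφK a)] }
  have hlin_mul : ∀ g h : C, lin (g * h) = lin g * lin h := by
    intro g h
    refine LinearMap.ext fun v => ?_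
    show ((g : GL I4 F) * (h : GL I4 F) : GL I4 F).1 *ᵥ v = (g : GL I4 F).1 *ᵥ ((h : GL I4 F).1 *ᵥ v)
    rw [mulVec_mulVec]
    rfl
  have hlin_one : lin 1 = 1 := by
    refine LinearMap.ext fun v => ?_
    show ((1 : GL I4 F) : Matrix I4 I4 F) *ᵥ v = v
    rw [Units.val_one, one_mulVec]
  -- the form
  have hB1 : ∀ (k a : L) (x y : I4 → F), sympForm 2 F (φ k *ᵥ x) (a • y) = sympForm 2 F (φ (k * a) *ᵥ x) y := by
    intro k a x y
    rw [hsmul, ← hsa _ (hφK a), mulVec_mulVec, ← map_mul, mul_comm a k]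
  have hB2 : ∀ (k a : L) (x y : I4 → F), sympForm 2 F (φ k *ᵥ (a • x)) y = sympForm 2 F (φ (k * a) *ᵥ x) y := by
    intro k a x y
    rw [hsmul, mulVec_mulVec, ← map_mul]
  have hB3 : ∀ (k : L) (x : I4 → F), sympForm 2 F (φ k *ᵥ x) x = 0 := fun k x => halt _ (hφK k) x
  have hB4 : ∀ (k : L) (x y : I4 → F), sympForm 2 F (φ k *ᵥ y) x = - sympForm 2 F (φ k *ᵥ x) y := by
    intro k x y
    rw [sympForm_swap (φ k *ᵥ y) x, ← hsa _ (hφK k)]
  have hdet : ∀ g : C, (LinearMap.toMatrix b b (lin g)).det = 1 := by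
    intro g
    set M := LinearMap.toMatrix b b (lin g) with hM
    have hcol : ∀ j, ((g : GL I4 F) : Matrix I4 I4 F) *ᵥ (b j) = M 0 j • b 0 + M 1 j • b 1 := by
      intro j
      have h1 := b.sum_repr (lin g (b j))
      rw [Fin.sum_univ_two] at h1
      rw [hM, LinearMap.toMatrix_apply, LinearMap.toMatrix_apply]
      exact h1.symm
    have hgsp : (g : GL I4 F) ∈ spGL 2 F := hC g.2
    have key : ∀ k : L, sympForm 2 F (φ (k * M.det) *ᵥ (b 0)) (b 1) = sympForm 2 F (φ k *ᵥ (b 0)) (b 1) := by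
      intro k
      have h1 : sympForm 2 F (φ k *ᵥ (b 0)) (b 1) =
          sympForm 2 F (φ k *ᵥ (M 0 0 • b 0 + M 1 0 • b 1)) (M 0 1 • b 0 + M 1 1 • b 1) := by
        rw [← hcol, ← hcol, mulVec_mulVec, ← hCK g g.2 _ (hφK k), ← mulVec_mulVec]
        exact (mem_spGL_iff.1 hgsp _ _).symm
      have e : ∀ (a c : L) (x y : I4 → F), sympForm 2 F (φ k *ᵥ (a • x)) (c • y) =
          sympForm 2 F (φ (k * c * a) *ᵥ x) y := by
        intro a c x y
        rw [hB1, hB2]
      have e01 : sympForm 2 F (φ k *ᵥ (M 1 0 • b 1)) (M 0 1 • b 0) =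
          - sympForm 2 F (φ (k * M 0 1 * M 1 0) *ᵥ b 0) (b 1) := by
        rw [e, hB4]
      have e00 : sympForm 2 F (φ k *ᵥ (M 0 0 • b 0)) (M 0 1 • b 0) = 0 := by rw [e, hB3]
      have e11 : sympForm 2 F (φ k *ᵥ (M 1 0 • b 1)) (M 1 1 • b 1) = 0 := by rw [e, hB3]
      have e10 := e (M 0 0) (M 1 1) (b 0) (b 1)
      have h2 : φ (k * M.det) = φ (k * M 1 1 * M 0 0) - φ (k * M 0 1 * M 1 0) := by
        rw [← map_sub]
        congr 1
        rw [det_fin_two]
        ring
      rw [h1, mulVec_add, sympForm_add_left, sympForm_add_right, sympForm_add_right, e00, e11, e01, e10,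
        h2, sub_mulVec, sympForm_sub_left]
      ring
    by_contra hne
    have hne' : M.det - 1 ≠ 0 := sub_ne_zero.2 hne
    have hall : ∀ k : L, sympForm 2 F (φ k *ᵥ (b 0)) (b 1) = 0 := by
      intro k
      have h1 := key (k / (M.det - 1))
      have h2 : φ k = φ (k / (M.det - 1) * M.det) - φ (k / (M.det - 1)) := by
        rw [← map_sub]
        congr 1
        field_simp
      rw [h2, sub_mulVec, sympForm_sub_left, h1, sub_self]
    have h0 : b 0 = 0 := by
      apply eq_zero_of_forall_sympForm_right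
      intro y
      rw [← b.sum_repr y, Fin.sum_univ_two]
      have e1 : sympForm 2 F (b 0) (b.repr y 0 • b 0) = 0 := by
        have := hB1 1 (b.repr y 0) (b 0) (b 0)
        rw [map_one, one_mulVec] at this
        rw [this, hB3]
      have e2 : sympForm 2 F (b 0) (b.repr y 1 • b 1) = 0 := by
        have := hB1 1 (b.repr y 1) (b 0) (b 1)
        rw [map_one, one_mulVec] at this
        rw [this, hall]
      rw [sympForm_add_right, e1, e2, add_zero]
    exact b.ne_zero 0 h0
  refine ⟨{ toFun := fun g => ⟨LinearMap.toMatrix b b (lin g), hdet g⟩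
            map_one' := by
              apply Subtype.ext
              show LinearMap.toMatrix b b (lin 1) = 1
              rw [hlin_one]
              exact LinearMap.toMatrix_id b
            map_mul' := fun g h => by
              apply Subtype.ext
              show LinearMap.toMatrix b b (lin (g * h)) = LinearMap.toMatrix b b (lin g) * LinearMap.toMatrix b b (lin h)
              rw [hlin_mul]
              exact LinearMap.toMatrix_mul b _ _ }, ?_⟩
  intro g h hgh
  have h1 : LinearMap.toMatrix b b (lin g) = LinearMap.toMatrix b b (lin h) := congrArg Subtype.val hgh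
  have h2 := (LinearMap.toMatrix b b).injective h1
  apply Subtype.ext
  apply Units.ext
  apply Matrix.toLin'.injective
  refine LinearMap.ext fun v => ?_
  exact LinearMap.congr_fun h2 v

end ext

section data

variable {F : Type} [Field F] [Fintype F]

local notation "I4" => (Fin 2 ⊕ Fin 2)

/-- the group-theoretic data used by `eq_top_of`. -/
def Data (O : Subgroup (GL I4 F)) : Prop :=
  Nat.card O ∣ 2 * (2 ^ 3) ^ 2 * ((2 ^ 3) ^ 4 - 1) ∧ ∃ (L : Type) (_ : Field L) (_ : Fintype L) (N : Subgroup O)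
    (θ : N →* Matrix.ProjectiveSpecialLinearGroup (Fin 2) L), Fintype.card L = 64 ∧ (∀ g : O, g ^ 2 ∈ N) ∧
      Function.Injective θ

open Cfsg.Agent.LieClassical.OrthFourCommon Cfsg.Agent.LieClassical.OrthFourMinus in
theorem data_minus (h8 : Fintype.card F = 8) {Q : QuadraticForm F (I4 → F)}
    (hnd : Cfsg.Agent.LieClassical.OrthCore.Nondeg Q) (hnP : ¬ Cfsg.Agent.H955.IsPlus Q) : Data (Cfsg.isometryGroup F (⇑Q)) := by
  have hι : Fintype.card (Fin 2 ⊕ Fin 2) = 4 := by simp
  have hcardO : Nat.card (Cfsg.isometryGroup F (⇑Q)) = 524160 := by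
    rw [Cfsg.Agent.H957.card_isometryGroup_minus Q hnd (m := 2) (by norm_num) hι hnP, h8]
    norm_num
  obtain ⟨a, b, hab⟩ := Cfsg.Agent.H955.exists_aniso_coeff F
  obtain ⟨e, he⟩ := Cfsg.Agent.H955.exists_minus_equiv hab 1 Q hnd
    (by rw [Module.finrank_fintype_fun_eq_card, hι]) hnP
  have hfact : Fact (∀ r : F, r ^ 2 ≠ -b + a * r) := ⟨fun r hr => by
    have := (hab (-r) 1 (by linear_combination hr)).2
    exact one_ne_zero this⟩
  let _ : Fintype (E F (-b) a) := Fintype.ofEquiv _ (QuadraticAlgebra.equivProd (-b) a).symm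
  have hcard : Fintype.card (E F (-b) a) = 64 := by
    rw [Fintype.card_congr (QuadraticAlgebra.equivProd (-b) a), Fintype.card_prod, h8]
  have hchar : CharP (E F (-b) a) 2 := char_two_of_card hcard
  obtain ⟨ε⟩ := exists_isometryGroup_equiv (e.trans (coord F (-b) a)) (⇑Q)
    (Cfsg.Agent.LieClassical.OrthFourMinus.Q (-b) a) (fun v => by
      rw [LinearEquiv.trans_apply, Q_coord, ← he, Cfsg.Agent.LieClassical.QuadForms.coe_minusForm])
  have hinj : Function.Injective (phi (F := F) (c := -b) (d := a)) := by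
    rw [injective_iff_map_eq_one]
    intro s hs
    have h1 := mem_center_of_phi_eq_one hs
    apply mk_injective
    rw [map_one, QuotientGroup.mk'_apply, QuotientGroup.eq_one_iff]
    exact h1
  obtain ⟨ψ, hψ⟩ : ∃ ψ : Matrix.SpecialLinearGroup (Fin 2) (E F (-b) a) →* Cfsg.isometryGroup F (⇑Q),
      Function.Injective ψ := ⟨ε.symm.toMonoidHom.comp phi, ε.symm.injective.comp hinj⟩
  refine ⟨by rw [hcardO]; norm_num, E F (-b) a, inferInstance, inferInstance, ψ.range,
    (QuotientGroup.mk' (Subgroup.center (Matrix.SpecialLinearGroup (Fin 2) (E F (-b) a)))).comp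
      (MonoidHom.ofInjective hψ).symm.toMonoidHom, hcard, ?_, mk_injective.comp (MonoidHom.ofInjective hψ).symm.injective⟩
  have h1 : Nat.card ψ.range = 262080 := by
    rw [← Nat.card_congr (MonoidHom.ofInjective hψ).toEquiv, Cfsg.Agent.ClassicalGeometry.PSL2Basic.card_SL2, hcard]
    norm_num
  have h2 := Subgroup.card_mul_index ψ.range
  rw [h1, hcardO] at h2
  have h3 : ψ.range.index = 2 := by omega
  exact fun g => Subgroup.sq_mem_of_index_two h3 g

theorem data_ext [CharP F 2] (h8 : Fintype.card F = 8) {K : Subalgebra F (Matrix I4 I4 F)} (hK : IsFieldSubalgebra 2 K)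
    (hsa : IsSelfAdjointFor (sympForm 2 F) K) (halt : ∀ k ∈ K, ∀ v, sympForm 2 F (k *ᵥ v) v = 0) :
    Data (subalgebraNormalizer K ⊓ spGL 2 F) := by
  have h1 := Cfsg.Agent.H813.SaxSp.card_field hK hsa halt
  rw [h8] at h1
  refine ⟨h1, ?_⟩
  obtain ⟨C, hC⟩ : ∃ C : Subgroup (GL I4 F), ∀ g : GL I4 F, g ∈ C ↔
      g ∈ spGL 2 F ∧ ∀ k ∈ K, (g : Matrix I4 I4 F) * k = k * g := by
    refine ⟨{ carrier := {g | g ∈ spGL 2 F ∧ ∀ k ∈ K, (g : Matrix I4 I4 F) * k = k * g}
              mul_mem' := ?_, one_mem' := ?_, inv_mem' := ?_ }, fun g => Iff.rfl⟩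
    · rintro g h ⟨hg1, hg2⟩ ⟨hh1, hh2⟩
      refine ⟨Subgroup.mul_mem _ hg1 hh1, fun k hk => ?_⟩
      rw [Units.val_mul, Matrix.mul_assoc, hh2 k hk, ← Matrix.mul_assoc, hg2 k hk, Matrix.mul_assoc]
    · exact ⟨Subgroup.one_mem _, fun k _ => by rw [Units.val_one, Matrix.one_mul, Matrix.mul_one]⟩
    · rintro g ⟨hg1, hg2⟩
      refine ⟨Subgroup.inv_mem _ hg1, fun k hk => ?_⟩
      have h3 : (g : Matrix I4 I4 F) * k = k * g := hg2 k hk
      calc ((g⁻¹ : GL I4 F) : Matrix I4 I4 F) * k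
          = ((g⁻¹ : GL I4 F) : Matrix I4 I4 F) * (k * g) * ((g⁻¹ : GL I4 F) : Matrix I4 I4 F) := by
            rw [Matrix.mul_assoc, Matrix.mul_assoc, ← Units.val_mul, mul_inv_cancel, Units.val_one, Matrix.mul_one]
        _ = ((g⁻¹ : GL I4 F) : Matrix I4 I4 F) * (g * k) * ((g⁻¹ : GL I4 F) : Matrix I4 I4 F) := by rw [h3]
        _ = k * ((g⁻¹ : GL I4 F) : Matrix I4 I4 F) := by
            rw [← Matrix.mul_assoc ((g⁻¹ : GL I4 F) : Matrix I4 I4 F), ← Units.val_mul, inv_mul_cancel, Units.val_one,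
              Matrix.one_mul]
  obtain ⟨L, hLf, hLft, hL, ρ, hρ⟩ := ext_hom hK hsa halt (C := C) (fun g hg => ((hC g).1 hg).1)
    (fun g hg => ((hC g).1 hg).2)
  have hL64 : Fintype.card L = 64 := by rw [hL, h8]; norm_num
  have hchar : CharP L 2 := char_two_of_card hL64
  refine ⟨L, hLf, hLft, C.subgroupOf (subalgebraNormalizer K ⊓ spGL 2 F),
    ((QuotientGroup.mk' (Subgroup.center (Matrix.SpecialLinearGroup (Fin 2) L))).comp ρ).comp
      (((subalgebraNormalizer K ⊓ spGL 2 F).subtype.comp (Subgroup.subtype _)).codRestrict C (fun x => x.2)),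
    hL64, ?_, ?_⟩
  · intro g
    rw [Subgroup.mem_subgroupOf, hC]
    refine ⟨Subgroup.pow_mem _ g.2.2 2, fun k hk => ?_⟩
    exact sq_comm hK g.2.1 k hk
  · refine (mk_injective.comp hρ).comp ?_
    intro x y hxy
    apply Subtype.ext
    apply Subtype.ext
    exact congrArg (fun z : C => (z : GL I4 F)) hxy

/-- **proper subgroups of `SL_2(64).2` in `PSp_4(8)`.** -/
theorem eight_sub [CharP F 2] (h8 : Fintype.card F = 8) {M : Subgroup (PSp 2 F)}
    (h : InOMinus 2 F (pre M) ∨ InExt 2 F (pre M)) {R : Subgroup (PSp 2 F)} (hRM : R ≤ M)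
    (h63 : ∃ x ∈ R, orderOf x = 63) (h65 : ∃ x ∈ R, orderOf x = 65) (h4 : ∃ x ∈ R, orderOf x = 4) : R = M := by
  obtain ⟨O, hMO, hO⟩ : ∃ O : Subgroup (GL I4 F), pre M ≤ O ∧ Data O := by
    rcases h with ⟨-, -, Q, hpol, hnP, hQe⟩ | ⟨-, K, hK, hsa, halt, hKe⟩
    · have hnd : Cfsg.Agent.LieClassical.OrthCore.Nondeg Q := by
        intro x hx
        apply eq_zero_of_forall_sympForm_right
        intro y
        rw [← hpol]
        exact hx y
      exact ⟨_, hQe, data_minus h8 hnd hnP⟩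
    · exact ⟨_, le_inf hKe (pre_le M), data_ext h8 hK hsa halt⟩
  obtain ⟨hcard, L, _, _, N, θ, hL, hN, hθ⟩ := hO
  have hRO : pre R ≤ O := (Cfsg.Agent.H262.El.pre_mono hRM).trans hMO
  have hfin : Finite O := inferInstance
  let e := Cfsg.Agent.GpSp.Row.toPSp F 2
  have key : ∀ n : ℕ, (∃ x ∈ R, orderOf x = n) → ∃ x ∈ (pre R).subgroupOf O, orderOf x = n := by
    rintro n ⟨x, hx, hn⟩
    have hmem : spToGL 2 F (e.symm x) ∈ pre R := by
      rw [mem_pre]
      have : (QuotientGroup.mk (e.symm x) : PSp 2 F) = e (e.symm x) := rfl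
      rw [this, MulEquiv.apply_symm_apply]
      exact hx
    refine ⟨⟨spToGL 2 F (e.symm x), hRO hmem⟩, hmem, ?_⟩
    rw [Subgroup.orderOf_mk, orderOf_injective _ spToGL_injective, MulEquiv.orderOf_eq, hn]
  have htop := eq_top_of hcard hL hN hθ (key 63 h63) (key 65 h65) (key 4 h4)
  rw [Subgroup.subgroupOf_eq_top] at htop
  refine le_antisymm hRM fun x hx => ?_
  have h1 : spToGL 2 F (e.symm x) ∈ pre M := by
    rw [mem_pre]
    have : (QuotientGroup.mk (e.symm x) : PSp 2 F) = e (e.symm x) := rfl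
    rw [this, MulEquiv.apply_symm_apply]
    exact hx
  have h2 := htop (hMO h1)
  rw [mem_pre] at h2
  have h3 : (QuotientGroup.mk (e.symm x) : PSp 2 F) = e (e.symm x) := rfl
  rwa [h3, MulEquiv.apply_symm_apply] at h2

end data

end Cfsg.Agent.H580.Der.Eight
end

-- part: H580/Der/OddS
section
prune_inst 0x25401840704002000000050690202044540000300060000169200a00090901228080a1400ea01010124ea28110410000000000d00040000004000000000000209002520413400104260009000080000000000000000000000000000000000004000000000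
set_option linter.all false
open scoped Cfsg.Agent.FastGrp

/-!
# `PSp_4(q)`, `q ≥ 5` odd: three missing classes (helper580, S3502; after helper896's `row_odd`)
-/

set_option autoImplicit false
set_option linter.unusedSectionVars false

namespace Cfsg.Agent.H580.Der.OddS

open Module Cfsg Cfsg.Geo Cfsg.Agent.H884.El Matrix
open Cfsg.Agent.H262.El (pre pre_le pre_ne scalars_le_pre mem_pre spToGL_injective two_le_of_symp)
open Cfsg.Agent.ClassicalGeometry.SympBasic Cfsg.Agent.H876 Cfsg.Agent.H931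
open Cfsg.Agent.H938.Sax (PGap OrdGap OGMax)
open Cfsg.Agent.H909.Sp4List Cfsg.Agent.H909.Sp4Geom Cfsg.Agent.H909.Sp4Arith
open Cfsg.Agent.H374.SpFour Cfsg.Agent.H374.Quad Cfsg.Agent.H901.SaxSp Cfsg.Agent.H439.Der Cfsg.Agent.H896.Der4
open scoped MatrixGroups Matrix

variable {F : Type} [Field F] [Fintype F]

/-- **`PSp_4(q)`, `q ≥ 5` odd**. -/
theorem three_odd (hodd : Odd (Fintype.card F)) (h5 : 5 ≤ Fintype.card F) {M : Subgroup (PSp 2 F)}
    (hM : IsCoatom M) : Three (PSp 2 F) M := by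
  classical
  have hnsc := Cfsg.Agent.H580.Der.Ntc.ntc h5
  by_cases hP : PGap (PSp 2 F) M
  · exact Three.of_pgap hnsc hP
  have h2F : (2 : F) ≠ 0 := Cfsg.Agent.H909.Sp4Geom.two_ne hodd
  have hq := one_lt_q F
  have hc : Nat.card F = Fintype.card F := Nat.card_eq_fintype_card
  obtain ⟨p, hpchar⟩ : ∃ p, CharP F p := CharP.exists F
  have hp : p.Prime := CharP.char_is_prime F p
  have hpf : Fact p.Prime := ⟨hp⟩
  obtain ⟨n, hn1, hn⟩ : ∃ n : ℕ, 1 ≤ n ∧ Fintype.card F = p ^ n := by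
    obtain ⟨n, -, hn⟩ := FiniteField.card F p
    exact ⟨n, n.pos, hn⟩
  have hp2 : p ≠ 2 := by
    rintro rfl
    rw [hn] at hodd
    exact (Nat.not_even_iff_odd.2 hodd) (Even.pow_of_ne_zero even_two (by omega))
  have hp3 : 3 ≤ p := by have := hp.two_le; omega
  have hpn : Nat.card F = p ^ n := by rw [hc, hn]
  have hspec := exists_iff (F := F) (p := p) (n := n) (by omega) hn (by rw [← hn]; omega)
  rw [← hn] at hspec
  -- the primes
  obtain ⟨r₀, hr₀⟩ : ∃ r, PP p (n * 4) r := exists_pp hp.two_le (by omega) (by omega)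
  have hr₀q : PP (Nat.card F) 4 r₀ := by rw [hpn]; exact hr₀.of_pow hn1
  have hlt := hr₀.lt (by omega)
  have h0 : r₀ ∣ Nat.card (pre M) :=
    hits_of hP (e := 4) (i := 2) (by norm_num) le_rfl (by norm_num) (Or.inl (by norm_num)) _ hr₀q
  have hpd : p ∣ Nat.card (pre M) := by
    have h1 : p ∣ Nat.card (PSp 2 F) := Cfsg.Agent.H163.PG.char_dvd_psp hp hn1 hn (by norm_num)
    have h2 : p ∣ Nat.card M := by
      by_contra h
      exact hP ⟨p, hp, h1, h⟩
    exact h2.trans (card_dvd_pre M)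
  have hmax := isMaximalIn_pre hM
  rcases list hodd (res88 hodd) hmax with h | h | h | h | h | h | h | h
  · -- totally isotropic subspaces
    exfalso
    obtain ⟨y, hyH, hyr, hy1⟩ := exists_elt' hr₀q.prime h0
    obtain ⟨W, hW0, hW, hWe⟩ := h
    rw [hWe] at hyH
    exact Cfsg.Agent.H262.El.not_mem_subspaceStabilizer_of_irr
      (Cfsg.Agent.H262.El.irr_of_od (by
        rw [← hc]; exact PP.od hr₀q (by norm_num)) hyr hy1)
      hW0 (Cfsg.Agent.H262.El.totallySingular_ne_top (by norm_num) hW) hyH.1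
  · exfalso
    rw [card_of_T2 h2F h, a2] at h0
    exact PP.false_of_dvd (a := 1) (b := 1) (c := 1) (d := 2) hr₀q hq.le (by simpa only [_root_.mul_one, _root_.Nat.card_eq_fintype_card, _root_.pow_one] using h0)
      (fun h => hr₀q.prime.one_lt.ne' (Nat.dvd_one.1 h))
  · exfalso
    rw [card_of_T3 h2F h, a3] at h0
    refine PP.false_of_dvd (a := 1) (b := 1) (c := 2) (d := 1) hr₀q hq.le (h0.trans ?_)
      (fun h => hr₀q.prime.one_lt.ne' (Nat.dvd_one.1 h))
    have h1 : Nat.card F - 1 ∣ Nat.card F ^ 2 - 1 := by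
      have := Nat.sub_dvd_pow_sub_pow (Nat.card F) 1 2
      rwa [one_pow] at this
    rw [mul_one, pow_one, pow_one, mul_assoc (Nat.card F), pow_two (Nat.card F ^ 2 - 1)]
    exact Nat.mul_dvd_mul_left _ (Nat.mul_dvd_mul_left _ (Nat.mul_dvd_mul_right h1 _))
  · -- `Sp_2(q²).2`
    obtain ⟨K, hK, hsa, -, hKe⟩ := h
    obtain ⟨x, hx⟩ := (hspec (p * (Fintype.card F - 1))).2 (Or.inl dvd_rfl)
    obtain ⟨y, hy⟩ := (hspec (p * (Fintype.card F + 1))).2 (Or.inr (Or.inl dvd_rfl))
    obtain ⟨k, hk⟩ := hodd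
    obtain ⟨z, hz⟩ := (hspec (p * (k + 1))).2 (Or.inr (Or.inl (by
      rw [hk]
      exact ⟨2, by ring⟩)))
    have key : ∀ e : ℕ, 3 ≤ e → ∀ m ∈ M, orderOf m ≠ p * e := by
      intro e he m hm hmo
      obtain ⟨A, hA, rfl⟩ := cl_surj m
      have hAp : spToGL 2 F ⟨A, hA⟩ ∈ pre M := mem_pre.2 hm
      have hAK : spToGL 2 F ⟨A, hA⟩ ∈ subalgebraNormalizer K := by
        rw [hKe] at hAp
        exact hAp.1
      have hpow : (cl A hA) ^ (2 * e * p) = 1 := by
        rw [show 2 * e * p = p * e * 2 by ring, pow_mul, ← hmo, pow_orderOf_eq_one, one_pow]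
      obtain ⟨ε, hε⟩ := cl_pow_eq_one.1 hpow
      have hε2 := sq_of_scalar hA hε
      have hp0 := hp.pos
      rcases ext_scalar' (p := p) (k := e) hp2 hK hsa (spToGL_mem _) hAK hε2 hε with ⟨c, hc'⟩ | ⟨c, hc'⟩
      · have h1 : (cl A hA) ^ (2 * e) = 1 := cl_pow_eq_one.2 ⟨c, hc'⟩
        have h2 := orderOf_dvd_of_pow_eq_one h1
        rw [hmo] at h2
        have := Nat.le_of_dvd (by omega) h2
        nlinarith only [hp3, he, this]
      · have h1 : (cl A hA) ^ (2 * p) = 1 := cl_pow_eq_one.2 ⟨c, hc'⟩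
        have h2 := orderOf_dvd_of_pow_eq_one h1
        rw [hmo, mul_comm 2 p] at h2
        have h3 := Nat.dvd_of_mul_dvd_mul_left hp0 h2
        have := Nat.le_of_dvd (by omega) h3
        omega
    refine Three.of_orders ?_ ?_ ?_ hx hy hz (key _ (by omega)) (key _ (by omega)) (key _ (by omega))
    all_goals
      intro h
      have := Nat.eq_of_mul_eq_mul_left hp.pos h
      (clear * - this h5 hk hc hn; omega)
  · exfalso
    rw [card_of_T5 h2F h, a5] at h0
    refine PP.false_of_dvd (a := 1) (b := 1) (c := 2) (d := 1) hr₀q hq.le (h0.trans ?_)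
      (fun h => hr₀q.prime.one_lt.ne' (Nat.dvd_one.1 h))
    have h1 : Nat.card F + 1 ∣ Nat.card F ^ 2 - 1 := by
      refine ⟨Nat.card F - 1, ?_⟩
      have := Nat.sq_sub_sq (Nat.card F) 1
      rwa [one_pow] at this
    rw [mul_one, pow_one, pow_one, mul_assoc (Nat.card F), pow_two (Nat.card F ^ 2 - 1)]
    exact Nat.mul_dvd_mul_left _ (Nat.mul_dvd_mul_left _ (Nat.mul_dvd_mul_right h1 _))
  · -- subfields
    exfalso
    obtain ⟨F₀, s, P, ζ, hs, hcard, -, -, hMe⟩ := h
    exact kill_subfield (H := pre M) (hMe.le.trans inf_le_left) hs (by rw [hc]; exact hcard) hp hpn hr₀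
      (by decide) (by norm_num) h0
  · -- `2^{1+4}`
    exfalso
    have hprime := prime_of_T7 h
    have hF : Nat.card F = p := by
      have h1 : p ∣ Nat.card F := by rw [hpn]; exact dvd_pow_self p (by omega)
      exact ((Nat.prime_dvd_prime_iff_eq hp hprime).1 h1).symm
    have h7 : Nat.card (pre M) ∣ 3840 := Cfsg.Agent.H97.Sp4Ext.card_T7_dvd h
    have hr5 : r₀ = 5 := five_of_3840 hr₀.prime (by omega) (h0.trans h7)
    have h6 : p = 5 := five_of_3840 hp (by omega) (hpd.trans h7)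
    apply hr₀.not_dvd (by omega)
    rw [hr5, h6]
  · obtain ⟨P, p', hcore, hp', hchar, h | h | h⟩ := h
    · exfalso
      obtain ⟨⟨e⟩, h1, h5, -⟩ := h
      have hpp : p' = p := CharP.eq F hchar hpchar
      subst hpp
      have h7 := Cfsg.Agent.H753.ResCard.card_A6 hmax.1.le hcore e
      have h8 : ∀ r : ℕ, r.Prime → 5 ≤ r → r ∣ 2880 → r = 5 := by
        intro r hr h5 h
        rw [show 2880 = 2 ^ 6 * 3 ^ 2 * 5 by norm_num] at h
        rcases (hr.dvd_mul).1 h with h | h
        · rcases (hr.dvd_mul).1 h with h | h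
          · have := Nat.le_of_dvd (by norm_num) (hr.dvd_of_dvd_pow h)
            omega
          · have := Nat.le_of_dvd (by norm_num) (hr.dvd_of_dvd_pow h)
            omega
        · have := Nat.le_of_dvd (by norm_num) h
          omega
      have h9 := h8 _ hr₀.prime (by omega) (h0.trans h7)
      have h10 := h8 _ hp h5 (hpd.trans h7)
      apply hr₀.not_dvd (by omega)
      rw [h9, h10]
    · obtain ⟨⟨e⟩, h1⟩ := h
      have hp7 : p = 7 := by
        have h2 : p ∣ 7 := by rw [← h1, hn]; exact dvd_pow_self p (by omega)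
        exact (Nat.prime_dvd_prime_iff_eq hp (by norm_num)).1 h2
      obtain ⟨x, hx⟩ := (hspec 25).2 (by rw [Om, h1]; norm_num)
      obtain ⟨y, hy⟩ := (hspec 56).2 (by rw [Om, h1, hp7]; norm_num)
      obtain ⟨z, hz⟩ := (hspec 24).2 (by rw [Om, h1, hp7]; norm_num)
      have key : ∀ m ∈ M, orderOf m ∣ 420 := by
        intro m hm
        obtain ⟨A, hA, rfl⟩ := cl_surj m
        have hAp : spToGL 2 F ⟨A, hA⟩ ∈ pre M := mem_pre.2 hm
        have h2 := A7_order hcore e hAp
        apply orderOf_dvd_of_pow_eq_one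
        rw [cl_pow_eq_one]
        obtain ⟨c, hc'⟩ := (mem_scalars_iff _).1 h2
        refine ⟨c, ?_⟩
        rw [Units.val_pow_eq_pow_val] at hc'
        exact hc'
      refine Three.of_orders (by norm_num) (by norm_num) (by norm_num) hx hy hz (fun m hm h => ?_) (fun m hm h => ?_)
        (fun m hm h => ?_)
      all_goals
        have := key m hm
        rw [h] at this
        exact absurd this (by norm_num)
    · exfalso
      obtain ⟨⟨e⟩, h5, h7⟩ := h
      have h8 := Cfsg.Agent.H753.ResCard.card_L2 hp hn hodd (by omega) hmax.1.le hcore e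
      refine PP.false_of_dvd (a := n) (b := 1) (c := 1) (d := 1) hr₀q hq.le ?_ ?_
      · simpa only [_root_.Nat.card_eq_fintype_card, _root_.pow_one] using h0.trans h8
      · intro h
        have := Nat.le_of_dvd hn1 h
        omega

end Cfsg.Agent.H580.Der.OddS
end

-- part: H580/Der/Sp4
section
set_option linter.all false
open scoped Cfsg.Agent.FastGrp

/-!
# The strong row of `PSp_4(q)`, `q ≥ 5` (helper580, for S3502, for helper439)
-/

set_option autoImplicit false

namespace Cfsg.Agent.H580.Der.Sp4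

open Cfsg.Agent.H439.Der

/-- **`PSp_4(q)`, `q ≥ 5`**. -/
theorem rowS_psp4 {F : Type} [Field F] [Fintype F] (hq : 5 ≤ Fintype.card F) : RowS (Cfsg.PSp 2 F) := by
  by_cases hodd : Odd (Fintype.card F)
  · exact RowS.of_three fun M hM => Cfsg.Agent.H580.Der.OddS.three_odd hodd hq hM
  · obtain ⟨p, hpchar⟩ : ∃ p, CharP F p := CharP.exists F
    have hp : p.Prime := CharP.char_is_prime F p
    have hpf : Fact p.Prime := ⟨hp⟩
    obtain ⟨n, -, hn⟩ := FiniteField.card F p
    have hp2 : p = 2 := by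
      by_contra h
      apply hodd
      rw [hn]
      exact (hp.odd_of_ne_two h).pow
    subst hp2
    have h8 : 8 ≤ Fintype.card F := by
      have h2 : 2 < (n : ℕ) := by
        by_contra hcon
        have : (n : ℕ) ≤ 2 := by omega
        have := Nat.pow_le_pow_right (show 0 < 2 by norm_num) this
        rw [hn] at hq
        omega
      rw [hn]
      calc 8 = 2 ^ 3 := by norm_num
        _ ≤ 2 ^ (n : ℕ) := Nat.pow_le_pow_right (by norm_num) h2
    refine RowS.of_coatoms fun M hM => ?_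
    rcases Cfsg.Agent.H580.Der.EvenM.three_or h8 hM with h | ⟨h8', h⟩
    · exact Or.inl h
    · right
      obtain ⟨h1, h2⟩ := Cfsg.Agent.H580.Der.EvenM.eight h8' h
      refine ⟨h1, fun R hR => h2 R hR.le ?_⟩
      rintro ⟨a, b, c⟩
      exact hR.ne (Cfsg.Agent.H580.Der.Eight.eight_sub h8' h hR.le a b c)

end Cfsg.Agent.H580.Der.Sp4
end

-- part: H385/Otp/Asm
section
set_option linter.all false
open scoped Cfsg.Agent.FastGrp

/-!
# `PΩ⁺₈(3)` for S3502 (helper385): the assembly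
-/

set_option autoImplicit false
set_option maxRecDepth 100000

namespace Cfsg.Agent.H385.Otp

open Subgroup Cfsg Cfsg.Agent Cfsg.Agent.H503.El Cfsg.Agent.H503.El.O83 Cfsg.Agent.H439.Der
open Cfsg.Agent.H938.Sax (PGap MissMax)

theorem nsc_t8 : NSC T8 := H964.Opm.nsc_plus (F := ZMod 3) (m := 4) le_rfl (by
  rintro ⟨-, h⟩
  rw [ZMod.card] at h
  norm_num at h)

/-- **the row, from the pieces** -/
theorem rowW_aux (OT : OrdDiv.OrderTable.{0})
    (hS : ∀ (X : Type) [Group X] [Finite X] [IsSimpleGroup X], Cfsg.IsKnownSimple' X)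
    (hmiss : MissMax T8) (hcos : Cos T8)
    (hob : ∀ (r : ℕ) (R : Subgroup T8), r = 7 ∨ r = 13 → ¬ r ∣ Nat.card R → OutBadN T8 R)
    (hC7 : ∀ P : Subgroup T8, Nat.card P = 7 → Nat.card (centralizer (P : Set T8)) ∣ 7 * 4 ∧
      Nat.card (normalizer (P : Set T8)) ∣ 7 * 24)
    (no3 : ∀ {P Q : Subgroup T8}, Nat.card P = 7 → IsPGroup 3 Q → P ≤ normalizer (Q : Set T8) → Q = ⊥)
    (hnine : ∀ (S : Type) [Group S] [Finite S] [IsSimpleGroup S], Nat.card S = 604800 → ∀ x : S, orderOf x ≠ 9)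
    (h21 : ∀ (S : Type) [Group S] [Finite S] [IsSimpleGroup S], Nat.card S = 1814400 → ∃ x : S, orderOf x = 21)
    (h14 : ∀ (S : Type) [Group S] [Finite S] [IsSimpleGroup S], Nat.card S = 174182400 → ∀ x : S, orderOf x ≠ 14)
    (hseven : ∀ R : Subgroup T8, ¬ 7 ∣ Nat.card R → ThreeT T8 R) : RowW T8 := by
  refine ⟨Or.inr ⟨hcos, hmiss⟩, fun R hR hRc => ?_⟩
  have hg := pgap_of_not_coatom OT hS hR hRc
  have htwo : Two T8 R := Two.of_pgap nsc_t8 hg
  obtain ⟨v, hv, h1, h2⟩ := hg
  have h7 : ¬ 7 ∣ Nat.card R → Fin3 T8 R := fun h => Or.inr ⟨hseven R h, htwo, Or.inr (hob 7 R (Or.inl rfl) h)⟩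
  have hvs : v = 2 ∨ v = 3 ∨ v = 5 ∨ v = 7 ∨ v = 13 := by
    rw [card_t8] at h1
    have h3 : v ∣ 2 * 3 * 5 * 7 * 13 := hv.dvd_of_dvd_pow (h1.trans (by norm_num : 4952179814400 ∣ (2 * 3 * 5 * 7 * 13) ^ 12))
    have h4 : v ∈ Nat.primeFactors (2 * 3 * 5 * 7 * 13) := Nat.mem_primeFactors.2 ⟨hv, h3, by norm_num⟩
    have h5 : Nat.primeFactors (2 * 3 * 5 * 7 * 13) = {2, 3, 5, 7, 13} := by decide +kernel
    rw [h5] at h4
    simpa using h4
  rcases hvs with rfl | rfl | rfl | rfl | rfl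
  · exact Or.inl (three_small (by norm_num) h2)
  · exact Or.inl (three_small (by norm_num) h2)
  · exact Or.inl (three_small (by norm_num) h2)
  · exact h7 h2
  · by_cases h25 : 25 ∣ Nat.card R
    · by_cases h7R : 7 ∣ Nat.card R
      · exact Or.inl (three_175 OT hS hC7 no3 hnine h21 h14 h2 h25 h7R)
      · exact h7 h7R
    · exact Or.inr ⟨threeT_thirteen h2 h25, htwo, Or.inr (hob 13 R (Or.inr rfl) h2)⟩

/-- transfer to an arbitrary field with three elements -/
theorem rowW_of_t8 (h : RowW T8) (F : Type) [Field F] [Fintype F] (hF : Fintype.card F = 3) :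
    RowW (Cfsg.POmega F (Cfsg.quadFormPlus 4 F)) := by
  obtain ⟨e⟩ := equiv_o83 F hF
  exact h.congr e

end Cfsg.Agent.H385.Otp
end

-- part: H602/Der/NoFifteen
section
prune_inst 0x5603044086202000000051610203c46c6000130006b000159600e0004861f2200802760cc801c00120aa20500310000001000d00050000004000000011800a0802a52069348a104260009003087180c00000000000000000000000000041004000000000
set_option linter.all false
open scoped Cfsg.Agent.FastGrp

/-!
# `{2, 3, 5}`-subgroups containing a nonabelian Sylow 5-subgroup of order 125 (helper602)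

`Cube T` : the subgroups of order 125 of `T` are nonabelian, their central elements do not commute with elements of
order 3, and 25 does not divide the orders of the centralizers of involutions.
`no_fifteen` : a `{2, 3, 5}`-subgroup of order divisible by 125 has no element of order 15.
-/

set_option autoImplicit false
set_option maxRecDepth 100000

namespace Cfsg.Agent.H602.Der

open Subgroup
open Cfsg.Agent.OrdDiv Cfsg.Agent.H257.El Cfsg.Agent.H439.Der Cfsg.Agent.H604.Sax Cfsg.Agent.H938.Sax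

universe u

/-- the situation -/
structure Cube (T : Type u) [Group T] : Prop where
  na : ∀ P : Subgroup T, Nat.card P = 125 → ¬ ∀ a ∈ P, ∀ b ∈ P, a * b = b * a
  cent : ∀ P : Subgroup T, Nat.card P = 125 → ∀ z ∈ P, z ≠ 1 → (∀ g ∈ P, g * z = z * g) →
    ∀ t : T, orderOf t = 3 → t * z ≠ z * t
  two : ∀ i : T, orderOf i = 2 → ¬ 25 ∣ Nat.card (centralizer ({i} : Set T))

section fix

variable {T : Type*} [Group T] [Finite T]

/-- an element of prime order acting by conjugation on a set of order prime to `p` -/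
theorem exists_fixed {p : ℕ} [Fact p.Prime] {g : T} (hg : orderOf g = p) (A : Set T)
    (hA : ∀ a ∈ A, g * a * g⁻¹ ∈ A) (hc : ¬ p ∣ Nat.card A) : ∃ a ∈ A, g * a = a * g := by
  by_contra hn
  push Not at hn
  apply hc
  have hA' : ∀ k ∈ zpowers g, ∀ a ∈ A, k * a * k⁻¹ ∈ A := by
    intro k hk
    obtain ⟨n, hn⟩ := mem_powers_iff_mem_zpowers.2 hk
    simp only at hn
    rw [← hn]
    clear hn hk
    induction n with
    | zero => intro a ha; simpa using ha
    | succ n ih =>
      intro a ha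
      have h1 : g ^ (n + 1) * a * (g ^ (n + 1))⁻¹ = g * (g ^ n * a * (g ^ n)⁻¹) * g⁻¹ := by
        rw [pow_succ']; group
      rw [h1]
      exact hA _ (ih a ha)
  refine dvd_ncard (zpowers g) A hA' fun a ha => ?_
  have h1 : zpowers g ⊓ centralizer ({a} : Set T) = ⊥ := by
    have h2 : Nat.card ↥(zpowers g ⊓ centralizer ({a} : Set T)) ∣ p := by
      rw [← hg, ← Nat.card_zpowers]
      exact card_dvd_of_le inf_le_left
    rcases (Nat.dvd_prime Fact.out).1 h2 with h3 | h3
    · exact card_eq_one.1 h3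
    · exfalso
      have h4 : zpowers g ⊓ centralizer ({a} : Set T) = zpowers g :=
        eq_of_le_of_card_ge inf_le_left (by rw [h3, Nat.card_zpowers, hg])
      have h5 : g ∈ zpowers g ⊓ centralizer ({a} : Set T) := by rw [h4]; exact mem_zpowers g
      exact hn a ha (mem_centralizer_singleton_iff.1 h5.2)
  rw [h1, card_bot, mul_one, Nat.card_zpowers, hg]

end fix

section main

variable {T : Type u} [Group T] [Finite T]

theorem five : Fact (Nat.Prime 5) := ⟨by norm_num⟩

/-- the centralizer of `a` in `P` has order 1 or 5 -/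
theorem dvd_five {P : Subgroup T} (hP : Nat.card P = 125) {a : T}
    (h : ¬ 25 ∣ Nat.card ↥(P ⊓ centralizer ({a} : Set T))) :
    25 * Nat.card ↥(P ⊓ centralizer ({a} : Set T)) ∣ Nat.card P := by
  have := five
  have h1 : Nat.card ↥(P ⊓ centralizer ({a} : Set T)) ∣ 5 ^ 3 := by
    have h2 : Nat.card P = 5 ^ 3 := by rw [hP]; norm_num
    rw [← h2]
    exact card_dvd_of_le inf_le_left
  obtain ⟨k, hk, hkc⟩ := (Nat.dvd_prime_pow (by norm_num : Nat.Prime 5)).1 h1
  have h2 : k < 2 := by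
    by_contra hk2
    exact h (by rw [hkc]; exact pow_dvd_pow 5 (by omega : 2 ≤ k))
  rw [hkc, hP]
  interval_cases k <;> norm_num

theorem Cube.cent_two (D : Cube T) {P : Subgroup T} (hP : Nat.card P = 125) {i : T} (hi : orderOf i = 2) :
    25 * Nat.card ↥(P ⊓ centralizer ({i} : Set T)) ∣ Nat.card P :=
  dvd_five hP fun h => D.two i hi (h.trans (card_dvd_of_le inf_le_right))

theorem center_le {P E : Subgroup T} (hP : Nat.card P = 125) (hna : ¬ ∀ a ∈ P, ∀ b ∈ P, a * b = b * a)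
    (hEP : E ≤ P) (hE : Nat.card E = 25) {z : T} (hz : z ∈ P) (hzc : ∀ g ∈ P, g * z = z * g) : z ∈ E := by
  have := five
  have hn : ¬ ∀ a b : P, a * b = b * a := fun h => hna fun a ha b hb => congrArg Subtype.val (h ⟨a, ha⟩ ⟨b, hb⟩)
  have hE' : Nat.card (E.subgroupOf P) = 5 ^ 2 := by
    rw [Nat.card_congr (Subgroup.subgroupOfEquivOfLe hEP).toEquiv, hE]; norm_num
  have h1 := PCube.center_le_of_sq (p := 5) (by rw [hP]; norm_num) hn hE'
  have h2 : (⟨z, hz⟩ : P) ∈ center P := mem_center_iff.2 fun g => Subtype.ext (hzc g g.2)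
  exact h1 h2

/-- a nontrivial central element -/
theorem exists_central {P : Subgroup T} (hP : Nat.card P = 125) :
    ∃ z ∈ P, z ≠ 1 ∧ ∀ g ∈ P, g * z = z * g := by
  have := five
  have h1 : IsPGroup 5 P := IsPGroup.of_card (n := 3) (by rw [hP]; norm_num)
  have h2 : Nontrivial P := by
    rw [← Finite.one_lt_card_iff_nontrivial, hP]
    norm_num
  have h3 : Nontrivial (center P) := h1.center_nontrivial
  obtain ⟨z, hz⟩ := exists_ne (1 : center P)
  refine ⟨z.1, z.1.2, fun h => hz (Subtype.ext (Subtype.ext h)), fun g hg => ?_⟩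
  exact congrArg Subtype.val (mem_center_iff.1 z.2 ⟨g, hg⟩)

theorem Cube.cent_three (D : Cube T) {P : Subgroup T} (hP : Nat.card P = 125) {t : T} (ht : orderOf t = 3) :
    25 * Nat.card ↥(P ⊓ centralizer ({t} : Set T)) ∣ Nat.card P := by
  have := five
  refine dvd_five hP fun h => ?_
  obtain ⟨z, hz, hz1, hzc⟩ := exists_central hP
  -- a subgroup of order 25
  obtain ⟨E, hE, hEc⟩ : ∃ E : Subgroup T, E ≤ P ⊓ centralizer ({t} : Set T) ∧ Nat.card E = 25 := by
    obtain ⟨E, hE⟩ := Sylow.exists_subgroup_card_pow_prime (G := ↥(P ⊓ centralizer ({t} : Set T))) 5 (n := 2)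
      (by norm_num only [_root_.Subgroup.mem_inf]; exact h)
    refine ⟨E.map (P ⊓ centralizer ({t} : Set T)).subtype, ?_, ?_⟩
    · rintro _ ⟨x, -, rfl⟩
      exact x.2
    · rw [Subgroup.card_map_of_injective (Subgroup.subtype_injective _), hE]; norm_num
  have h2 := center_le hP (D.na P hP) (hE.trans inf_le_left) hEc hz hzc
  exact D.cent P hP z hz hz1 hzc t ht (mem_centralizer_singleton_iff.1 (hE h2).2).symm

/-- the cardinality of an invariant set of elements of order 2 or 3 -/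
theorem Cube.dvd_card (D : Cube T) {P : Subgroup T} (hP : Nat.card P = 125) (A : Set T)
    (hA : ∀ g ∈ P, ∀ a ∈ A, g * a * g⁻¹ ∈ A) (h : ∀ a ∈ A, orderOf a = 2 ∨ orderOf a = 3) : 25 ∣ Nat.card A := by
  refine dvd_ncard P A hA fun a ha => ?_
  rcases h a ha with h1 | h1
  · exact D.cent_two hP h1
  · exact D.cent_three hP h1

/-! ### numbers of involutions -/

theorem a5_count : (Finset.univ.filter fun x : Equiv.Perm (Fin 5) => Equiv.Perm.sign x = 1 ∧ x * x = 1).card = 16 := by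
  (set_option synthInstance.maxSize 9000 in open scoped Cfsg.Agent.Lib.FastPerm in decide +kernel)

theorem a6_count : (Finset.univ.filter fun x : Equiv.Perm (Fin 6) => Equiv.Perm.sign x = 1 ∧ x * x = 1).card = 46 := by
  (set_option synthInstance.maxSize 9000 in open scoped Cfsg.Agent.Lib.FastPerm in decide +kernel)

theorem alt_count {n m : ℕ}
    (h : (Finset.univ.filter fun x : Equiv.Perm (Fin n) => Equiv.Perm.sign x = 1 ∧ x * x = 1).card = m) :
    Nat.card {x : alternatingGroup (Fin n) // x * x = 1} = m := by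
  rw [← h, ← Fintype.card_subtype, ← Nat.card_eq_fintype_card]
  refine Nat.card_congr
    { toFun := fun x => ⟨x.1, Equiv.Perm.mem_alternatingGroup.1 x.1.2, congrArg Subtype.val x.2⟩
      invFun := fun x => ⟨⟨x.1, Equiv.Perm.mem_alternatingGroup.2 x.2.1⟩, Subtype.ext x.2.2⟩
      left_inv := fun x => rfl
      right_inv := fun x => rfl }

theorem count_congr {G H : Type*} [Group G] [Group H] (e : G ≃* H) :
    Nat.card {x : G // x * x = 1} = Nat.card {x : H // x * x = 1} := by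
  refine Nat.card_congr
    { toFun := fun x => ⟨e x.1, by rw [← map_mul, x.2, map_one]⟩
      invFun := fun x => ⟨e.symm x.1, by rw [← map_mul, x.2, map_one]⟩
      left_inv := fun x => Subtype.ext (e.symm_apply_apply _)
      right_inv := fun x => Subtype.ext (e.apply_symm_apply _) }

theorem count_pi {S : Type*} [Group S] [Finite S] (j : ℕ) :
    Nat.card {x : Fin j → S // x * x = 1} = Nat.card {x : S // x * x = 1} ^ j := by
  have e : {x : Fin j → S // x * x = 1} ≃ (Fin j → {x : S // x * x = 1}) :=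
    { toFun := fun x i => ⟨x.1 i, congrFun x.2 i⟩
      invFun := fun f => ⟨fun i => (f i).1, funext fun i => (f i).2⟩
      left_inv := fun x => rfl
      right_inv := fun x => rfl }
  rw [Nat.card_congr e, Nat.card_pi]
  simp only [_root_.Finset.prod_const, _root_.Finset.card_univ, _root_.Fintype.card_fin]

/-- the nonabelian simple `{2, 3, 5}`-groups of order dividing `2 ^ 9 * 3 ^ 2 * 5 ^ 3` -/
theorem simple_count (tab : OrderTable.{u}) (known : Known.{u}) {S : Type u} [Group S] [Finite S] [IsSimpleGroup S]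
    (hna : ¬ ∀ a b : S, a * b = b * a) (hd : Nat.card S ∣ 576000) :
    (Nat.card S = 60 ∧ Nat.card {x : S // x * x = 1} = 16) ∨ (Nat.card S = 360 ∧ Nat.card {x : S // x * x = 1} = 46) := by
  obtain ⟨g, hg, -, hc⟩ := exists_good tab (known S) hna (l := [(2,9),(3,2),(5,3)]) (N := 576000) (by decide +kernel) hd
  have h1 : ∀ g ∈ cands [(2,9),(3,2),(5,3)] 576000, ordN g = 60 ∨ ordN g = 360 := by decide +kernel
  rcases h1 g hg with h2 | h2
  · left
    have h3 : Nat.card S = 60 := by rw [hc, h2]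
    obtain ⟨e⟩ := Cfsg.Agent.S0494.result h3
    exact ⟨h3, (count_congr e).trans (alt_count a5_count)⟩
  · right
    have h3 : Nat.card S = 360 := by rw [hc, h2]
    obtain ⟨e⟩ := Cfsg.Agent.S0497.result h3
    exact ⟨h3, (count_congr e).trans (alt_count a6_count)⟩

/-! ### a normal 5-subgroup -/

omit [Finite T] in
theorem card_diff_one (M : Subgroup T) [Finite M] : Nat.card ((M : Set T) \ {1} : Set T) = Nat.card M - 1 := by
  rw [Nat.card_coe_set_eq, Set.ncard_sdiff_singleton_of_mem (_root_.OneMemClass.one_mem M)]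
  rfl

theorem card_inf {M C : Subgroup T} (hC : C ≤ M) :
    Nat.card ((M : Set T) \ C : Set T) = Nat.card M - Nat.card C := by
  rw [Nat.card_coe_set_eq, Set.ncard_sdiff hC (Set.toFinite _)]
  rfl

theorem five_case (D : Cube T) {R M P : Subgroup T} (hP : Nat.card P = 125) (hPR : P ≤ R) (hMP : M ≤ P)
    (hinv : ∀ g ∈ R, ∀ a ∈ M, g * a * g⁻¹ ∈ M) (hMc : ∀ a ∈ M, ∀ b ∈ M, a * b = b * a)
    {m : ℕ} (hm : Nat.card M = 5 ^ m) (hm0 : 0 < m) {t e : T} (htR : t ∈ R) (ht : orderOf t = 3)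
    (he : orderOf e = 5) (hte : t * e = e * t) {g : T} (hgR : g ∈ R) (hge : g * e * g⁻¹ ∈ P) (heR : e ∈ R) :
    False := by
  have := five
  have h3 : Fact (Nat.Prime 3) := ⟨by norm_num⟩
  obtain ⟨z, hz, hz1, hzc⟩ := exists_central hP
  have hna := D.na P hP
  have hm3 : m ≤ 3 := by
    have h1 := card_dvd_of_le hMP
    rw [hm, hP, show (125 : ℕ) = 5 ^ 3 by norm_num] at h1
    exact (Nat.pow_dvd_pow_iff_le_right (by norm_num)).1 h1
  interval_cases m
  · -- order 5
    have hA : ∀ a ∈ ((M : Set T) \ {1}), t * a * t⁻¹ ∈ ((M : Set T) \ {1}) := by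
      rintro a ⟨ha, ha1⟩
      refine ⟨hinv t htR a ha, fun h => ha1 ?_⟩
      rw [Set.mem_singleton_iff] at h ⊢
      have h2 : a = t⁻¹ * (t * a * t⁻¹) * t := by group
      rw [h2, h]; group
    obtain ⟨a, ⟨haM, ha1⟩, hta⟩ := exists_fixed ht _ hA (by rw [card_diff_one, hm]; norm_num)
    rw [Set.mem_singleton_iff] at ha1
    by_cases hac : ∀ g ∈ P, g * a = a * g
    · exact D.cent P hP a (hMP haM) ha1 hac t ht hta
    have hn : ¬ ∀ a b : P, a * b = b * a := fun h => hna fun a ha b hb => congrArg Subtype.val (h ⟨a, ha⟩ ⟨b, hb⟩)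
    obtain ⟨k, hk⟩ := PCube.exists_conj_mul (p := 5) (by rw [hP]; norm_num) hn (e := ⟨a, hMP haM⟩) (z := ⟨z, hz⟩)
      (fun h => hac fun g hg => congrArg Subtype.val (mem_center_iff.1 h ⟨g, hg⟩))
      (mem_center_iff.2 fun g => Subtype.ext (hzc g g.2))
    have hk' : (k : T) * a * (k : T)⁻¹ = z * a := congrArg Subtype.val hk
    have hzM : z ∈ M := by
      have h1 := hinv k (hPR k.2) a haM
      rw [hk'] at h1
      have h2 := M.mul_mem h1 (M.inv_mem haM)
      rwa [mul_inv_cancel_right] at h2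
    have hMa : zpowers a = M := by
      apply eq_of_le_of_card_ge (zpowers_le.2 haM)
      have h1 : Nat.card (zpowers a) ∣ 5 := by
        have h2 := card_dvd_of_le (zpowers_le.2 haM)
        rwa [hm, pow_one] at h2
      rcases (Nat.dvd_prime (by norm_num : Nat.Prime 5)).1 h1 with h2 | h2
      · exfalso
        rw [Nat.card_zpowers, orderOf_eq_one_iff] at h2
        exact ha1 h2
      · rw [h2, hm, pow_one]
    rw [← hMa] at hzM
    obtain ⟨j, rfl⟩ := mem_zpowers_iff.1 hzM
    exact D.cent P hP _ hz hz1 hzc t ht ((show Commute t a from hta).zpow_right j)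
  · -- order 25
    have hM25 : Nat.card M = 25 := by rw [hm]; norm_num
    have hzM : z ∈ M := center_le hP hna hMP hM25 hz hzc
    have hCd : Nat.card ↥(M ⊓ centralizer ({t} : Set T)) ∣ 5 ^ 2 := by
      rw [← hm]; exact card_dvd_of_le inf_le_left
    obtain ⟨k, hk, hkc⟩ := (Nat.dvd_prime_pow (by norm_num : Nat.Prime 5)).1 hCd
    have hC1 : M ⊓ centralizer ({t} : Set T) = ⊥ := by
      interval_cases k
      · exact card_eq_one.1 (by rw [hkc, pow_zero])
      · exfalso
        obtain ⟨a, ⟨haM, haC⟩, hta⟩ := exists_fixed ht ((M : Set T) \ (M ⊓ centralizer ({t} : Set T) : Subgroup T))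
          (by
            rintro a ⟨ha, ha1⟩
            refine ⟨hinv t htR a ha, fun h => ha1 ⟨ha, ?_⟩⟩
            have h2 := mem_centralizer_singleton_iff.1 h.2
            refine mem_centralizer_singleton_iff.2 ?_
            calc a * t = t⁻¹ * ((t * a * t⁻¹) * t) * t := by group
              _ = t⁻¹ * (t * (t * a * t⁻¹)) * t := by rw [h2]
              _ = _ := by group) (by
            rw [card_inf inf_le_left, hM25, hkc]; norm_num)
        exact haC ⟨haM, mem_centralizer_singleton_iff.2 hta.symm⟩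
      · exfalso
        have h1 : M ⊓ centralizer ({t} : Set T) = M := eq_of_le_of_card_ge inf_le_left (by rw [hkc, hM25]; norm_num)
        have h2 : z ∈ M ⊓ centralizer ({t} : Set T) := by rw [h1]; exact hzM
        exact D.cent P hP z hz hz1 hzc t ht (mem_centralizer_singleton_iff.1 h2.2).symm
    have heM : e ∉ M := by
      intro h
      have h1 : e ∈ M ⊓ centralizer ({t} : Set T) := ⟨h, mem_centralizer_singleton_iff.2 hte.symm⟩
      rw [hC1, mem_bot] at h1
      rw [h1, orderOf_one] at he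
      norm_num at he
    have hFd : Nat.card ↥(M ⊓ centralizer ({e} : Set T)) ∣ 5 ^ 2 := by
      rw [← hm]; exact card_dvd_of_le inf_le_left
    obtain ⟨j, hj, hjc⟩ := (Nat.dvd_prime_pow (by norm_num : Nat.Prime 5)).1 hFd
    have hF : M ⊓ centralizer ({e} : Set T) = M := by
      interval_cases j
      · exfalso
        obtain ⟨a, ⟨haM, ha1⟩, hta⟩ := exists_fixed he ((M : Set T) \ {1}) (by
            rintro a ⟨ha, ha1⟩
            refine ⟨hinv e heR a ha, fun h => ha1 ?_⟩
            rw [Set.mem_singleton_iff] at h ⊢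
            have h2 : a = e⁻¹ * (e * a * e⁻¹) * e := by group
            rw [h2, h]; group) (by
            rw [card_diff_one, hM25]; norm_num)
        have h1 : a ∈ M ⊓ centralizer ({e} : Set T) := ⟨haM, mem_centralizer_singleton_iff.2 hta.symm⟩
        have h5 : M ⊓ centralizer ({e} : Set T) = ⊥ := card_eq_one.1 (by rw [hjc, pow_zero])
        rw [h5, mem_bot] at h1
        exact ha1 h1
      · exfalso
        obtain ⟨a, ⟨haF, ha1⟩, hta⟩ := exists_fixed ht (((M ⊓ centralizer ({e} : Set T) : Subgroup T) : Set T) \ {1})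
          (by
            rintro a ⟨ha, ha1⟩
            refine ⟨⟨hinv t htR a ha.1, ?_⟩, fun h => ha1 ?_⟩
            · have h2 := mem_centralizer_singleton_iff.1 ha.2
              have h4 : t⁻¹ * e = e * t⁻¹ := (show Commute t e from hte).inv_left
              refine mem_centralizer_singleton_iff.2 ?_
              calc t * a * t⁻¹ * e = t * a * (t⁻¹ * e) := by group
                _ = t * (a * e) * t⁻¹ := by rw [h4]; group
                _ = (t * e) * a * t⁻¹ := by rw [h2]; group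
                _ = _ := by rw [hte]; group
            · rw [Set.mem_singleton_iff] at h ⊢
              have h2 : a = t⁻¹ * (t * a * t⁻¹) * t := by group
              rw [h2, h]; group) (by
            rw [card_diff_one, hjc]; norm_num)
        have h1 : a ∈ M ⊓ centralizer ({t} : Set T) := ⟨haF.1, mem_centralizer_singleton_iff.2 hta.symm⟩
        rw [hC1, mem_bot] at h1
        exact ha1 h1
      · exact eq_of_le_of_card_ge inf_le_left (by rw [hjc, hM25]; norm_num)
    -- the conjugate of `e` in `P`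
    set e' := g * e * g⁻¹ with he'
    have he'M : e' ∉ M := by
      intro h
      apply heM
      have h1 := hinv g⁻¹ (R.inv_mem hgR) e' h
      have h2 : g⁻¹ * e' * g⁻¹⁻¹ = e := by rw [he']; group
      rwa [h2] at h1
    have hMe' : M ≤ P ⊓ centralizer ({e'} : Set T) := by
      intro x hx
      refine ⟨hMP hx, ?_⟩
      have h1 := hinv g⁻¹ (R.inv_mem hgR) x hx
      rw [← hF] at h1
      have h2 := mem_centralizer_singleton_iff.1 h1.2
      refine mem_centralizer_singleton_iff.2 ?_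
      rw [he']
      calc x * (g * e * g⁻¹) = g * ((g⁻¹ * x * g⁻¹⁻¹) * e) * g⁻¹ := by group
        _ = g * (e * (g⁻¹ * x * g⁻¹⁻¹)) * g⁻¹ := by rw [h2]
        _ = _ := by group
    have he'c : ∀ x ∈ P, x * e' = e' * x := by
      have h1 : P ⊓ centralizer ({e'} : Set T) = P := by
        apply eq_of_le_of_card_ge inf_le_left
        have h2 : Nat.card ↥(P ⊓ centralizer ({e'} : Set T)) ∣ 5 ^ 3 := by
          rw [show (5 : ℕ) ^ 3 = 125 by norm_num, ← hP]
          exact card_dvd_of_le inf_le_left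
        obtain ⟨i, hi, hic⟩ := (Nat.dvd_prime_pow (by norm_num : Nat.Prime 5)).1 h2
        have h3 : M < P ⊓ centralizer ({e'} : Set T) :=
          lt_of_le_of_ne hMe' fun h => he'M (by rw [h]; exact ⟨hge, mem_centralizer_singleton_iff.2 rfl⟩)
        have h4 : Nat.card M < Nat.card ↥(P ⊓ centralizer ({e'} : Set T)) := by
          refine lt_of_le_of_ne (card_le_of_le h3.le) fun h => h3.ne ?_
          exact eq_of_le_of_card_ge h3.le h.ge
        rw [hm, hic] at h4
        have h5 : 2 < i := (Nat.pow_lt_pow_iff_right (by norm_num)).1 h4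
        have h6 : i = 3 := by omega
        rw [hic, h6, hP]; norm_num
      intro x hx
      rw [← h1] at hx
      exact mem_centralizer_singleton_iff.1 hx.2
    exact he'M (center_le hP hna hMP hM25 hge he'c)
  · -- order 125
    have h1 : M = P := eq_of_le_of_card_ge hMP (by rw [hm, hP]; norm_num)
    rw [← h1] at hna
    exact hna hMc

/-! ### the main theorem -/

theorem not_dvd_two {m : ℕ} (h : 2 ^ m ∣ 576000) (h0 : 0 < m) : ¬ 25 ∣ 2 ^ m - 1 := by
  have h1 : m ≤ 9 := by
    by_contra hc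
    have h2 : 2 ^ 10 ∣ 576000 := (pow_dvd_pow 2 (by omega)).trans h
    norm_num at h2
  interval_cases m <;> norm_num

theorem not_dvd_three {m : ℕ} (h : 3 ^ m ∣ 576000) (h0 : 0 < m) : ¬ 25 ∣ 3 ^ m - 1 := by
  have h1 : m ≤ 2 := by
    by_contra hc
    have h2 : 3 ^ 3 ∣ 576000 := (pow_dvd_pow 3 (by omega)).trans h
    norm_num at h2
  interval_cases m <;> norm_num

theorem not_dvd_a5 {m : ℕ} (h : 60 ^ m ∣ 576000) (h0 : 0 < m) : ¬ 25 ∣ 16 ^ m - 1 := by
  have h1 : m ≤ 2 := by
    by_contra hc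
    have h2 : 60 ^ 3 ∣ 576000 := (pow_dvd_pow 60 (by omega)).trans h
    norm_num at h2
  interval_cases m <;> norm_num

theorem not_dvd_a6 {m : ℕ} (h : 360 ^ m ∣ 576000) (h0 : 0 < m) : ¬ 25 ∣ 46 ^ m - 1 := by
  have h1 : m ≤ 1 := by
    by_contra hc
    have h2 : 360 ^ 2 ∣ 576000 := (pow_dvd_pow 360 (by omega)).trans h
    norm_num at h2
  interval_cases m
  norm_num

/-- **no element of order 15** -/
theorem Cube.no_fifteen (D : Cube T) (tab : OrderTable.{u}) (known : Known.{u}) {R : Subgroup T}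
    (h125 : 125 ∣ Nat.card R) (hR : Nat.card R ∣ 576000) : ∀ w ∈ R, orderOf w ≠ 15 := by
  intro w hwR hw
  have h5' := five
  have h3' : Fact (Nat.Prime 3) := ⟨by norm_num⟩
  have ht : orderOf (w ^ 5) = 3 := by
    rw [orderOf_pow_of_dvd (by norm_num) (by rw [hw]; norm_num), hw]
  have he : orderOf (w ^ 3) = 5 := by
    rw [orderOf_pow_of_dvd (by norm_num) (by rw [hw]; norm_num), hw]
  have hte : w ^ 5 * w ^ 3 = w ^ 3 * w ^ 5 := ((Commute.refl w).pow_pow 5 3).eq
  -- the Sylow 5-subgroup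
  have hfac : (Nat.card R).factorization 5 = 3 := by
    apply le_antisymm
    · by_contra hc
      have h1 : 5 ^ 4 ∣ Nat.card R :=
        ((by norm_num : Nat.Prime 5).pow_dvd_iff_le_factorization Nat.card_pos.ne').2 (by omega)
      have h2 := h1.trans hR
      norm_num at h2
    · exact ((by norm_num : Nat.Prime 5).pow_dvd_iff_le_factorization Nat.card_pos.ne').1 (by norm_num only []; exact h125)
  obtain ⟨P₀⟩ : Nonempty (Sylow 5 R) := inferInstance
  have hP₀ : Nat.card P₀ = 125 := by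
    rw [P₀.card_eq_multiplicity, hfac]; norm_num
  set! P : Subgroup T := (P₀ : Subgroup R).map R.subtype with hPdef
  have hP : Nat.card P = 125 := by
    rw [hPdef, Subgroup.card_map_of_injective R.subtype_injective]
    exact hP₀
  have hPR : P ≤ R := by
    rw [hPdef]
    rintro _ ⟨x, -, rfl⟩
    exact x.2
  have hnt : Nontrivial R := by
    rw [← Finite.one_lt_card_iff_nontrivial]
    exact lt_of_lt_of_le (by norm_num) (Nat.le_of_dvd Nat.card_pos h125)
  obtain ⟨L, hL, hL1, hmin⟩ := Cfsg.Agent.Lib.SubnormalJoin.exists_minimal_normal R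
  obtain ⟨S, m, hSL, hS, hm0, ⟨φ⟩⟩ := Cfsg.Agent.Lib.MinNormal.exists_mulEquiv_pi L hL1 hmin
  have hcL : Nat.card L = Nat.card S ^ m := by
    rw [Nat.card_congr φ.toEquiv, Nat.card_pi]
    simp only [_root_.Finset.prod_const, _root_.Finset.card_univ, _root_.Fintype.card_fin]
  have hLR : Nat.card L ∣ Nat.card R := card_subgroup_dvd_card L
  set! M : Subgroup T := L.map R.subtype with hMdef
  have hcM : Nat.card M = Nat.card S ^ m := by
    rw [hMdef, Subgroup.card_map_of_injective R.subtype_injective, hcL]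
  have hdM : Nat.card S ^ m ∣ 576000 := by
    rw [← hcL]
    exact hLR.trans hR
  have hinv : ∀ g ∈ R, ∀ a ∈ M, g * a * g⁻¹ ∈ M := by
    rintro g hg _ ⟨a, ha, rfl⟩
    exact ⟨⟨g, hg⟩ * a * ⟨g, hg⟩⁻¹, hL.conj_mem a ha ⟨g, hg⟩, rfl⟩
  by_cases hc : ∀ a b : S, a * b = b * a
  · -- elementary abelian
    have hq : (Nat.card S).Prime := by
      let _ : CommGroup S := { (inferInstance : Group S) with mul_comm := hc }
      exact IsSimpleGroup.prime_card
    have hexp : ∀ a ∈ M, a ^ Nat.card S = 1 := by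
      rintro _ ⟨a, ha, rfl⟩
      have h1 : (⟨a, ha⟩ : L) ^ Nat.card S = 1 := by
        apply φ.injective
        rw [map_pow, map_one]
        funext i
        rw [Pi.pow_apply, Pi.one_apply]
        exact pow_card_eq_one'
      have h2 : a ^ Nat.card S = 1 := congrArg Subtype.val h1
      have h3 := congrArg (R.subtype) h2
      rwa [map_pow, map_one] at h3
    have hA : ∀ g ∈ P, ∀ a ∈ ((M : Set T) \ {1}), g * a * g⁻¹ ∈ ((M : Set T) \ {1}) := by
      rintro g hg a ⟨ha, ha1⟩
      refine ⟨hinv g (hPR hg) a ha, fun h => ha1 ?_⟩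
      rw [Set.mem_singleton_iff] at h ⊢
      have h2 : a = g⁻¹ * (g * a * g⁻¹) * g := by group
      rw [h2, h]; group
    have hcases : Nat.card S = 2 ∨ Nat.card S = 3 ∨ Nat.card S = 5 := by
      have h1 : Nat.card S ∣ 2 ^ 9 * 3 ^ 2 * 5 ^ 3 := by
        have h2 := (dvd_pow_self (Nat.card S) hm0.ne').trans hdM
        norm_num only []
        exact h2
      rcases (hq.dvd_mul).1 h1 with h2 | h2
      · rcases (hq.dvd_mul).1 h2 with h3 | h3
        · exact Or.inl ((Nat.prime_dvd_prime_iff_eq hq Nat.prime_two).1 (hq.dvd_of_dvd_pow h3))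
        · exact Or.inr (Or.inl ((Nat.prime_dvd_prime_iff_eq hq Nat.prime_three).1 (hq.dvd_of_dvd_pow h3)))
      · exact Or.inr (Or.inr ((Nat.prime_dvd_prime_iff_eq hq (by norm_num)).1 (hq.dvd_of_dvd_pow h2)))
    rcases hcases with h2 | h2 | h2
    · rw [h2] at hcM hdM hexp
      refine not_dvd_two hdM hm0 ?_
      rw [← hcM, ← card_diff_one]
      refine D.dvd_card hP _ hA fun a ha => Or.inl (orderOf_eq_prime (hexp a ha.1) ?_)
      exact ha.2
    · rw [h2] at hcM hdM hexp
      refine not_dvd_three hdM hm0 ?_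
      rw [← hcM, ← card_diff_one]
      refine D.dvd_card hP _ hA fun a ha => Or.inr (orderOf_eq_prime (hexp a ha.1) ?_)
      exact ha.2
    · rw [h2] at hcM
      have key : ∀ Q : Subgroup R, IsPGroup 5 Q → ∃ g : R, ∀ x ∈ Q, g * x * g⁻¹ ∈ (P₀ : Subgroup R) := by
        intro Q hQ
        obtain ⟨P₁, hP₁⟩ := hQ.exists_le_sylow
        obtain ⟨g, hg⟩ := MulAction.exists_smul_eq R P₁ P₀
        refine ⟨g, fun x hx => ?_⟩
        rw [← hg, Sylow.coe_subgroup_smul]
        exact ⟨x, hP₁ hx, rfl⟩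
      obtain ⟨g, hg⟩ := key L (IsPGroup.of_card (n := m) (by rw [hcL, h2]))
      have hMP : M ≤ P := by
        rintro _ ⟨x, hx, rfl⟩
        have h3 := hL.conj_mem x hx g⁻¹
        have h4 := hg _ h3
        have h5 : g * (g⁻¹ * x * g⁻¹⁻¹) * g⁻¹ = x := by group
        rw [h5] at h4
        exact ⟨x, h4, rfl⟩
      have hMc : ∀ a ∈ M, ∀ b ∈ M, a * b = b * a := by
        rintro _ ⟨a, ha, rfl⟩ _ ⟨b, hb, rfl⟩
        have h3 : (⟨a, ha⟩ : L) * ⟨b, hb⟩ = ⟨b, hb⟩ * ⟨a, ha⟩ := by
          apply φ.injective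
          rw [map_mul, map_mul]
          funext i
          exact hc _ _
        have h4 := congrArg (fun x : L => ((x : R) : T)) h3
        exact h4
      have heR : w ^ 3 ∈ R := pow_mem hwR 3
      obtain ⟨k, hk⟩ := key (zpowers (⟨w ^ 3, heR⟩ : R)) (IsPGroup.of_card (n := 1) (by
        rw [Nat.card_zpowers, Subgroup.orderOf_mk, he, pow_one]))
      have hk' := hk _ (mem_zpowers _)
      exact five_case D hP hPR hMP hinv hMc hcM hm0 (pow_mem hwR 5) ht he hte (g := (k : T)) k.2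
        ⟨k * ⟨w ^ 3, heR⟩ * k⁻¹, hk', rfl⟩ heR
  · -- nonabelian
    have hA : ∀ g ∈ P, ∀ a ∈ {a : T | a ∈ M ∧ a * a = 1 ∧ a ≠ 1}, g * a * g⁻¹ ∈ {a : T | a ∈ M ∧ a * a = 1 ∧ a ≠ 1} := by
      rintro g hg a ⟨ha, ha2, ha1⟩
      refine ⟨hinv g (hPR hg) a ha, ?_, fun h => ha1 ?_⟩
      · calc g * a * g⁻¹ * (g * a * g⁻¹) = g * (a * a) * g⁻¹ := by group
          _ = 1 := by rw [ha2]; group
      · have h2 : a = g⁻¹ * (g * a * g⁻¹) * g := by group
        rw [h2, h]; group
    have hcard : Nat.card {a : T | a ∈ M ∧ a * a = 1 ∧ a ≠ 1} = Nat.card {x : S // x * x = 1} ^ m - 1 := by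
      rw [← count_pi, ← count_congr φ]
      have e1 : {x : L // x * x = 1} ≃ {a : T | a ∈ M ∧ a * a = 1} :=
        { toFun := fun x => ⟨((x.1 : R) : T), ⟨x.1, x.1.2, rfl⟩, congrArg (fun y : L => ((y : R) : T)) x.2⟩
          invFun := fun a => ⟨⟨⟨a.1, by obtain ⟨y, -, hy⟩ := a.2.1; rw [← hy]; exact y.2⟩, by
            obtain ⟨y, hy, hya⟩ := a.2.1
            have h1 : (⟨a.1, by rw [← hya]; exact y.2⟩ : R) = y := Subtype.ext hya.symm
            rw [h1]; exact hy⟩, Subtype.ext (Subtype.ext a.2.2)⟩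
          left_inv := fun x => rfl
          right_inv := fun a => rfl }
      rw [Nat.card_congr e1]
      have h1 : {a : T | a ∈ M ∧ a * a = 1 ∧ a ≠ 1} = {a : T | a ∈ M ∧ a * a = 1} \ {1} := by
        ext a
        simp only [Set.mem_setOf_eq, Set.mem_sdiff, Set.mem_singleton_iff]
        (clear * -; tauto)
      rw [h1, Nat.card_coe_set_eq, Set.ncard_sdiff_singleton_of_mem
        (show (1 : T) ∈ {a : T | a ∈ M ∧ a * a = 1} from ⟨_root_.OneMemClass.one_mem M, by simp⟩), ← Nat.card_coe_set_eq]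
    have h25 := D.dvd_card hP _ hA fun a ha => Or.inl (orderOf_eq_prime (by rw [pow_two]; exact ha.2.1) ha.2.2)
    rw [hcard] at h25
    rcases simple_count tab known hc ((dvd_pow_self _ hm0.ne').trans hdM) with ⟨h1, h2⟩ | ⟨h1, h2⟩
    · rw [h2] at h25
      rw [h1] at hdM
      exact not_dvd_a5 hdM hm0 h25
    · rw [h2] at h25
      rw [h1] at hdM
      exact not_dvd_a6 hdM hm0 h25

end main

end Cfsg.Agent.H602.Der
end

-- part: H602/Der/HSRow
section
set_option linter.all false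
open scoped Cfsg.Agent.FastGrp

/-!
# S3502, the row HS (helper602)
-/

set_option autoImplicit false

namespace Cfsg.Agent.H602.Der

open Subgroup
open Cfsg.Agent.OrdDiv Cfsg.Agent.H257.El Cfsg.Agent.H439.Der Cfsg.Agent.H604.Sax Cfsg.Agent.H938.Sax

universe u

section cube

variable {T : Type u} [Group T] [Finite T]

/-- the condition `Cube` for one subgroup of order 125 -/
theorem cube_of (h4 : ¬ 5 ^ 4 ∣ Nat.card T) {P : Subgroup T} (hP : Nat.card P = 125)
    (hna : ¬ ∀ a ∈ P, ∀ b ∈ P, a * b = b * a) {c : T} (hc : c ∈ P) (hc5 : orderOf c = 5)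
    (hcc : ∀ g ∈ P, g * c = c * g) (h3 : ¬ 3 ∣ Nat.card (centralizer ({c} : Set T)))
    (two : ∀ i : T, orderOf i = 2 → ¬ 25 ∣ Nat.card (centralizer ({i} : Set T))) : Cube T := by
  have := five
  have hfac : (Nat.card T).factorization 5 = 3 := by
    apply le_antisymm
    · by_contra hc
      exact h4 (((by norm_num : Nat.Prime 5).pow_dvd_iff_le_factorization Nat.card_pos.ne').2 (by omega))
    · refine ((by norm_num : Nat.Prime 5).pow_dvd_iff_le_factorization Nat.card_pos.ne').1 ?_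
      have h5 : Nat.card P ∣ Nat.card T := card_subgroup_dvd_card P
      rw [hP] at h5
      exact h5
  have key : ∀ Q : Subgroup T, Nat.card Q = 125 → ∃ g : T, (∀ x ∈ Q, g * x * g⁻¹ ∈ P) ∧ ∀ x ∈ P, g⁻¹ * x * g ∈ Q := by
    intro Q hQ
    obtain ⟨g, hg⟩ := MulAction.exists_smul_eq T (Sylow.ofCard Q (by rw [hQ, hfac]; norm_num))
      (Sylow.ofCard P (by rw [hP, hfac]; norm_num))
    have hg' : (Q.map (MulAut.conj g).toMonoidHom) = P := by
      have h5 := congrArg (fun S : Sylow 5 T => (S : Subgroup T)) hg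
      rw [Sylow.coe_subgroup_smul] at h5
      exact h5
    refine ⟨g, fun x hx => ?_, fun x hx => ?_⟩
    · rw [← hg']
      exact ⟨x, hx, rfl⟩
    · rw [← hg'] at hx
      obtain ⟨y, hy, rfl⟩ := hx
      have h6 : g⁻¹ * (MulAut.conj g).toMonoidHom y * g = y := by
        change g⁻¹ * (g * y * g⁻¹) * g = y
        group
      rw [h6]
      exact hy
  have hn : ¬ ∀ a b : P, a * b = b * a := fun h => hna fun a ha b hb => congrArg Subtype.val (h ⟨a, ha⟩ ⟨b, hb⟩)
  refine ⟨fun Q hQ hQa => ?_, fun Q hQ z hz hz1 hzc t ht htz => ?_, two⟩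
  · obtain ⟨g, -, hg⟩ := key Q hQ
    apply hna
    intro a ha b hb
    have h5 := hQa _ (hg a ha) _ (hg b hb)
    calc a * b = g * ((g⁻¹ * a * g) * (g⁻¹ * b * g)) * g⁻¹ := by group
      _ = g * ((g⁻¹ * b * g) * (g⁻¹ * a * g)) * g⁻¹ := by rw [h5]
      _ = b * a := by group
  · obtain ⟨g, hg1, hg2⟩ := key Q hQ
    apply h3
    -- the conjugates
    set z' := g * z * g⁻¹ with hz'
    set t' := g * t * g⁻¹ with ht'
    have hz'P : z' ∈ P := hg1 z hz
    have hz'c : ∀ x ∈ P, x * z' = z' * x := by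
      intro x hx
      have h5 := hzc _ (hg2 x hx)
      calc x * z' = g * ((g⁻¹ * x * g) * z) * g⁻¹ := by rw [hz']; group
        _ = g * (z * (g⁻¹ * x * g)) * g⁻¹ := by rw [h5]
        _ = z' * x := by rw [hz']; group
    have hz'1 : z' ≠ 1 := by
      intro h
      apply hz1
      have h5 : z = g⁻¹ * z' * g := by rw [hz']; group
      rw [h5, h]; group
    have htz' : t' * z' = z' * t' := by
      calc t' * z' = g * (t * z) * g⁻¹ := by rw [ht', hz']; group
        _ = g * (z * t) * g⁻¹ := by rw [htz]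
        _ = z' * t' := by rw [ht', hz']; group
    have ht'3 : orderOf t' = 3 := by rw [ht', H439.Der.orderOf_conj, ht]
    -- the centre
    have hZ := PCube.card_center (p := 5) (by rw [hP]; norm_num) hn
    have hzp : zpowers (⟨z', hz'P⟩ : P) = center P := by
      apply eq_of_le_of_card_ge
      · rw [zpowers_le, mem_center_iff]
        exact fun x => Subtype.ext (hz'c x x.2)
      · rw [hZ, Nat.card_zpowers, Subgroup.orderOf_mk]
        have h5 : orderOf z' ∣ 5 := by
          have h6 : (⟨z', hz'P⟩ : P) ∈ center P := mem_center_iff.2 fun x => Subtype.ext (hz'c x x.2)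
          have h7 := Subgroup.orderOf_dvd_natCard _ h6
          rwa [hZ, Subgroup.orderOf_mk] at h7
        rcases (Nat.dvd_prime (by norm_num : Nat.Prime 5)).1 h5 with h6 | h6
        · exact absurd (orderOf_eq_one_iff.1 h6) hz'1
        · exact h6.ge
    have hcz : (⟨c, hc⟩ : P) ∈ zpowers (⟨z', hz'P⟩ : P) := by
      rw [hzp, mem_center_iff]
      exact fun x => Subtype.ext (hcc x x.2)
    obtain ⟨j, hj⟩ := mem_zpowers_iff.1 hcz
    have hj' : z' ^ j = c := congrArg Subtype.val hj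
    have htc : t' * c = c * t' := by
      rw [← hj']
      exact ((show Commute t' z' from htz').zpow_right j).eq
    have h5 : t' ∈ centralizer ({c} : Set T) := mem_centralizer_singleton_iff.2 htc
    have h6 := Subgroup.orderOf_dvd_natCard _ h5
    rwa [ht'3] at h6

/-- a nonabelian subgroup generated by `u` and `v` -/
theorem exists_sub {u v c : T} (h4 : ¬ 5 ^ 4 ∣ Nat.card T) (hu : orderOf u = 5) (hv : orderOf v = 5)
    (hc : orderOf c = 5) (huc : u * c = c * u) (hvc : v * c = c * v) (h : u * v = c * (v * u)) :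
    ∃ P : Subgroup T, Nat.card P = 125 ∧ (¬ ∀ a ∈ P, ∀ b ∈ P, a * b = b * a) ∧ c ∈ P ∧ ∀ g ∈ P, g * c = c * g := by
  have := five
  obtain ⟨H, hH, huH, hvH, hcH, hHc⟩ := PCube.exists_sub_five (by rw [← hu, pow_orderOf_eq_one])
    (by rw [← hv, pow_orderOf_eq_one]) (by rw [← hc, pow_orderOf_eq_one]) huc hvc h
  have hna : ¬ ∀ a ∈ H, ∀ b ∈ H, a * b = b * a := by
    intro h1
    have h2 := h1 u huH v hvH
    rw [h] at h2
    have h3 : c = 1 := by
      calc c = c * (v * u) * (v * u)⁻¹ := by group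
        _ = 1 := by rw [h2]; group
    rw [h3, orderOf_one] at hc
    norm_num at hc
  refine ⟨H, ?_, hna, hcH, hHc⟩
  obtain ⟨k, hk⟩ := IsPGroup.iff_card.1 hH
  have hk3 : k ≤ 3 := by
    by_contra hc
    apply h4
    refine (pow_dvd_pow 5 (by omega : 4 ≤ k)).trans ?_
    rw [← hk]
    exact card_subgroup_dvd_card H
  have comm : (∀ a b : H, a * b = b * a) → False := fun h1 =>
    hna fun a ha b hb => congrArg Subtype.val (h1 ⟨a, ha⟩ ⟨b, hb⟩)
  interval_cases k
  · exfalso
    have h1 : H = ⊥ := card_eq_one.1 (by rw [hk, pow_zero])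
    rw [h1, mem_bot] at hcH
    rw [hcH, orderOf_one] at hc
    norm_num at hc
  · exfalso
    have h1 : IsCyclic H := isCyclic_of_prime_card (p := 5) (by rw [hk, pow_one])
    exact comm (IsCyclic.isMulCommutative (α := H)).is_comm.comm
  · exfalso
    exact comm (IsPGroup.isMulCommutative_of_card_eq_prime_sq (p := 5) hk).is_comm.comm
  · rw [hk]; norm_num

end cube

namespace HS

/-- the data -/
structure Dat (T : Type u) [Group T] : Prop where
  card : Nat.card T = 44352000
  seven : SelfC T 7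
  eleven : SelfC T 11
  cube : Cube T
  fiveA : ∃ a : T, orderOf a = 5 ∧ 125 ∣ Nat.card (centralizer ({a} : Set T)) ∧
    ¬ 3 ∣ Nat.card (centralizer ({a} : Set T))
  fiveB : ∃ b : T, orderOf b = 5 ∧ 3 ∣ Nat.card (centralizer ({b} : Set T)) ∧
    50 < Nat.card (centralizer ({b} : Set T))
  fiveC : ∃ c : T, orderOf c = 5 ∧ Nat.card (centralizer ({c} : Set T)) ≤ 50
  ten : ∃ x : T, orderOf x = 10
  twelve : ∃ x : T, orderOf x = 12
  fifteen : ∃ x : T, orderOf x = 15
  twenty : ∃ x : T, orderOf x = 20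

open Cfsg.Agent.HN Cfsg.Agent.HN.HS100 in
theorem exists_ord {L : Type u} [Group L] (h : Cfsg.Spor.IsoHS L) {m : ℕ} (hm : H92.KTools.HasOrd Q m) :
    ∃ x : L, orderOf x = m := H153.Zeros.hs_ord h hm

theorem dat {T : Type u} [Group T] (h : Cfsg.Spor.IsoHS T) : Dat T := by
  have hc := NotCT.Orders.hs h
  have : Finite T := Nat.finite_of_card_ne_zero (by rw [hc]; norm_num)
  obtain ⟨D, ψ, Rp⟩ := H904.HSCent.exists_rep h
  obtain ⟨u, v, c, w, hu, hv, hc5, huc, hvc, huv, hle, hw, hw4⟩ := HSFive.exists_five' Rp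
  have h4 : ¬ 5 ^ 4 ∣ Nat.card T := by rw [hc]; norm_num
  obtain ⟨P, hP, hna, hcP, hcc⟩ := exists_sub h4 hu hv hc5 huc hvc huv
  have h125 : 125 ∣ Nat.card (centralizer ({c} : Set T)) := by
    rw [← hP]
    refine card_dvd_of_le fun g hg => ?_
    exact mem_centralizer_singleton_iff.2 (hcc g hg)
  have h4c : 4 ∣ Nat.card (centralizer ({c} : Set T)) := by
    rw [← hw4]
    apply Subgroup.orderOf_dvd_natCard
    rw [mem_centralizer_singleton_iff, ← hw]
    exact ((Commute.refl w).pow_pow 5 4).eq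
  have h3 : ¬ 3 ∣ Nat.card (centralizer ({c} : Set T)) := by
    intro h3
    have h5 : 125 * 4 * 3 ∣ Nat.card (centralizer ({c} : Set T)) :=
      Nat.Coprime.mul_dvd_of_dvd_of_dvd (by norm_num) (Nat.Coprime.mul_dvd_of_dvd_of_dvd (by norm_num) h125 h4c) h3
    have h6 := Nat.le_of_dvd Nat.card_pos h5
    omega
  have two : ∀ i : T, orderOf i = 2 → ¬ 25 ∣ Nat.card (centralizer ({i} : Set T)) := by
    intro i hi
    have h1 : i * i = 1 := by rw [← pow_two, ← hi, pow_orderOf_eq_one]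
    have h2 : i ≠ 1 := by
      rintro rfl
      rw [orderOf_one] at hi
      norm_num at hi
    rcases Rp.inv_cases i h1 h2 with h5 | ⟨h5, -⟩ <;> rw [h5] <;> norm_num
  obtain ⟨y, hy, hy50⟩ := H904.El.HS.exists_small Rp
  obtain ⟨x, t, hx, ht, hxt⟩ := H904.El.HS.exists_large Rp
  have hlt := H904.El.card_cent_five (by rw [hc]; norm_num) hx ht hxt
  refine ⟨hc, fun x hx => H904.HSIso.card_seven h hx, fun x hx => H904.HSIso.card_eleven h hx,
    cube_of h4 hP hna hcP hc5 hcc h3 two, ⟨c, hc5, h125, h3⟩, ⟨x, hx, H904.El.dvd_cent_of_comm ht hxt, hlt⟩,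
    ⟨y, hy, hy50⟩, exists_ten_hs h, exists_ord h H153.Zeros.hs_twelve, ?_, exists_ord h H153.Zeros.hs_twenty⟩
  refine ⟨x * t, ?_⟩
  rw [(show Commute x t from hxt).orderOf_mul_eq_mul_orderOf_of_coprime (by rw [hx, ht]; norm_num), hx, ht]

variable {T : Type u} [Group T] [Finite T]

/-- the elements of order 5: two of three classes are missing -/
theorem Dat.not_sq (D : Dat T) {R : Subgroup T} (h25 : ¬ 25 ∣ Nat.card R) {w : T} (hw : NoIm R w)
    (hw5 : orderOf w ≠ 5) : Three T R := by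
  have := five
  obtain ⟨a, ha, ha1, ha3⟩ := D.fiveA
  obtain ⟨b, hb, hb3, hb50⟩ := D.fiveB
  obtain ⟨c, hc, hc50⟩ := D.fiveC
  have ha125 := Nat.le_of_dvd Nat.card_pos ha1
  refine two_miss_of_cyclic (s := 5) (cyc_of_sq (by norm_num; exact h25)) ha hb hc (fun h => ha3 (by rw [h]; exact hb3))
    (by omega) (by omega) hw hw5

end HS

end Cfsg.Agent.H602.Der
end
end
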